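import Mathlib.AlgebraicGeometry.Sites.Representability
import Mathlib.CategoryTheory.Sites.Over
import Mathlib.CategoryTheory.Sites.Subcanonical

/-!
# Representability of Zariski sheaves on schemes over a base from open covers by representable subfunctors
-/

set_option autoImplicit false
set_option backward.isDefEq.respectTransparency.types false

universe u

open CategoryTheory CategoryTheory.Limits AlgebraicGeometry Opposite

noncomputable section

namespace Groth.Agent.MagnetLib.RepGlue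

variable {S : Scheme.{u}} (F : (Over S)ᵒᵖ ⥤ Type u)

/-- A section of `F` together with the structure map. -/
structure Pt (T : Scheme.{u}) : Type u where
  str : T ⟶ S
  v : F.obj (op (Over.mk str))

variable {F}

abbrev Pt.of {T : Over S} (v : F.obj (op T)) : Pt F T.left := ⟨T.hom, v⟩

def Pt.map {T T' : Scheme.{u}} (a : T' ⟶ T) (p : Pt F T) : Pt F T' :=
  ⟨a ≫ p.str, F.map (Over.homMk a rfl : Over.mk (a ≫ p.str) ⟶ Over.mk p.str).op p.v⟩

theorem map_map {T T' T'' : Over S} (a : T' ⟶ T) (b : T'' ⟶ T') (v : F.obj (op T)) :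
    F.map b.op (F.map a.op v) = F.map (b ≫ a).op v := by
  rw [op_comp, Functor.map_comp]; rfl

theorem Pt.ext' {T : Scheme.{u}} {p q : Pt F T} (h : p.str = q.str)
    (hv : F.map (Over.homMk (𝟙 T) (by simp [h]) : Over.mk p.str ⟶ Over.mk q.str).op q.v = p.v) :
    p = q := by
  obtain ⟨s, v⟩ := p
  obtain ⟨s', v'⟩ := q
  obtain rfl : s = s' := h
  rw [show (Over.homMk (𝟙 T) (by simp) : Over.mk s ⟶ Over.mk s) = 𝟙 _ from Over.OverMorphism.ext rfl] at hv
  have e : F.map (𝟙 (Over.mk s)).op v' = v' := by simp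
  exact congrArg (Pt.mk s) (hv.symm.trans e)

theorem Pt.map_eq_iff {T T' : Over S} (a : T' ⟶ T) (v : F.obj (op T)) (v' : F.obj (op T')) :
    Pt.map a.left (Pt.of v) = Pt.of v' ↔ F.map a.op v = v' := by
  constructor
  · intro h
    have key : ∀ (p : Pt F T'.left) (hs : T'.hom = p.str), p = Pt.of v' →
        F.map (Over.homMk (𝟙 _) (by simp [← hs]) : T' ⟶ Over.mk p.str).op p.v = v' := by
      rintro p hs rfl
      exact (congrArg (fun m : T' ⟶ T' => F.map m.op v')
        (Over.OverMorphism.ext rfl : (Over.homMk (𝟙 _) (by simp) : T' ⟶ T') = 𝟙 T')).trans (by simp)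
    refine Eq.trans ?_ (key _ (Over.w a).symm h)
    show _ = F.map _ (F.map _ v)
    refine Eq.trans ?_ (map_map _ _ v).symm
    refine congrArg (fun m : T' ⟶ T => F.map m.op v) (Over.OverMorphism.ext ?_)
    exact (Category.id_comp _).symm
  · intro h
    refine Pt.ext' (Over.w a) ?_
    show F.map _ v' = F.map _ v
    rw [← h, map_map]
    refine congrArg (fun m : _ ⟶ T => F.map m.op v) (Over.OverMorphism.ext ?_)
    exact Category.id_comp _

theorem Pt.map_id {T : Scheme.{u}} (p : Pt F T) : Pt.map (𝟙 T) p = p :=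
  (Pt.map_eq_iff (T := Over.mk p.str) (T' := Over.mk p.str) (𝟙 _) p.v p.v).mpr (by simp)

theorem Pt.map_comp {T T' T'' : Scheme.{u}} (a : T' ⟶ T) (b : T'' ⟶ T') (p : Pt F T) :
    Pt.map (b ≫ a) p = Pt.map b (Pt.map a p) := by
  refine Pt.ext' (Category.assoc b a p.str) ?_
  show F.map _ (F.map _ (F.map _ p.v)) = F.map _ p.v
  refine (congrArg _ (map_map _ _ p.v)).trans ((map_map _ _ p.v).trans ?_)
  refine congrArg (fun m : _ ⟶ Over.mk p.str => F.map m.op p.v) (Over.OverMorphism.ext ?_)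
  show (𝟙 T'' ≫ b) ≫ a = b ≫ a
  rw [Category.id_comp]

variable (F)

/-- `F` as a presheaf on all schemes. -/
def presheaf : Scheme.{u}ᵒᵖ ⥤ Type u where
  obj T := Pt F T.unop
  map a := ↾ (Pt.map a.unop)
  map_id T := by ext p; exact Pt.map_id p
  map_comp a b := by ext p; exact Pt.map_comp a.unop b.unop p

theorem isSheaf_presheaf (hF : Presieve.IsSheaf (Scheme.zariskiTopology.{u}.over S) F) :
    Presheaf.IsSheaf Scheme.zariskiTopology (presheaf F) := by
  rw [isSheaf_iff_isSheaf_of_type]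
  intro T R hR x hx
  have hS : Presieve.IsSheaf Scheme.zariskiTopology (yoneda.obj S) :=
    GrothendieckTopology.Subcanonical.isSheaf_of_isRepresentable _
  have hxs := (Presieve.compatible_iff_sieveCompatible x).1 hx
  have hxs' : ∀ {V W : Scheme.{u}} (k : W ⟶ T) (hk : R.arrows k) (h : V ⟶ W) {k' : V ⟶ T} (hk' : R.arrows k'),
      k' = h ≫ k → (x k' hk' : Pt F V) = Pt.map h (x k hk) := fun k hk h k' hk' e => by
    subst e
    exact hxs k h hk
  let y : Presieve.FamilyOfElements (yoneda.obj S) R.arrows := fun W g hg => (x g hg : Pt F W).str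
  have hy : y.Compatible := by
    rw [Presieve.compatible_iff_sieveCompatible]
    intro V W g h hg
    exact congrArg Pt.str (hxs' g hg h (R.downward_closed hg h) rfl)
  obtain ⟨str, hstr, hstru⟩ := hS R hR y hy
  let T₀ : Over S := Over.mk str
  let R' : Sieve T₀ := (Sieve.overEquiv T₀).symm R
  have hR' : R' ∈ (Scheme.zariskiTopology.{u}.over S) T₀ := by
    rw [GrothendieckTopology.mem_over_iff]; exact (congrArg (· ∈ Scheme.zariskiTopology T) (OrderIso.apply_symm_apply (Sieve.overEquiv T₀) R)).mpr hR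
  have hmem : ∀ {W : Over S} (k : W ⟶ T₀), R'.arrows k ↔ R.arrows k.left := fun k => Sieve.overEquiv_symm_iff _ _
  have hs : ∀ {W : Over S} (k : W ⟶ T₀) (hk : R.arrows k.left), W.hom = (x k.left hk : Pt F W.left).str :=
    fun k hk => (Over.w k).symm.trans (hstr k.left hk)
  let z : Presieve.FamilyOfElements F R'.arrows := fun W k hk =>
    F.map (Over.homMk (𝟙 _) ((Category.id_comp _).trans (hs k ((hmem k).1 hk)).symm) :
      W ⟶ Over.mk (x k.left ((hmem k).1 hk) : Pt F W.left).str).op (x k.left ((hmem k).1 hk) : Pt F W.left).v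
  have hzof : ∀ {W : Over S} (k : W ⟶ T₀) (hk : R'.arrows k),
      Pt.of (z k hk) = (x k.left ((hmem k).1 hk) : Pt F W.left) :=
    fun k hk => Pt.ext' (hs k ((hmem k).1 hk)) rfl
  have hz : z.Compatible := by
    rw [Presieve.compatible_iff_sieveCompatible]
    intro W V k h hk
    refine ((Pt.map_eq_iff h (z k hk) _).1 ?_).symm
    rw [hzof k hk, hzof (h ≫ k) (R'.downward_closed hk h)]
    exact (hxs' _ _ _ _ rfl).symm
  obtain ⟨v, hv, hvu⟩ := hF R' hR' z hz
  refine ⟨(⟨str, v⟩ : Pt F T), fun W g hg => ?_, fun (q : Pt F T) hq => ?_⟩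
  · let k : Over.mk (g ≫ str) ⟶ T₀ := Over.homMk g rfl
    have hk : R'.arrows k := (hmem k).2 hg
    show Pt.map g (Pt.of (T := T₀) v) = x g hg
    exact ((Pt.map_eq_iff k v (z k hk)).2 (hv k hk)).trans (hzof k hk)
  · obtain ⟨s', w⟩ := q
    obtain rfl : s' = str := hstru s' fun W g hg => congrArg Pt.str (hq g hg)
    obtain rfl : w = v := hvu w fun W k hk =>
      (Pt.map_eq_iff k w (z k hk)).1 ((hq k.left ((hmem k).1 hk)).trans (hzof k hk).symm)
    rfl

theorem isPullback_subfunctor {H : Over S} (z : F.obj (op H))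
    (hmono : ∀ (T : Over S) (a b : T ⟶ H), F.map a.op z = F.map b.op z → a = b)
    {T : Scheme.{u}} (w : Pt F T) (U : T.Opens)
    (hU : ∀ (T' : Over S) (a : T' ⟶ Over.mk w.str),
      (∃ b : T' ⟶ H, F.map b.op z = F.map a.op w.v) ↔ Set.range a.left ⊆ (U : Set T))
    (b : Over.mk (U.ι ≫ w.str) ⟶ H) (hb' : Pt.map b.left (Pt.of z) = Pt.map U.ι w) :
    IsPullback (yoneda.map b.left) (yoneda.map U.ι)
      (yonedaEquiv.symm (Pt.of z : Pt F H.left) : yoneda.obj H.left ⟶ presheaf F)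
      (yonedaEquiv.symm w : yoneda.obj T ⟶ presheaf F) := by
  let φ : yoneda.obj H.left ⟶ presheaf F := yonedaEquiv.symm (Pt.of z : Pt F H.left)
  let ψ : yoneda.obj T ⟶ presheaf F := yonedaEquiv.symm w
  have hcone : ∀ (c : PullbackCone φ ψ) (V : Scheme.{u}ᵒᵖ) (p : c.pt.obj V),
      Pt.map (c.fst.app V p : V.unop ⟶ H.left) (Pt.of z) = Pt.map (c.snd.app V p : V.unop ⟶ T) w :=
    fun c V p => ConcreteCategory.congr_hom (NatTrans.congr_app c.condition V) p
  have hrange : ∀ (c : PullbackCone φ ψ) (V : Scheme.{u}ᵒᵖ) (p : c.pt.obj V),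
      Set.range (⇑(show V.unop ⟶ T from c.snd.app V p) : V.unop → T) ⊆ Set.range U.ι := fun c V p => by
    rw [Scheme.Opens.range_ι]
    let a : Over.mk ((c.snd.app V p : V.unop ⟶ T) ≫ w.str) ⟶ Over.mk w.str := Over.homMk (c.snd.app V p) rfl
    let b' : Over.mk ((c.snd.app V p : V.unop ⟶ T) ≫ w.str) ⟶ H :=
      Over.homMk (c.fst.app V p) (congrArg Pt.str (hcone c V p))
    exact (hU _ a).mp ⟨b', (Pt.map_eq_iff b' z (F.map a.op w.v)).mp (hcone c V p)⟩
  refine ⟨⟨?_⟩, ⟨PullbackCone.IsLimit.mk _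
    (fun c =>
      { app := fun V => ↾ fun p => IsOpenImmersion.lift U.ι (c.snd.app V p) (hrange c V p)
        naturality := fun V V' m => ?_ }) ?_ ?_ ?_⟩⟩
  · apply yonedaEquiv.injective
    show Pt.map (𝟙 _ ≫ b.left) (Pt.of z) = Pt.map (𝟙 _ ≫ U.ι) w
    rw [Category.id_comp, Category.id_comp, hb']
  · ext p
    refine (cancel_mono U.ι).mp ?_
    show IsOpenImmersion.lift U.ι _ _ ≫ U.ι = (m.unop ≫ IsOpenImmersion.lift U.ι _ _) ≫ U.ι
    rw [IsOpenImmersion.lift_fac, Category.assoc, IsOpenImmersion.lift_fac]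
    exact ConcreteCategory.congr_hom (c.snd.naturality m) p
  · intro c
    ext V p
    let l : V.unop ⟶ U.toScheme := IsOpenImmersion.lift U.ι (c.snd.app V p) (hrange c V p)
    show l ≫ b.left = c.fst.app V p
    have hl : l ≫ U.ι = c.snd.app V p := IsOpenImmersion.lift_fac _ _ _
    have hw : Pt.map (l ≫ b.left) (Pt.of z) = Pt.map (c.snd.app V p : V.unop ⟶ T) w := by
      rw [Pt.map_comp, hb', ← Pt.map_comp, hl]
    let a : Over.mk ((c.snd.app V p : V.unop ⟶ T) ≫ w.str) ⟶ Over.mk w.str := Over.homMk (c.snd.app V p) rfl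
    let b₁ : Over.mk ((c.snd.app V p : V.unop ⟶ T) ≫ w.str) ⟶ H := Over.homMk (l ≫ b.left) (congrArg Pt.str hw)
    let b₂ : Over.mk ((c.snd.app V p : V.unop ⟶ T) ≫ w.str) ⟶ H :=
      Over.homMk (c.fst.app V p) (congrArg Pt.str (hcone c V p))
    exact congrArg CommaMorphism.left (hmono _ b₁ b₂
      (((Pt.map_eq_iff b₁ z (F.map a.op w.v)).mp hw).trans
        ((Pt.map_eq_iff b₂ z (F.map a.op w.v)).mp (hcone c V p)).symm))
  · intro c
    ext V p
    exact IsOpenImmersion.lift_fac _ _ _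
  · intro c m _ h₂
    ext V p
    refine (cancel_mono U.ι).mp ?_
    show m.app V p ≫ U.ι = IsOpenImmersion.lift U.ι _ _ ≫ U.ι
    rw [IsOpenImmersion.lift_fac]
    exact ConcreteCategory.congr_hom (NatTrans.congr_app h₂ V) p

/-- A Zariski sheaf on schemes over `S` with an open cover by representable subfunctors is representable. -/
theorem representable_of_openCover (hF : Presieve.IsSheaf (Scheme.zariskiTopology.{u}.over S) F) {ι : Type u}
    (H : ι → Over S) (z : ∀ i, F.obj (op (H i)))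
    (hmono : ∀ i (T : Over S) (a b : T ⟶ H i), F.map a.op (z i) = F.map b.op (z i) → a = b)
    (hloc : ∀ i (T : Over S) (w : F.obj (op T)), ∃ U : T.left.Opens, ∀ (T' : Over S) (a : T' ⟶ T),
      (∃ b : T' ⟶ H i, F.map b.op (z i) = F.map a.op w) ↔ Set.range a.left ⊆ U)
    (hcov : ∀ (T : Over S) (w : F.obj (op T)) (t : T.left), ∃ (i : ι) (T' : Over S) (a : T' ⟶ T),
      IsOpenImmersion a.left ∧ t ∈ Set.range a.left ∧ ∃ b : T' ⟶ H i, F.map b.op (z i) = F.map a.op w) :
    ∃ Y : Over S, Nonempty (F.RepresentableBy Y) := by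
  let Fs : Sheaf Scheme.zariskiTopology.{u} (Type u) := ⟨presheaf F, isSheaf_presheaf F hF⟩
  let φ : ∀ i, yoneda.obj (H i).left ⟶ Fs.1 := fun i => yonedaEquiv.symm (Pt.of (z i) : Pt F (H i).left)
  have hrep : ∀ i, IsOpenImmersion.presheaf (φ i) := by
    intro i
    refine MorphismProperty.relative.of_exists fun T g => ?_
    obtain ⟨⟨s, w⟩, rfl⟩ : ∃ w : Pt F T, g = yonedaEquiv.symm w :=
      ⟨yonedaEquiv g, (yonedaEquiv.symm_apply_apply g).symm⟩
    obtain ⟨U, hU⟩ := hloc i (Over.mk s) w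
    let ιU : Over.mk (U.ι ≫ s) ⟶ Over.mk s := Over.homMk U.ι rfl
    obtain ⟨b, hb⟩ := (hU (Over.mk (U.ι ≫ s)) ιU).mpr (Scheme.Opens.range_ι U).le
    have hb' : Pt.map b.left (Pt.of (z i)) = Pt.map U.ι ⟨s, w⟩ :=
      (Pt.map_eq_iff b (z i) (F.map ιU.op w)).mpr hb
    exact ⟨U.toScheme, yoneda.map b.left, U.ι,
      isPullback_subfunctor F (z i) (hmono i) ⟨s, w⟩ U hU b hb', inferInstance⟩
  have happ : ∀ (V : Scheme.{u}) (i : ι) (b : V ⟶ (H i).left),
      (Sigma.desc φ).app (op V) ((Sigma.ι (fun i => yoneda.obj (H i).left) i).app (op V) b) =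
        Pt.map b (Pt.of (z i)) := fun V i b =>
    ConcreteCategory.congr_hom (NatTrans.congr_app (Sigma.ι_desc φ i) (op V)) b
  have : Presheaf.IsLocallySurjective Scheme.zariskiTopology (Sigma.desc φ) := by
    refine ⟨fun {T} p => ?_⟩
    obtain ⟨s, w⟩ := (p : Pt F T)
    choose i T' a ha hta b hb using hcov (Over.mk s) w
    let 𝒰 : T.OpenCover := Scheme.Cover.mkOfCovers T (fun t => (T' t).left) (fun t => (a t).left)
      (fun t => ⟨t, hta t⟩) ha
    refine GrothendieckTopology.superset_covering _ ?_ 𝒰.mem_grothendieckTopology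
    rw [Sieve.ofArrows, Sieve.generate_le_iff]
    rintro _ _ ⟨t⟩
    have h1 : Pt.map (b t).left (Pt.of (z (i t))) = Pt.of (F.map (a t).op w) :=
      (Pt.map_eq_iff (b t) (z (i t)) (F.map (a t).op w)).mpr (hb t)
    have h2 : Pt.map (a t).left (⟨s, w⟩ : Pt F T) = Pt.of (F.map (a t).op w) :=
      (Pt.map_eq_iff (a t) w (F.map (a t).op w)).mpr rfl
    exact ⟨(Sigma.ι (fun i => yoneda.obj (H i).left) (i t)).app (op _) (b t).left,
      (happ _ _ (b t).left).trans (h1.trans h2.symm)⟩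
  obtain ⟨Hs, ⟨r⟩⟩ := Scheme.LocalRepresentability.isRepresentable hrep
  let p₀ : Pt F Hs := r.homEquiv (𝟙 Hs)
  have hp : ∀ {T : Scheme.{u}} (a : T ⟶ Hs), r.homEquiv a = Pt.map a p₀ := fun a => by
    conv_lhs => rw [← Category.comp_id a]
    exact r.homEquiv_comp a (𝟙 Hs)
  refine ⟨Over.mk p₀.str, ⟨{
    homEquiv := fun {T} => Equiv.ofBijective (fun g => F.map g.op p₀.v) ⟨fun g g' h => ?_, fun w => ?_⟩
    homEquiv_comp := fun g g' => (map_map g' g p₀.v).symm }⟩⟩
  · have h1 : Pt.map g.left p₀ = Pt.of (F.map g.op p₀.v) := (Pt.map_eq_iff g p₀.v _).mpr rfl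
    have h2 : Pt.map g'.left p₀ = Pt.of (F.map g.op p₀.v) := (Pt.map_eq_iff g' p₀.v _).mpr h.symm
    exact Over.OverMorphism.ext (r.homEquiv.injective (((hp g.left).trans (h1.trans h2.symm)).trans (hp g'.left).symm))
  · let a := r.homEquiv.symm (Pt.of w)
    have ha : Pt.map a p₀ = Pt.of w := (hp a).symm.trans (r.homEquiv.apply_symm_apply _)
    exact ⟨Over.homMk a (congrArg Pt.str ha),
      (Pt.map_eq_iff (T := Over.mk p₀.str) (Over.homMk a (congrArg Pt.str ha)) p₀.v w).mp ha⟩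

end Groth.Agent.MagnetLib.RepGlue
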