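import Mathlib.RingTheory.Flat.EquationalCriterion
import Mathlib.RingTheory.RingHom.Flat
import Mathlib.RingTheory.Polynomial.Basic
import Mathlib.RingTheory.Spectrum.Prime.Basic

/-!
# Equivariant ring maps for coactions of the affine line

A coaction of the multiplicative affine line on a ring `A` is a ring map `α : A → A[X]` with `α a (1) = a` whose
coefficients are homogeneous.  An equivariant map which is surjective in degree zero, generates the positive part and is
faithfully flat enough at the fixed points is bijective.
-/

set_option autoImplicit false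

universe u

open Polynomial

namespace Groth.Agent.MagnetLib.A1

/-- Coactions of the multiplicative affine line on a ring. -/
structure IsCoact {A : Type u} [CommRing A] (α : A →+* A[X]) : Prop where
  eval_one : ∀ a, (α a).eval 1 = a
  coeff_hom : ∀ a n, α ((α a).coeff n) = C ((α a).coeff n) * X ^ n

/-- The projection to degree zero. -/
noncomputable def e0 {A : Type u} [CommRing A] (α : A →+* A[X]) : A →+* A := Polynomial.constantCoeff.comp α

theorem e0_apply {A : Type u} [CommRing A] (α : A →+* A[X]) (a : A) : e0 α a = (α a).coeff 0 := rfl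

variable {A : Type u} [CommRing A] {α : A →+* A[X]}

theorem IsCoact.e0_e0 (hα : IsCoact α) (a : A) : e0 α (e0 α a) = e0 α a := by
  rw [e0_apply, e0_apply, hα.coeff_hom, pow_zero, _root_.mul_one, coeff_C_zero]

theorem IsCoact.sum_coeff (hα : IsCoact α) (a : A) : a = ∑ n ∈ (α a).support, (α a).coeff n := by
  conv_lhs => rw [← hα.eval_one a, eval_eq_sum, Polynomial.sum_def]
  simp

theorem IsCoact.coeff_coeff (hα : IsCoact α) (a : A) (m n : ℕ) :
    (α ((α a).coeff n)).coeff m = if m = n then (α a).coeff n else 0 := by
  rw [hα.coeff_hom, coeff_C_mul_X_pow]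

variable {B : Type u} [CommRing B] {β : B →+* B[X]} (φ : B →+* A)

theorem bijective_of_flat_at_fixed (hα : IsCoact α) (hβ : IsCoact β)
    (heq : α.comp φ = (mapRingHom φ).comp β)
    (h0 : ∀ a, e0 α a ∈ Set.range φ)
    (hgen : ∀ a, e0 α a = 0 → a ∈ Ideal.map φ (RingHom.ker (e0 β)))
    (hflat : ∀ p : Ideal B, p.IsPrime → RingHom.ker (e0 β) ≤ p → ∀ k, φ k = 0 → ∃ s, s ∉ p ∧ s * k = 0) :
    Function.Bijective φ := by
  have heq' : ∀ b, α (φ b) = (β b).map φ := fun b => DFunLike.congr_fun heq b
  constructor
  · rw [injective_iff_map_eq_zero]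
    intro k hk
    have hz : ∀ n, φ ((β k).coeff n) = 0 := fun n => by
      rw [← coeff_map, ← heq', hk, map_zero, coeff_zero]
    rw [hβ.sum_coeff k]
    refine Finset.sum_eq_zero fun n _ => ?_
    let c := (β k).coeff n
    let J : Ideal B := (Ideal.span {c}).annihilator
    suffices htop : J ⊔ RingHom.ker (e0 β) = ⊤ by
      obtain ⟨s, hs, b, hb, hsb⟩ := Submodule.mem_sup.1 ((Ideal.eq_top_iff_one _).1 htop)
      have hsc : s * c = 0 := (Submodule.mem_annihilator_span_singleton c s).1 hs
      have hc : c = b * c := by
        calc c = (s + b) * c := by rw [hsb, _root_.one_mul]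
          _ = b * c := by rw [add_mul, hsc, _root_.zero_add]
      have h2 := congrArg (fun x => (β x).coeff n) hc
      simp only [c, map_mul, hβ.coeff_hom] at h2
      rw [coeff_C_mul_X_pow, if_pos rfl, ← mul_assoc, coeff_mul_X_pow', if_pos le_rfl, Nat.sub_self,
        mul_coeff_zero, coeff_C_zero] at h2
      rw [h2, show (β b).coeff 0 = 0 from hb, MulZeroClass.zero_mul]
    by_contra htop
    obtain ⟨p, hp, hle⟩ := Ideal.exists_le_maximal _ htop
    obtain ⟨s, hs, hsc⟩ := hflat p hp.isPrime (le_sup_right.trans hle) c (hz n)
    exact hs (hle (Ideal.mem_sup_left ((Submodule.mem_annihilator_span_singleton c s).2 hsc)))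
  · suffices hd : ∀ d a, (α a).coeff d ∈ Set.range φ by
      intro a
      choose g hg using fun d => hd d a
      exact ⟨∑ n ∈ (α a).support, g n, by rw [map_sum, hα.sum_coeff a]; simp [hg, ← hα.sum_coeff a]⟩
    intro d
    induction d using Nat.strong_induction_on with
    | _ d ih =>
      intro a
      rcases Nat.eq_zero_or_pos d with rfl | hd
      · exact h0 a
      · let y := (α a).coeff d
        have hy0 : e0 α y = 0 := by rw [e0_apply, hα.coeff_coeff, if_neg (by omega)]
        have hy : y = (α y).coeff d := by rw [hα.coeff_coeff, if_pos rfl]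
        suffices key : ∀ z ∈ Ideal.map φ (RingHom.ker (e0 β)), ∀ c, (α (c * z)).coeff d ∈ Set.range φ by
          have := key y (hgen y hy0) 1
          rw [_root_.one_mul, ← hy] at this
          exact this
        intro z hz
        refine Submodule.span_induction ?_ ?_ ?_ ?_ hz
        · rintro _ ⟨b, hb, rfl⟩ c
          rw [map_mul, heq', coeff_mul]
          refine φ.range.sum_mem (fun ij hij => ?_)
          rw [Finset.mem_antidiagonal] at hij
          rw [coeff_map]
          rcases Nat.eq_zero_or_pos ij.2 with h | h
          · rw [h, show (β b).coeff 0 = 0 from hb, map_zero, MulZeroClass.mul_zero]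
            exact φ.range.zero_mem
          · exact φ.range.mul_mem (ih ij.1 (by omega) c) ⟨_, rfl⟩
        · intro c
          rw [MulZeroClass.mul_zero, map_zero, coeff_zero]
          exact φ.range.zero_mem
        · intro x y _ _ hx hy c
          rw [mul_add, map_add, coeff_add]
          exact φ.range.add_mem (hx c) (hy c)
        · intro r x _ hx c
          rw [smul_eq_mul, ← mul_assoc]
          exact hx (c * r)

/-- An element killed by a map which is flat at a prime is killed by an element outside that prime. -/
theorem exists_not_mem_of_flat {C : Type u} [CommRing C] (ψ : B →+* C) (hψ : ψ.Flat) (q : Ideal C) (hq : q ≠ ⊤)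
    (k : B) (hk : ψ k = 0) : ∃ s, s ∉ q.comap ψ ∧ s * k = 0 := by
  algebraize [ψ]
  obtain ⟨m, a, y, hy, ha⟩ := Module.Flat.isTrivialRelation_of_sum_smul_eq_zero (R := B) (M := C) (ι := Fin 1)
    (f := fun _ => k) (x := fun _ => 1) (by simpa [Algebra.smul_def, RingHom.algebraMap_toAlgebra] using hk)
  by_contra hall
  refine hq ((Ideal.eq_top_iff_one _).2 ?_)
  rw [show (1 : C) = ∑ j, a 0 j • y j from hy 0]
  refine q.sum_mem fun j _ => ?_
  rw [Algebra.smul_def]
  refine q.mul_mem_right _ ?_
  by_contra hj
  exact hall ⟨a 0 j, hj, by simpa [mul_comm] using ha j⟩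

end Groth.Agent.MagnetLib.A1
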