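import Groth.Agent.MagnetLib.Points
import Groth.Agent.MagnetLib.A1Alg
import Groth.Prelude.Def_Magnet3
import Mathlib.AlgebraicGeometry.Morphisms.Flat
import Mathlib.AlgebraicGeometry.Morphisms.IsIso

/-!
# Equivariant maps of locally linear schemes with an action of the affine line

An equivariant map which identifies the fixed points, reflects them, and is flat near them is an isomorphism.
-/

set_option autoImplicit false
set_option backward.isDefEq.respectTransparency false
set_option linter.style.haveILetI false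

universe u

noncomputable section

open CategoryTheory CategoryTheory.Limits MonoidalCategory CartesianMonoidalCategory MonObj AlgebraicGeometry Opposite

namespace Groth.Agent.MagnetLib.A1

open Magnet Magnet.MonAct

variable {S : Scheme.{u}}

/-! ### Points of the affine line -/

theorem exists_tPt {R : Type u} [CommRing R] (c : Spec (CommRingCat.of R) ⟶ S) (t : R) :
    ∃ x : Over.mk c ⟶ AMonS S ℕ, ∀ n, mFn x n = (Scheme.ΓSpecIso (CommRingCat.of R)).inv (t ^ n) :=
  mFn_surjective (S := S) (W := Over.mk c) (M := ℕ)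
    { toFun := fun n => (Scheme.ΓSpecIso (CommRingCat.of R)).inv (t ^ n.toAdd)
      map_one' := by rw [toAdd_one, pow_zero, map_one]
      map_mul' := fun a b => by rw [toAdd_mul, pow_add, map_mul] }

/-- The point of the affine line given by an element. -/
def tPt {R : Type u} [CommRing R] (c : Spec (CommRingCat.of R) ⟶ S) (t : R) : Over.mk c ⟶ AMonS S ℕ :=
  (exists_tPt c t).choose

theorem mFn_tPt {R : Type u} [CommRing R] (c : Spec (CommRingCat.of R) ⟶ S) (t : R) (n : ℕ) :
    mFn (tPt c t) n = (Scheme.ΓSpecIso (CommRingCat.of R)).inv (t ^ n) :=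
  (exists_tPt c t).choose_spec n

theorem exists_zPt (T : Over S) : ∃ x : T ⟶ AMonS S ℕ, ∀ n, mFn x n = 0 ^ n :=
  mFn_surjective
    { toFun := fun n => (0 : Γ(T.left, ⊤)) ^ n.toAdd
      map_one' := by simp
      map_mul' := fun a b => by rw [toAdd_mul, pow_add] }

/-- The zero of the affine line. -/
def zPt (T : Over S) : T ⟶ AMonS S ℕ := (exists_zPt T).choose

theorem mFn_zPt (T : Over S) (n : ℕ) : mFn (zPt T) n = 0 ^ n := (exists_zPt T).choose_spec n

theorem comp_zPt {T' T : Over S} (t : T' ⟶ T) : t ≫ zPt T = zPt T' :=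
  mFn_ext fun n => by rw [mFn_comp, mFn_zPt, mFn_zPt, map_pow, map_zero]

theorem mul_zPt {T : Over S} (g : T ⟶ AMonS S ℕ) : g * zPt T = zPt T :=
  mFn_ext fun n => by
    rw [mFn_mul, mFn_zPt]
    rcases n with _ | n
    · rw [pow_zero, mFn_zero, _root_.one_mul]
    · rw [zero_pow n.succ_ne_zero, MulZeroClass.mul_zero]

theorem zPt_mul {T : Over S} (g : T ⟶ AMonS S ℕ) : zPt T * g = zPt T :=
  mFn_ext fun n => by
    rw [mFn_mul, mFn_zPt]
    rcases n with _ | n
    · rw [pow_zero, mFn_zero, _root_.one_mul]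
    · rw [zero_pow n.succ_ne_zero, MulZeroClass.zero_mul]

theorem tPt_zero {R : Type u} [CommRing R] (c : Spec (CommRingCat.of R) ⟶ S) : tPt c 0 = zPt (Over.mk c) :=
  mFn_ext fun n => by rw [mFn_tPt, mFn_zPt, map_pow, map_zero]

theorem tPt_one {R : Type u} [CommRing R] (c : Spec (CommRingCat.of R) ⟶ S) :
    tPt c 1 = toUnit (Over.mk c) ≫ η[AMonS S ℕ] :=
  mFn_ext fun n => by rw [mFn_tPt, mFn_one, one_pow, map_one]

theorem lift_tPt_one {X : Over S} (a : MonAct (AMonS S ℕ) X) {R : Type u} [CommRing R]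
    (c : Spec (CommRingCat.of R) ⟶ S) (x : Over.mk c ⟶ X) :
    CartesianMonoidalCategory.lift (tPt c 1) x ≫ a.act = x := by
  rw [tPt_one]
  have h := lift_one_act a x
  rwa [Hom.one_def] at h

theorem tPt_mul {R : Type u} [CommRing R] (c : Spec (CommRingCat.of R) ⟶ S) (t v : R) :
    tPt c t * tPt c v = tPt c (t * v) :=
  mFn_ext fun n => by rw [mFn_mul, mFn_tPt, mFn_tPt, mFn_tPt, mul_pow, map_mul]

theorem comp_tPt {R R' : Type u} [CommRing R] [CommRing R'] (c : Spec (CommRingCat.of R) ⟶ S)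
    (c' : Spec (CommRingCat.of R') ⟶ S) (φ : R →+* R') (hφ : Spec.map (CommRingCat.ofHom φ) ≫ c = c') (t : R) :
    (Over.homMk (Spec.map (CommRingCat.ofHom φ)) hφ : Over.mk c' ⟶ Over.mk c) ≫ tPt c t = tPt c' (φ t) :=
  mFn_ext fun n => by
    rw [mFn_comp, mFn_tPt, mFn_tPt, ← map_pow]
    exact (congr($(Scheme.ΓSpecIso_inv_naturality (CommRingCat.ofHom φ)) (t ^ n))).symm

/-! ### The retraction to the fixed points -/

variable {X Y : Over S} (a : MonAct (AMonS S ℕ) X)

/-- Multiplication by zero. -/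
def retr : X ⟶ X := CartesianMonoidalCategory.lift (zPt X) (𝟙 X) ≫ a.act

theorem comp_retr {T : Over S} (x : T ⟶ X) : x ≫ retr a = CartesianMonoidalCategory.lift (zPt T) x ≫ a.act := by
  rw [retr, ← Category.assoc, comp_lift, comp_zPt, Category.comp_id]

theorem retr_retr : retr a ≫ retr a = retr a := by
  rw [comp_retr]
  conv_lhs => rw [retr, ← lift_mul_act, zPt_mul]
  rfl

theorem lift_act_retr {T : Over S} (g : T ⟶ AMonS S ℕ) (x : T ⟶ X) :
    CartesianMonoidalCategory.lift g x ≫ a.act ≫ retr a = x ≫ retr a := by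
  rw [← Category.assoc, comp_retr, ← lift_mul_act, zPt_mul, ← comp_retr]

theorem lift_act_of_fixed {T : Over S} (g : T ⟶ AMonS S ℕ) {x : T ⟶ X} (hx : x ≫ retr a = x) :
    CartesianMonoidalCategory.lift g x ≫ a.act = x := by
  conv_lhs => rw [← hx, comp_retr, ← lift_mul_act, mul_zPt, ← comp_retr, hx]

/-- A point unchanged by multiplication by zero is fixed. -/
def fixedOfRetr {T : Over S} (x : T ⟶ X) (hx : x ≫ retr a = x) : (fixedPsh a).obj (op T) :=
  ⟨x, fun T' t g => lift_act_of_fixed a g (by rw [Category.assoc, hx])⟩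

theorem retr_of_fixed {T : Over S} (x : (fixedPsh a).obj (op T)) : x.1 ≫ retr a = x.1 := by
  rw [comp_retr]
  have h := x.2 T (𝟙 T) (zPt T)
  rwa [Category.id_comp] at h

theorem retr_comp (b : MonAct (AMonS S ℕ) Y) (f : X ⟶ Y) (hf : IsEquivariant a b f) :
    retr a ≫ f = f ≫ retr b := by
  rw [comp_retr b f, retr, Category.assoc]
  have h := (isEquivariant_iff a b f).1 hf X (zPt X) (𝟙 X)
  rwa [Category.id_comp] at h

/-! ### Stable opens -/

/-- Stability of an open under the action. -/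
def Stable (O : X.left.Opens) : Prop :=
  (snd (AMonS S ℕ) X).left ⁻¹ᵁ O ≤ a.act.left ⁻¹ᵁ O

theorem Stable.lift_mem {O : X.left.Opens} (hO : Stable a O) {T : Over S} (g : T ⟶ AMonS S ℕ) (x : T ⟶ X) (s : T.left)
    (hs : x.left s ∈ O) : (CartesianMonoidalCategory.lift g x ≫ a.act).left s ∈ O := by
  have h : (CartesianMonoidalCategory.lift g x).left s ∈ (snd (AMonS S ℕ) X).left ⁻¹ᵁ O := by
    change (snd (AMonS S ℕ) X).left ((CartesianMonoidalCategory.lift g x).left s) ∈ O
    rw [← Scheme.Hom.comp_apply, ← Over.comp_left, lift_snd]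
    exact hs
  exact hO h

theorem Stable.retr_mem {O : X.left.Opens} (hO : Stable a O) {x : X.left} (hx : x ∈ O) : (retr a).left x ∈ O :=
  hO.lift_mem a (zPt X) (𝟙 X) x hx

theorem stable_preimage_retr (O : X.left.Opens) : Stable a ((retr a).left ⁻¹ᵁ O) := by
  intro p hp
  change (retr a).left (a.act.left p) ∈ O
  have h : a.act ≫ retr a = snd (AMonS S ℕ) X ≫ retr a := by
    have := lift_act_retr a (fst (AMonS S ℕ) X) (snd (AMonS S ℕ) X)
    rwa [lift_fst_snd, Category.id_comp] at this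
  rw [← Scheme.Hom.comp_apply, ← Over.comp_left, h, Over.comp_left, Scheme.Hom.comp_apply]
  exact hp

theorem Stable.inf {O O' : X.left.Opens} (h : Stable a O) (h' : Stable a O') : Stable a (O ⊓ O') :=
  fun _ hp => ⟨h hp.1, h' hp.2⟩

theorem Stable.preimage {b : MonAct (AMonS S ℕ) Y} {O : Y.left.Opens} (hO : Stable b O) (f : X ⟶ Y)
    (hf : IsEquivariant a b f) : Stable a (f.left ⁻¹ᵁ O) := by
  intro p hp
  change f.left (a.act.left p) ∈ O
  have h : a.act ≫ f = (AMonS S ℕ ◁ f) ≫ b.act := hf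
  rw [← Scheme.Hom.comp_apply, ← Over.comp_left, h, Over.comp_left, Scheme.Hom.comp_apply]
  refine hO ?_
  change (snd (AMonS S ℕ) Y).left ((AMonS S ℕ ◁ f).left p) ∈ O
  rw [← Scheme.Hom.comp_apply, ← Over.comp_left, whiskerLeft_snd, Over.comp_left, Scheme.Hom.comp_apply]
  exact hp

/-- Stable opens are saturated for multiplication by zero. -/
theorem Stable.mem_of_retr_mem {O : X.left.Opens} (hO : Stable a O) {x : X.left} (hx : (retr a).left x ∈ O) :
    x ∈ O := by
  let K := X.left.residueField x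
  let c₁ : Spec (CommRingCat.of (Polynomial K)) ⟶ S :=
    Spec.map (CommRingCat.ofHom Polynomial.C) ≫ X.left.fromSpecResidueField x ≫ X.hom
  let x₁ : Over.mk c₁ ⟶ X := Over.homMk (Spec.map (CommRingCat.ofHom Polynomial.C) ≫ X.left.fromSpecResidueField x)
    (Category.assoc _ _ _)
  let Q := CartesianMonoidalCategory.lift (tPt c₁ Polynomial.X) x₁ ≫ a.act
  let c₀ : Spec (CommRingCat.of K) ⟶ S := X.left.fromSpecResidueField x ≫ X.hom
  have h₀ : Spec.map (CommRingCat.ofHom (Polynomial.constantCoeff : Polynomial K →+* K)) ≫ c₁ = c₀ := by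
    simp only [c₁, c₀, ← Spec.map_comp_assoc, ← CommRingCat.ofHom_comp]
    rw [show (Polynomial.constantCoeff : Polynomial K →+* K).comp Polynomial.C = RingHom.id K from
      RingHom.ext fun r => Polynomial.coeff_C_zero]
    rw [CommRingCat.ofHom_id]
    erw [Spec.map_id, Category.id_comp]
  let z₀ : Over.mk c₀ ⟶ Over.mk c₁ := Over.homMk (Spec.map (CommRingCat.ofHom Polynomial.constantCoeff)) h₀
  let x₀ : Over.mk c₀ ⟶ X := Over.homMk (X.left.fromSpecResidueField x) rfl
  have hz₀ : z₀ ≫ x₁ = x₀ := Over.OverMorphism.ext (by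
    change Spec.map (CommRingCat.ofHom Polynomial.constantCoeff) ≫ Spec.map (CommRingCat.ofHom Polynomial.C) ≫ _ = _
    rw [← Spec.map_comp_assoc, ← CommRingCat.ofHom_comp,
      show (Polynomial.constantCoeff : Polynomial K →+* K).comp Polynomial.C = RingHom.id K from
      RingHom.ext fun r => Polynomial.coeff_C_zero, CommRingCat.ofHom_id]
    erw [Spec.map_id, Category.id_comp]
    rfl)
  have hQ₀ : z₀ ≫ Q = x₀ ≫ retr a := by
    have e : z₀ ≫ tPt c₁ Polynomial.X = zPt (Over.mk c₀) := by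
      refine (comp_tPt c₁ c₀ Polynomial.constantCoeff h₀ Polynomial.X).trans ?_
      rw [Polynomial.constantCoeff_apply, Polynomial.coeff_X_zero, tPt_zero]
    rw [comp_retr, ← Category.assoc, comp_lift, e, hz₀]
  obtain ⟨p⟩ := (inferInstance : Nonempty (Spec (CommRingCat.of K)))
  have hp : x₀.left p = x := Scheme.fromSpecResidueField_apply x p
  have h1 : z₀.left p ∈ Q.left ⁻¹ᵁ O := by
    change Q.left (z₀.left p) ∈ O
    rw [← Scheme.Hom.comp_apply, ← Over.comp_left, hQ₀, Over.comp_left, Scheme.Hom.comp_apply, hp]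
    exact hx
  let L := FractionRing (Polynomial K)
  let c₂ : Spec (CommRingCat.of L) ⟶ S := Spec.map (CommRingCat.ofHom (algebraMap (Polynomial K) L)) ≫ c₁
  let η₂ : Over.mk c₂ ⟶ Over.mk c₁ := Over.homMk (Spec.map (CommRingCat.ofHom (algebraMap (Polynomial K) L))) rfl
  let q : Spec (CommRingCat.of L) := default
  have hgen : η₂.left q ⤳ z₀.left p := by
    refine (PrimeSpectrum.le_iff_specializes _ _).1 ?_
    intro r hr
    have h' : algebraMap (Polynomial K) L r ∈ q.asIdeal := hr
    have hbot : q.asIdeal = ⊥ := (Ideal.eq_bot_or_top q.asIdeal).resolve_right q.2.ne_top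
    rw [hbot, Ideal.mem_bot] at h'
    rw [show r = 0 from IsFractionRing.injective (Polynomial K) L (h'.trans (map_zero _).symm)]
    exact Ideal.zero_mem _
  have h2 : η₂.left q ∈ Q.left ⁻¹ᵁ O := hgen.mem_open (Q.left ⁻¹ᵁ O).isOpen h1
  let u : L := algebraMap (Polynomial K) L Polynomial.X
  have hu : u ≠ 0 := fun h => Polynomial.X_ne_zero
    (IsFractionRing.injective (Polynomial K) L (h.trans (map_zero _).symm))
  have hback : CartesianMonoidalCategory.lift (tPt c₂ u⁻¹) (η₂ ≫ Q) ≫ a.act = η₂ ≫ x₁ := by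
    have e : η₂ ≫ tPt c₁ Polynomial.X = tPt c₂ u :=
      comp_tPt c₁ c₂ (algebraMap (Polynomial K) L) rfl Polynomial.X
    rw [show η₂ ≫ Q = CartesianMonoidalCategory.lift (tPt c₂ u) (η₂ ≫ x₁) ≫ a.act by
      rw [← Category.assoc, comp_lift, e]]
    rw [← lift_mul_act, tPt_mul, inv_mul_cancel₀ hu, lift_tPt_one]
  have h3 := hO.lift_mem a (tPt c₂ u⁻¹) (η₂ ≫ Q) q h2
  rw [hback] at h3
  change X.left.fromSpecResidueField x _ ∈ O at h3
  rwa [Scheme.fromSpecResidueField_apply] at h3

/-! ### Coactions on stable affine opens -/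

section Coaction

variable {U : X.left.Opens} (hU : IsAffineOpen U)

/-- The tautological point of an affine open over polynomials. -/
def polyPt : Over.mk (Spec.map (CommRingCat.ofHom (Polynomial.C (R := Γ(X.left, U)))) ≫ hU.fromSpec ≫ X.hom) ⟶ X :=
  Over.homMk (Spec.map (CommRingCat.ofHom Polynomial.C) ≫ hU.fromSpec) (Category.assoc _ _ _)

theorem exists_coaction (hS : Stable a U) :
    ∃ α : Γ(X.left, U) →+* Polynomial Γ(X.left, U), Spec.map (CommRingCat.ofHom α) ≫ hU.fromSpec =
      (CartesianMonoidalCategory.lift (tPt _ Polynomial.X) (polyPt hU) ≫ a.act).left := by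
  have hr : Set.range (CartesianMonoidalCategory.lift (tPt _ Polynomial.X) (polyPt hU) ≫ a.act).left ⊆
      Set.range hU.fromSpec := by
    rintro _ ⟨s, rfl⟩
    rw [hU.range_fromSpec]
    refine hS.lift_mem a _ _ s ?_
    change hU.fromSpec _ ∈ U
    exact hU.range_fromSpec.le (Set.mem_range_self _)
  obtain ⟨α, hα⟩ := Spec.map_surjective (IsOpenImmersion.lift hU.fromSpec _ hr)
  refine ⟨α.hom, ?_⟩
  rw [CommRingCat.ofHom_hom, hα, IsOpenImmersion.lift_fac]

/-- The coaction on a stable affine open. -/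
def coaction (hS : Stable a U) : Γ(X.left, U) →+* Polynomial Γ(X.left, U) := (exists_coaction a hU hS).choose

theorem coaction_spec (hS : Stable a U) : Spec.map (CommRingCat.ofHom (coaction a hU hS)) ≫ hU.fromSpec =
    (CartesianMonoidalCategory.lift (tPt _ Polynomial.X) (polyPt hU) ≫ a.act).left :=
  (exists_coaction a hU hS).choose_spec

theorem ringHom_ext {R : Type u} [CommRing R] {g g' : Γ(X.left, U) →+* R}
    (h : Spec.map (CommRingCat.ofHom g) ≫ hU.fromSpec = Spec.map (CommRingCat.ofHom g') ≫ hU.fromSpec) : g = g' :=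
  congrArg CommRingCat.Hom.hom (Spec.map_injective ((cancel_mono hU.fromSpec).1 h))

variable (hS : Stable a U) {R : Type u} [CommRing R] (c : Spec (CommRingCat.of R) ⟶ S)

theorem act_eval (g : Γ(X.left, U) →+* R) (t : R) (x : Over.mk c ⟶ X)
    (hx : x.left = Spec.map (CommRingCat.ofHom g) ≫ hU.fromSpec) :
    (CartesianMonoidalCategory.lift (tPt c t) x ≫ a.act).left =
      Spec.map (CommRingCat.ofHom ((Polynomial.eval₂RingHom g t).comp (coaction a hU hS))) ≫ hU.fromSpec := by
  let φ := Polynomial.eval₂RingHom g t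
  have hφ : φ.comp Polynomial.C = g := RingHom.ext fun r => Polynomial.eval₂_C g t
  have hc : Spec.map (CommRingCat.ofHom φ) ≫
      Spec.map (CommRingCat.ofHom (Polynomial.C (R := Γ(X.left, U)))) ≫ hU.fromSpec ≫ X.hom = c := by
    rw [← Spec.map_comp_assoc, ← CommRingCat.ofHom_comp, hφ, ← Category.assoc, ← hx]
    exact Over.w x
  let σ : Over.mk c ⟶ Over.mk (Spec.map (CommRingCat.ofHom (Polynomial.C (R := Γ(X.left, U)))) ≫ hU.fromSpec ≫ X.hom) :=
    Over.homMk (Spec.map (CommRingCat.ofHom φ)) hc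
  have hσ : σ ≫ polyPt hU = x := Over.OverMorphism.ext (by
    change Spec.map (CommRingCat.ofHom φ) ≫ Spec.map (CommRingCat.ofHom Polynomial.C) ≫ hU.fromSpec = x.left
    rw [← Spec.map_comp_assoc, ← CommRingCat.ofHom_comp, hφ, hx])
  have he : σ ≫ tPt _ Polynomial.X = tPt c t :=
    (comp_tPt _ c φ hc Polynomial.X).trans (by rw [show φ Polynomial.X = t from Polynomial.eval₂_X g t])
  have : σ ≫ CartesianMonoidalCategory.lift (tPt _ Polynomial.X) (polyPt hU) ≫ a.act =
      CartesianMonoidalCategory.lift (tPt c t) x ≫ a.act := by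
    rw [← Category.assoc, comp_lift, he, hσ]
  rw [← this, Over.comp_left, ← coaction_spec a hU hS, CommRingCat.ofHom_comp, Spec.map_comp, Category.assoc]
  rfl

theorem retr_eval (g : Γ(X.left, U) →+* R) (x : Over.mk c ⟶ X)
    (hx : x.left = Spec.map (CommRingCat.ofHom g) ≫ hU.fromSpec) :
    (x ≫ retr a).left = Spec.map (CommRingCat.ofHom (g.comp (e0 (coaction a hU hS)))) ≫ hU.fromSpec := by
  rw [comp_retr, ← tPt_zero, act_eval a hU hS c g 0 x hx]
  congr 3
  exact RingHom.ext fun r => Polynomial.eval₂_at_zero g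

theorem isCoact : IsCoact (coaction a hU hS) where
  eval_one r := by
    let x : Over.mk (hU.fromSpec ≫ X.hom) ⟶ X := Over.homMk hU.fromSpec rfl
    have h := act_eval a hU hS (hU.fromSpec ≫ X.hom) (RingHom.id _) 1 x (by
      rw [CommRingCat.ofHom_id]; erw [Spec.map_id, Category.id_comp]; rfl)
    rw [lift_tPt_one] at h
    have e : RingHom.id Γ(X.left, U) = (Polynomial.eval₂RingHom (RingHom.id _) 1).comp (coaction a hU hS) :=
      ringHom_ext hU ((by rw [CommRingCat.ofHom_id]; erw [Spec.map_id, Category.id_comp] :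
        Spec.map (CommRingCat.ofHom (RingHom.id Γ(X.left, U))) ≫ hU.fromSpec = hU.fromSpec).trans h)
    exact (DFunLike.congr_fun e r).symm
  coeff_hom r n := by
    let A := Γ(X.left, U)
    let g : A →+* Polynomial (Polynomial A) := Polynomial.C.comp Polynomial.C
    let c := Spec.map (CommRingCat.ofHom g) ≫ hU.fromSpec ≫ X.hom
    let x : Over.mk c ⟶ X := Over.homMk (Spec.map (CommRingCat.ofHom g) ≫ hU.fromSpec) (Category.assoc _ _ _)
    let t : Polynomial (Polynomial A) := Polynomial.X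
    let v : Polynomial (Polynomial A) := Polynomial.C Polynomial.X
    let g' := (Polynomial.eval₂RingHom g v).comp (coaction a hU hS)
    have h1 := act_eval a hU hS c g v x rfl
    have h2 := act_eval a hU hS c g' t (CartesianMonoidalCategory.lift (tPt c v) x ≫ a.act) h1
    rw [← lift_mul_act, tPt_mul, act_eval a hU hS c g (t * v) x rfl] at h2
    have e := DFunLike.congr_fun (ringHom_ext hU h2) r
    simp only [RingHom.comp_apply, Polynomial.coe_eval₂RingHom, g'] at e
    have key : ∀ p : Polynomial A, ∀ n, (Polynomial.eval₂ g (t * v) p).coeff n = Polynomial.C (p.coeff n) * Polynomial.X ^ n := by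
      intro p n
      induction p using Polynomial.induction_on' with
      | add p q hp hq => rw [Polynomial.eval₂_add, Polynomial.coeff_add, hp, hq, Polynomial.coeff_add, map_add, add_mul]
      | monomial m s =>
        rw [Polynomial.eval₂_monomial, Polynomial.coeff_monomial, mul_pow]
        simp only [g, t, v, RingHom.comp_apply]
        rw [← map_pow Polynomial.C, show Polynomial.C (Polynomial.C s) * (Polynomial.X ^ m * Polynomial.C (Polynomial.X ^ m)) =
          Polynomial.C (Polynomial.C s * Polynomial.X ^ m) * Polynomial.X ^ m by rw [map_mul]; ring,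
          Polynomial.coeff_C_mul_X_pow]
        by_cases h : n = m
        · subst h; simp
        · rw [if_neg h, if_neg (Ne.symm h)]; simp
    have key2 : ∀ (h : A →+* Polynomial A) (p : Polynomial A) (n : ℕ),
        (Polynomial.eval₂ ((Polynomial.C).comp h) t p).coeff n = h (p.coeff n) := by
      intro h p n
      induction p using Polynomial.induction_on' with
      | add p q hp hq => rw [Polynomial.eval₂_add, Polynomial.coeff_add, hp, hq, Polynomial.coeff_add, map_add]
      | monomial m s =>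
        rw [Polynomial.eval₂_monomial, Polynomial.coeff_monomial, RingHom.comp_apply, Polynomial.coeff_C_mul_X_pow]
        by_cases h' : n = m
        · subst h'; simp
        · rw [if_neg h', if_neg (Ne.symm h'), map_zero]
    have hg' : (Polynomial.eval₂RingHom g v).comp (coaction a hU hS) = Polynomial.C.comp (coaction a hU hS) := by
      refine RingHom.ext fun s => ?_
      change Polynomial.eval₂ g v _ = Polynomial.C _
      rw [← Polynomial.hom_eval₂, Polynomial.eval₂_C_X]
    rw [hg'] at e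
    have e2 := congrArg (fun p => Polynomial.coeff p n) e
    simp only [key, key2] at e2
    exact e2.symm

end Coaction

theorem coaction_comp {b : MonAct (AMonS S ℕ) Y} (f : X ⟶ Y) (hf : IsEquivariant a b f) {W : Y.left.Opens}
    (hW : IsAffineOpen W) (hWs : Stable b W) {U : X.left.Opens} (hU : IsAffineOpen U) (hUs : Stable a U)
    (hUW : U ≤ f.left ⁻¹ᵁ W) :
    (coaction a hU hUs).comp (f.left.appLE W U hUW).hom =
      (Polynomial.mapRingHom (f.left.appLE W U hUW).hom).comp (coaction b hW hWs) := by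
  let φ := (f.left.appLE W U hUW).hom
  refine ringHom_ext hW ?_
  let x := polyPt (X := X) hU
  have hy : (x ≫ f).left = Spec.map (CommRingCat.ofHom (Polynomial.C.comp φ)) ≫ hW.fromSpec := by
    change (Spec.map (CommRingCat.ofHom Polynomial.C) ≫ hU.fromSpec) ≫ f.left = _
    rw [CommRingCat.ofHom_comp, Spec.map_comp, Category.assoc, Category.assoc, ← hW.SpecMap_appLE_fromSpec f.left hU hUW]
    rfl
  have h1 := act_eval b hW hWs _ (Polynomial.C.comp φ) Polynomial.X (x ≫ f) hy
  rw [show Polynomial.eval₂RingHom (Polynomial.C.comp φ) Polynomial.X = Polynomial.mapRingHom φ from rfl] at h1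
  have h4 := (congrArg CommaMorphism.left ((isEquivariant_iff a b f).1 hf _ (tPt _ Polynomial.X) x)).trans h1
  refine Eq.trans ?_ h4
  change _ = (CartesianMonoidalCategory.lift (tPt _ Polynomial.X) x).left ≫ a.act.left ≫ f.left
  rw [CommRingCat.ofHom_comp, Spec.map_comp, Category.assoc,
    show Spec.map (CommRingCat.ofHom φ) ≫ hW.fromSpec = hU.fromSpec ≫ f.left from
      hW.SpecMap_appLE_fromSpec f.left hU hUW]
  refine (Category.assoc _ _ _).symm.trans ?_
  exact (congrArg (· ≫ f.left) (coaction_spec a hU hUs)).trans (Category.assoc _ _ _)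

/-! ### The isomorphism -/

theorem isIso_of_fixed {b : MonAct (AMonS S ℕ) Y} (f : X ⟶ Y) (hf : IsEquivariant a b f)
    (hX : ∀ x : X.left, ∃ U : X.left.Opens, x ∈ U ∧ IsAffineOpen U ∧ Stable a U)
    (hY : ∀ y : Y.left, ∃ U : Y.left.Opens, y ∈ U ∧ IsAffineOpen U ∧ Stable b U)
    (hbij : ∀ (T : Over S) (y : T ⟶ Y), y ≫ retr b = y → ∃! x : T ⟶ X, x ≫ retr a = x ∧ x ≫ f = y)
    (hrefl : ∀ (T : Over S) (x : T ⟶ X), (x ≫ f) ≫ retr b = x ≫ f → x ≫ retr a = x)
    (V : X.left.Opens) [Flat (V.ι ≫ f.left)]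
    (hV : ∀ (T : Over S) (x : T ⟶ X), x ≫ retr a = x → x.left ⁻¹ᵁ V = ⊤) : IsIso f := by
  obtain ⟨s, ⟨hs, hsf⟩, -⟩ := hbij Y (retr b) (retr_retr b)
  have hbs : retr b ≫ s = s := by
    refine (hbij Y (retr b) (retr_retr b)).unique ⟨?_, ?_⟩ ⟨hs, hsf⟩
    · rw [Category.assoc, hs]
    · rw [Category.assoc, hsf, retr_retr]
  have hfs : f ≫ s = retr a := by
    refine (hbij X (f ≫ retr b) ?_).unique ⟨?_, ?_⟩ ⟨retr_retr a, retr_comp a b f hf⟩
    · rw [Category.assoc, retr_retr]
    · rw [Category.assoc, hs]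
    · rw [Category.assoc, hsf]
  suffices hloc : ∀ y : Y.left, ∃ W : Y.left.Opens, y ∈ W ∧ IsIso (f.left ∣_ W) by
    choose W hyW hW using hloc
    have : IsIso f.left := by
      refine (IsZariskiLocalAtTarget.iff_of_iSup_eq_top (P := MorphismProperty.isomorphisms Scheme.{u}) W
        (TopologicalSpace.Opens.ext (Set.eq_univ_of_forall fun y => ?_))).2 hW
      rw [TopologicalSpace.Opens.coe_iSup]
      exact Set.mem_iUnion.2 ⟨y, hyW y⟩
    haveI : IsIso ((Over.forget S).map f) := this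
    exact isIso_of_reflects_iso f (Over.forget S)
  intro y
  -- stable affine neighbourhoods
  obtain ⟨W₀, hyW₀, hW₀, hW₀s⟩ := hY y
  obtain ⟨U₀, hzU₀, hU₀, hU₀s⟩ := hX (s.left y)
  have hz : (retr a).left (s.left y) = s.left y := by
    rw [← Scheme.Hom.comp_apply, ← Over.comp_left, hs]
  have hfz : f.left (s.left y) = (retr b).left y := by
    rw [← Scheme.Hom.comp_apply, ← Over.comp_left, hsf]
  obtain ⟨c, hc, hcz⟩ := hU₀.exists_basicOpen_le (V := f.left ⁻¹ᵁ W₀) ⟨s.left y, by
    change f.left (s.left y) ∈ W₀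
    rw [hfz]
    exact hW₀s.retr_mem b hyW₀⟩ hzU₀
  have hUr : U₀ ≤ (retr a).left ⁻¹ᵁ U₀ := fun x hx => hU₀s.retr_mem a hx
  let U₁ := X.left.basicOpen ((retr a).left.appLE U₀ U₀ hUr c)
  have hU₁eq : U₁ = U₀ ⊓ (retr a).left ⁻¹ᵁ X.left.basicOpen c := by
    simp only [U₁, Scheme.basicOpen_appLE]
  have hU₁s : Stable a U₁ := hU₁eq ▸ hU₀s.inf a (stable_preimage_retr a _)
  have hU₁W₀ : U₁ ≤ f.left ⁻¹ᵁ W₀ := fun x hx => by
    have h : (retr a).left x ∈ f.left ⁻¹ᵁ W₀ := hc (hU₁eq.le hx).2
    refine hW₀s.mem_of_retr_mem b ?_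
    change (retr b).left (f.left x) ∈ W₀
    rw [← Scheme.Hom.comp_apply, ← Over.comp_left, ← retr_comp a b f hf, Over.comp_left, Scheme.Hom.comp_apply]
    exact h
  have hzU₁ : s.left y ∈ U₁ := hU₁eq.ge ⟨hzU₀, by
    change (retr a).left (s.left y) ∈ X.left.basicOpen c
    rw [hz]
    exact hcz⟩
  have hWr : W₀ ≤ (retr b).left ⁻¹ᵁ W₀ := fun x hx => hW₀s.retr_mem b hx
  have hy' : (retr b).left y ∈ W₀ ⊓ s.left ⁻¹ᵁ U₁ := ⟨hW₀s.retr_mem b hyW₀, by
    change s.left ((retr b).left y) ∈ U₁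
    rw [← Scheme.Hom.comp_apply, ← Over.comp_left, hbs]
    exact hzU₁⟩
  obtain ⟨b₀, hb₀, hb₀y⟩ := hW₀.exists_basicOpen_le (V := W₀ ⊓ s.left ⁻¹ᵁ U₁) ⟨_, hy'⟩ hy'.1
  let β₀ := (retr b).left.appLE W₀ W₀ hWr b₀
  let W := Y.left.basicOpen β₀
  have hWeq : W = W₀ ⊓ (retr b).left ⁻¹ᵁ Y.left.basicOpen b₀ := by
    simp only [W, β₀, Scheme.basicOpen_appLE]
  have hW : IsAffineOpen W := hW₀.basicOpen _
  have hWs : Stable b W := hWeq ▸ hW₀s.inf b (stable_preimage_retr b _)
  have hyW : y ∈ W := hWeq.ge ⟨hyW₀, hb₀y⟩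
  have hWs' : W ≤ s.left ⁻¹ᵁ U₁ := fun v hv => by
    have h : s.left ((retr b).left v) ∈ U₁ := (hb₀ (hWeq.le hv).2).2
    rw [← Scheme.Hom.comp_apply, ← Over.comp_left, hbs] at h
    exact h
  let U := f.left ⁻¹ᵁ W
  have hUU₁ : U ≤ U₁ := fun x hx => by
    have h : s.left (f.left x) ∈ U₁ := hWs' hx
    rw [← Scheme.Hom.comp_apply, ← Over.comp_left, hfs] at h
    exact hU₁s.mem_of_retr_mem a h
  have hU : IsAffineOpen U := by
    have e : U = X.left.basicOpen (f.left.appLE W₀ U₁ hU₁W₀ β₀) := by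
      rw [Scheme.basicOpen_appLE]
      exact (inf_eq_right.2 hUU₁).symm
    rw [e]
    exact (hU₀.basicOpen _).basicOpen _
  have hUs : Stable a U := hWs.preimage a f hf
  -- the ring map
  let φ : Γ(Y.left, W) →+* Γ(X.left, U) := (f.left.appLE W U le_rfl).hom
  let α := coaction a hU hUs
  let β := coaction b hW hWs
  have hfU : Spec.map (CommRingCat.ofHom φ) ≫ hW.fromSpec = hU.fromSpec ≫ f.left :=
    hW.SpecMap_appLE_fromSpec f.left hU le_rfl
  have hspecX : Spec.map (CommRingCat.ofHom (RingHom.id Γ(X.left, U))) ≫ hU.fromSpec = hU.fromSpec := by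
    rw [CommRingCat.ofHom_id]; erw [Spec.map_id, Category.id_comp]
  have hspecY : Spec.map (CommRingCat.ofHom (RingHom.id Γ(Y.left, W))) ≫ hW.fromSpec = hW.fromSpec := by
    rw [CommRingCat.ofHom_id]; erw [Spec.map_id, Category.id_comp]
  let xU : Over.mk (hU.fromSpec ≫ X.hom) ⟶ X := Over.homMk hU.fromSpec rfl
  let yW : Over.mk (hW.fromSpec ≫ Y.hom) ⟶ Y := Over.homMk hW.fromSpec rfl
  have hrU : (xU ≫ retr a).left = Spec.map (CommRingCat.ofHom (e0 α)) ≫ hU.fromSpec := by
    rw [retr_eval a hU hUs _ (RingHom.id _) xU hspecX.symm]; rfl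
  have hrW : (yW ≫ retr b).left = Spec.map (CommRingCat.ofHom (e0 β)) ≫ hW.fromSpec := by
    rw [retr_eval b hW hWs _ (RingHom.id _) yW hspecY.symm]; rfl
  obtain ⟨σ', hσ'⟩ : ∃ σ : Γ(X.left, U) →+* Γ(Y.left, W),
      Spec.map (CommRingCat.ofHom σ) ≫ hU.fromSpec = hW.fromSpec ≫ s.left := by
    have hr : Set.range (hW.fromSpec ≫ s.left) ⊆ Set.range hU.fromSpec := by
      rintro _ ⟨v, rfl⟩
      rw [hU.range_fromSpec, Scheme.Hom.comp_apply]
      change f.left (s.left _) ∈ W
      rw [← Scheme.Hom.comp_apply s.left f.left, ← Over.comp_left, hsf]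
      exact hWs.retr_mem b (hW.range_fromSpec.le (Set.mem_range_self v))
    obtain ⟨σ, hσ⟩ := Spec.map_surjective (IsOpenImmersion.lift hU.fromSpec _ hr)
    exact ⟨σ.hom, by rw [CommRingCat.ofHom_hom, hσ, IsOpenImmersion.lift_fac]⟩
  have hφσ : φ.comp σ' = e0 α := ringHom_ext hU (by
    rw [CommRingCat.ofHom_comp, Spec.map_comp, Category.assoc, hσ', ← Category.assoc, hfU, Category.assoc,
      ← Over.comp_left, hfs, ← hrU]
    rfl)
  have hσφ : σ'.comp φ = e0 β := ringHom_ext hW (by
    rw [CommRingCat.ofHom_comp, Spec.map_comp, Category.assoc, hfU, ← Category.assoc, hσ', Category.assoc,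
      ← Over.comp_left, hsf, ← hrW]
    rfl)
  have hgen : ∀ r, e0 α r = 0 → r ∈ Ideal.map φ (RingHom.ker (e0 β)) := fun r hr => by
    let I := Ideal.map φ (RingHom.ker (e0 β))
    let q := Ideal.Quotient.mk I
    let c := Spec.map (CommRingCat.ofHom q) ≫ hU.fromSpec ≫ X.hom
    let x : Over.mk c ⟶ X := Over.homMk (Spec.map (CommRingCat.ofHom q) ≫ hU.fromSpec) (Category.assoc _ _ _)
    have hy : (x ≫ f).left = Spec.map (CommRingCat.ofHom (q.comp φ)) ≫ hW.fromSpec := by
      change (Spec.map (CommRingCat.ofHom q) ≫ hU.fromSpec) ≫ f.left = _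
      rw [CommRingCat.ofHom_comp, Spec.map_comp, Category.assoc, Category.assoc, hfU]
    have hfix : (x ≫ f) ≫ retr b = x ≫ f := Over.OverMorphism.ext (by
      rw [retr_eval b hW hWs c (q.comp φ) _ hy, hy]
      congr 3
      refine RingHom.ext fun v => ?_
      change q (φ (e0 β v)) = q (φ v)
      refine (Ideal.Quotient.eq.2 ?_).symm
      rw [← map_sub]
      refine Ideal.mem_map_of_mem φ ?_
      rw [RingHom.mem_ker, map_sub, (isCoact b hW hWs).e0_e0, sub_self])
    have hx : (x ≫ retr a).left = x.left := congrArg CommaMorphism.left (hrefl _ x hfix)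
    rw [retr_eval a hU hUs c q x rfl] at hx
    have e := DFunLike.congr_fun (ringHom_ext hU hx) r
    rw [RingHom.comp_apply, hr, map_zero] at e
    exact Ideal.Quotient.eq_zero_iff_mem.1 e.symm
  have hflat : ∀ p : Ideal Γ(Y.left, W), p.IsPrime → RingHom.ker (e0 β) ≤ p →
      ∀ k, φ k = 0 → ∃ w, w ∉ p ∧ w * k = 0 := by
    intro p hp hle k hk
    let pp : Spec (CommRingCat.of Γ(Y.left, W)) := ⟨p, hp⟩
    let qq : Spec (CommRingCat.of Γ(X.left, U)) := Spec.map (CommRingCat.ofHom σ') pp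
    have hqV : hU.fromSpec qq ∈ V := by
      change hU.fromSpec (Spec.map (CommRingCat.ofHom σ') pp) ∈ V
      have e : hU.fromSpec (Spec.map (CommRingCat.ofHom σ') pp) = s.left (hW.fromSpec pp) :=
        (Scheme.Hom.comp_apply _ _ _).symm.trans ((congrArg (fun m => m pp) hσ').trans (Scheme.Hom.comp_apply _ _ _))
      refine (congrArg (· ∈ V) e).mpr ?_
      change hW.fromSpec pp ∈ s.left ⁻¹ᵁ V
      rw [hV Y s hs]
      trivial
    have hqU : hU.fromSpec qq ∈ U := hU.range_fromSpec.le (Set.mem_range_self qq)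
    obtain ⟨g, hg, hgq⟩ := hU.exists_basicOpen_le (V := V) ⟨_, hqV⟩ hqU
    have hgp : σ' g ∉ p := by
      have h : qq ∈ hU.fromSpec ⁻¹ᵁ X.left.basicOpen g := hgq
      rw [hU.fromSpec_preimage_basicOpen] at h
      exact h
    let C := Localization.Away g
    let ιC := algebraMap Γ(X.left, U) C
    have hCflat : Flat (Spec.map (CommRingCat.ofHom (ιC.comp φ))) := by
      have hm : Set.range (Spec.map (CommRingCat.ofHom ιC) ≫ hU.fromSpec) ⊆ Set.range V.ι := by
        rintro _ ⟨v, rfl⟩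
        rw [Scheme.Opens.range_ι, Scheme.Hom.comp_apply]
        refine hg ?_
        change _ ∈ hU.fromSpec ⁻¹ᵁ X.left.basicOpen g
        rw [hU.fromSpec_preimage_basicOpen]
        exact (PrimeSpectrum.localization_away_comap_range C g).le (Set.mem_range_self v)
      have e : Spec.map (CommRingCat.ofHom (ιC.comp φ)) ≫ hW.fromSpec =
          IsOpenImmersion.lift V.ι _ hm ≫ V.ι ≫ f.left := by
        rw [IsOpenImmersion.lift_fac_assoc, CommRingCat.ofHom_comp, Spec.map_comp, Category.assoc, Category.assoc, hfU]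
      haveI : IsOpenImmersion (Spec.map (CommRingCat.ofHom ιC)) := inferInstance
      haveI : IsOpenImmersion (IsOpenImmersion.lift V.ι _ hm ≫ V.ι) := by
        rw [IsOpenImmersion.lift_fac]; infer_instance
      haveI : IsOpenImmersion (IsOpenImmersion.lift V.ι _ hm) := IsOpenImmersion.of_comp _ V.ι
      exact MorphismProperty.of_postcomp (W := @Flat) (W' := @IsOpenImmersion) _ hW.fromSpec inferInstance
        (by rw [e]; infer_instance)
    have hrf : (ιC.comp φ).Flat := (HasRingHomProperty.Spec_iff (P := @Flat)).1 hCflat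
    let qI : Ideal C := Ideal.map ιC (p.comap σ')
    have hdisj : Disjoint (Submonoid.powers g : Set Γ(X.left, U)) (p.comap σ' : Set Γ(X.left, U)) := by
      rw [Set.disjoint_left]
      rintro _ ⟨n, rfl⟩ hn
      exact hgp (hp.mem_of_pow_mem n (by simpa using hn))
    haveI : (p.comap σ').IsPrime := Ideal.IsPrime.comap σ'
    have hq : qI ≠ ⊤ := ((IsLocalization.isPrime_of_isPrime_disjoint (Submonoid.powers g) C _ ‹_› hdisj)).ne_top
    obtain ⟨w, hw, hwk⟩ := exists_not_mem_of_flat (ιC.comp φ) hrf qI hq k (by rw [RingHom.comp_apply, hk, map_zero])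
    refine ⟨w, fun hwp => hw ?_, hwk⟩
    change ιC (φ w) ∈ qI
    refine Ideal.mem_map_of_mem ιC ?_
    change σ' (φ w) ∈ p
    rw [show σ' (φ w) = e0 β w from DFunLike.congr_fun hσφ w]
    have hker : e0 β w - w ∈ p := hle (by rw [RingHom.mem_ker, map_sub, (isCoact b hW hWs).e0_e0, sub_self])
    simpa using p.add_mem hker hwp
  have hbijφ : Function.Bijective φ := bijective_of_flat_at_fixed φ (isCoact a hU hUs) (isCoact b hW hWs)
    (coaction_comp a f hf hW hWs hU hUs le_rfl) (fun r => ⟨σ' r, DFunLike.congr_fun hφσ r⟩) hgen hflat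
  refine ⟨W, hyW, ?_⟩
  haveI : IsAffine W := hW
  haveI : IsAffine U := hU
  haveI : IsIso (f.left.appLE W U le_rfl) := (ConcreteCategory.isIso_iff_bijective _).2 hbijφ
  haveI : IsIso ((hU.isoSpec.inv ≫ (f.left ∣_ W)) ≫ hW.isoSpec.hom) := by
    have e : (hU.isoSpec.inv ≫ (f.left ∣_ W)) ≫ hW.isoSpec.hom = Spec.map (f.left.appLE W U le_rfl) := by
      rw [← cancel_mono hW.fromSpec, hW.SpecMap_appLE_fromSpec f.left hU le_rfl, Category.assoc, hW.isoSpec_hom_fromSpec,
        Category.assoc, morphismRestrict_ι, ← hU.isoSpec_hom_fromSpec]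
      simp [U]
    rw [e]
    infer_instance
  haveI := IsIso.of_isIso_comp_right (hU.isoSpec.inv ≫ (f.left ∣_ W)) hW.isoSpec.hom
  exact IsIso.of_isIso_comp_left hU.isoSpec.inv (f.left ∣_ W)

end Groth.Agent.MagnetLib.A1
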