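import Groth.Agent.MagnetLib.AtlasRange
import Mathlib.RingTheory.Noetherian.Basic
import Mathlib.RingTheory.Int.Basic

/-!
# Attractors are attractors of finitely generated magnets with the same units
-/

set_option autoImplicit false

universe u

open CategoryTheory CategoryTheory.Limits MonoidalCategory CartesianMonoidalCategory MonObj AlgebraicGeometry Opposite

noncomputable section

namespace Groth.Agent.MagnetLib

open Magnet Magnet.MonAct

variable {S : Scheme.{u}} {M : Type} [AddCommGroup M] {X U : Over S} {aX : MonAct (AMonS S M) X}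
  {aU : MonAct (AMonS S M) U} {f : U ⟶ X}

theorem attrToX_attrMap (a : MonAct (AMonS S M) X) {N L : AddSubmonoid M} (h : N ≤ L) (T : Over S)
    (e : (attr a N).obj (op T)) :
    (attrToX a L).app (op T) ((attrMap a h).app (op T) e) = (attrToX a N).app (op T) e := by
  change CartesianMonoidalCategory.lift (toUnit T ≫ η[AMonS S L]) (𝟙 T) ≫
      (AMonS.map S (AddSubmonoid.inclusion h) ▷ T) ≫ e.1 = _
  rw [lift_whiskerRight_assoc, Category.assoc, IsMonHom.one_hom]
  rfl

theorem exists_fg_magnet [AddGroup.FG M] [CompactSpace S] [IsSeparated X.hom] [LocallyOfFinitePresentation X.hom]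
    [IsAffineHom U.hom] [Etale f.left] [Surjective f.left] (hf : IsEquivariant aU aX f)
    (N : AddSubmonoid M) (Z : AddSubgroup M) (hZ : ∀ m : M, m ∈ Z ↔ (m ∈ N ∧ -m ∈ N))
    (hfZ : IsEquivariant (aU.restrict (AMonS.map S (QuotientAddGroup.mk' Z)))
      (aX.restrict (AMonS.map S (QuotientAddGroup.mk' Z))) f)
    (hfpr : IsPullback (fixedPsh.map f hfZ)
      (fixedPshι (aU.restrict (AMonS.map S (QuotientAddGroup.mk' Z))))
      (fixedPshι (aX.restrict (AMonS.map S (QuotientAddGroup.mk' Z)))) (yoneda.map f)) :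
    ∃ (Nc : AddSubmonoid M) (h : Nc ≤ N), Nc.FG ∧ (∀ m : M, (m ∈ Nc ∧ -m ∈ Nc) ↔ (m ∈ N ∧ -m ∈ N)) ∧
      IsIso (attrMap aX h) := by
  classical
  have : Module.Finite ℤ M := Module.Finite.iff_addGroup_fg.2 inferInstance
  have : IsNoetherian ℤ M := isNoetherian_of_isNoetherianRing_of_finite ℤ M
  obtain ⟨s, hs⟩ := IsNoetherian.noetherian (AddSubgroup.toIntSubmodule Z)
  have hsZ : AddSubgroup.closure (s : Set M) = Z := by
    have := congrArg Submodule.toAddSubgroup hs
    rwa [Submodule.span_int_eq_addSubgroupClosure, AddSubgroup.toIntSubmodule_toAddSubgroup] at this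
  have : LocallyOfFinitePresentation U.hom := by
    rw [← Over.w f]
    infer_instance
  obtain ⟨D, hD⟩ := Pure.exists_degrees_global aU
  let gen : Finset M := s ∪ s.image (fun m => -m) ∪ D.filter (fun m => m ∈ N)
  let Nc := AddSubmonoid.closure (gen : Set M)
  have hle : Nc ≤ N := AddSubmonoid.closure_le.2 fun m hm => by
    simp only [gen, Finset.coe_union, Set.mem_union, Finset.mem_coe, Finset.mem_image, Finset.mem_filter] at hm
    rcases hm with (hm | ⟨x, hx, rfl⟩) | hm
    · exact ((hZ m).1 (hsZ ▸ AddSubgroup.subset_closure hm)).1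
    · exact ((hZ x).1 (hsZ ▸ AddSubgroup.subset_closure hx)).2
    · exact hm.2
  have hZc : ∀ m ∈ Z, m ∈ Nc := fun m hm => by
    rw [← hsZ, ← AddSubgroup.mem_toAddSubmonoid, AddSubgroup.closure_toAddSubmonoid] at hm
    refine AddSubmonoid.closure_mono (fun y hy => ?_) hm
    simp only [gen, Finset.coe_union, Set.mem_union, Finset.coe_image, Set.mem_image]
    rcases hy with hy | hy
    · exact Or.inl (Or.inl hy)
    · exact Or.inl (Or.inr ⟨-y, hy, neg_neg y⟩)
  have hunit : ∀ m : M, (m ∈ Nc ∧ -m ∈ Nc) ↔ (m ∈ N ∧ -m ∈ N) := fun m =>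
    ⟨fun h => ⟨hle h.1, hle h.2⟩, fun h => ⟨hZc m ((hZ m).2 h), hZc _ (Z.neg_mem ((hZ m).2 h))⟩⟩
  have hZu : Z.toAddSubmonoid = unitFace N := SetLike.ext fun m => by
    rw [AddSubgroup.mem_toAddSubmonoid, hZ, mem_unitFace]
    exact ⟨fun h => ⟨h.1, -m, h.2, add_neg_cancel m⟩,
      fun ⟨h, y, hy, e⟩ => ⟨h, (neg_eq_of_add_eq_zero_right e).symm ▸ hy⟩⟩
  refine ⟨Nc, hle, ⟨gen, rfl⟩, hunit, ?_⟩
  refine (NatTrans.isIso_iff_isIso_app _).2 fun T => (CategoryTheory.isIso_iff_bijective _).2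
    ⟨attrMap_injective aX hle (unop T), fun φ => ?_⟩
  obtain ⟨ψ, hψ⟩ := range_subset_of_unit_atlas hf N Nc Z hZu hfZ hfpr
    (hD N Nc fun m hm hmN => AddSubmonoid.subset_closure
      (Finset.mem_coe.2 (Finset.mem_union_right _ (Finset.mem_filter.2 ⟨hm, hmN⟩)))) (unop T) ⟨φ, rfl⟩
  exact ⟨ψ, attrToX_injective aX N (unop T) ((attrToX_attrMap aX hle (unop T) ψ).trans hψ)⟩

end Groth.Agent.MagnetLib
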