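import Groth.Agent.MagnetLib.Dom
import Groth.Prelude.Def_Magnet3

/-!
# Change of monoid for attractors of separated schemes
-/

set_option autoImplicit false
set_option backward.isDefEq.respectTransparency false

universe u

noncomputable section

open CategoryTheory CategoryTheory.Limits MonoidalCategory CartesianMonoidalCategory MonObj AlgebraicGeometry Opposite

namespace Groth.Agent.MagnetLib

open Magnet Magnet.MonAct

theorem amon_map_id (R : Type u) [CommRing R] (M : Type) [AddCommMonoid M] :
    AMon.map R (AddMonoidHom.id M) = 𝟙 (AMon R M) := by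
  ext : 1
  rw [AMon.map_left]
  refine Eq.trans (congrArg Spec.map ?_) (Spec.map_id _)
  rw [← CommRingCat.ofHom_id]
  congr 1
  apply MonoidAlgebra.ringHom_ext
  · intro r; simp
  · intro m; simp

theorem amons_map_id (S : Scheme.{u}) (M : Type) [AddCommMonoid M] :
    AMonS.map S (AddMonoidHom.id M) = 𝟙 (AMonS S M) := by
  rw [AMonS.map, amon_map_id, CategoryTheory.Functor.map_id]

variable {S : Scheme.{u}} {M N : Type} [AddCommMonoid M] [AddCommMonoid N]

/-- Isomorphic monoids have isomorphic monoid schemes. -/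
theorem isIso_amons_map (f : N →+ M) (hf : Function.Bijective f) : IsIso (AMonS.map S f) := by
  let e := AddEquiv.ofBijective f hf
  refine ⟨AMonS.map S e.symm.toAddMonoidHom, ?_, ?_⟩
  · rw [← AMonS.map_comp, ← amons_map_id]
    exact congrArg (AMonS.map S) (AddMonoidHom.ext fun x => e.apply_symm_apply x)
  · rw [← AMonS.map_comp, ← amons_map_id]
    exact congrArg (AMonS.map S) (AddMonoidHom.ext fun x => e.symm_apply_apply x)

variable {Z : Type} [AddCommMonoid Z] {X : Over S} [IsSeparated X.hom]

theorem attrToX_attrComap (a : MonAct (AMonS S M) X) (f : M →+ Z) (Y : AddSubmonoid Z) (T : Over S)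
    (φ : (attr a (Y.comap f)).obj (op T)) :
    (attrToX (a.restrict (AMonS.map S f)) Y).app (op T) ((attrComap a f Y).app (op T) φ) =
      (attrToX a (Y.comap f)).app (op T) φ := by
  change CartesianMonoidalCategory.lift (toUnit T ≫ η[AMonS S Y]) (𝟙 T) ≫
      ((attrComap a f Y).app (op T) φ).1 = _
  rw [attrComap_app_coe, lift_whiskerRight_assoc, Category.assoc, IsMonHom.one_hom]
  rfl

theorem attrComap_injective (a : MonAct (AMonS S M) X) (f : M →+ Z) (Y : AddSubmonoid Z) (T : Over S) :
    Function.Injective (fun φ => (attrComap a f Y).app (op T) φ) := fun e e' h => by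
  refine attrToX_injective a (Y.comap f) T ?_
  have h' : (attrComap a f Y).app (op T) e = (attrComap a f Y).app (op T) e' := h
  change (attrToX a _).app (op T) e = (attrToX a _).app (op T) e'
  rw [← attrToX_attrComap, ← attrToX_attrComap, h']

theorem isIso_attrComap_of_injective (a : MonAct (AMonS S M) X) (f : M →+ Z) (hf : Function.Injective f)
    (Y : AddSubmonoid Z) (hY : Y ≤ AddMonoidHom.mrange f) : IsIso (attrComap a f Y) := by
  let g := (f.comp (Y.comap f).subtype).codRestrict Y (fun x => x.2)
  have hg : Function.Bijective g := by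
    refine ⟨fun x y h => Subtype.ext (hf (congrArg Subtype.val h)), fun y => ?_⟩
    obtain ⟨m, hm⟩ := hY y.2
    exact ⟨⟨m, by show f m ∈ Y; rw [hm]; exact y.2⟩, Subtype.ext hm⟩
  have : IsIso (AMonS.map S g) := isIso_amons_map g hg
  refine (NatTrans.isIso_iff_isIso_app _).2 fun T => (CategoryTheory.isIso_iff_bijective _).2
    ⟨attrComap_injective a f Y (unop T), fun ψ => ?_⟩
  let φ := (inv (AMonS.map S g) ▷ unop T) ≫ ψ.1
  refine ⟨⟨φ, ?_⟩, Subtype.ext ?_⟩
  · refine hom_ext_amon f hf (AMonS S ↥(Y.comap f) ⊗ unop T) (Magnet.hom_ext_lift₂ fun T' z w => ?_)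
    rw [← lift_comp_fst_snd w]
    simp only [lift_whiskerRight_assoc, lift_whiskerLeft_assoc, lift_prod_act_assoc, lift_trivial_act, φ]
    have e := (mem_eqvHom_iff ψ.1).1 ψ.2 T' z ((w ≫ fst _ _) ≫ inv (AMonS.map S g)) (w ≫ snd _ _)
    rw [lift_restrict_act (AMonS.map S f) a z] at e
    refine Eq.trans ?_ e
    congr 2
    rw [← cancel_mono (AMonS.map S g), subAct, subAct, lift_restrict_act, lift_restrict_act, lift_regular_act,
      lift_regular_act, Category.assoc, IsIso.inv_hom_id, Category.comp_id, MonObj.mul_comp, Category.assoc,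
      Category.assoc, Category.assoc, IsIso.inv_hom_id, Category.comp_id, ← AMonS.map_comp, ← AMonS.map_comp]
    rfl
  · change (AMonS.map S g ▷ unop T) ≫ φ = ψ.1
    rw [← MonoidalCategory.comp_whiskerRight_assoc, IsIso.hom_inv_id, MonoidalCategory.id_whiskerRight,
      Category.id_comp]

end Groth.Agent.MagnetLib
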