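import Groth.Agent.MagnetLib.STD
import Mathlib.AlgebraicGeometry.Morphisms.Flat
import Groth.Prelude.Def_Magnet2

/-!
# Dense open submonoids over a field
-/

set_option autoImplicit false
set_option backward.isDefEq.respectTransparency false

universe u

noncomputable section

open CategoryTheory CategoryTheory.Limits MonoidalCategory CartesianMonoidalCategory MonObj AlgebraicGeometry Opposite

namespace Groth.Agent.MagnetLib

open Magnet Magnet.MonAct

variable {k : Type u} [Field k] {M G X Z : Over (Spec (CommRingCat.of k))}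

theorem isPullback_whiskerRight_left (i : G ⟶ M) (T : Over (Spec (CommRingCat.of k))) :
    IsPullback (fst G T).left (i ▷ T).left i.left (fst M T).left := by
  refine (IsPullback.of_bot (h₂₁ := (fst M T).left) (v₂₁ := (snd M T).left) (v₂₂ := M.hom) (h₃₁ := T.hom)
    ?_ (Over.whiskerRight_left_fst i).symm (IsPullback.of_hasPullback M.hom T.hom))
  have e1 : (i ▷ T).left ≫ (snd M T).left = (snd G T).left := Over.whiskerRight_left_snd i
  rw [e1, Over.w i]
  exact IsPullback.of_hasPullback G.hom T.hom

theorem isSchemeTheoreticallyDominant_whisker (i : G ⟶ M) [IsSchemeTheoreticallyDominant i.left]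
    [QuasiCompact i.left] (T : Over (Spec (CommRingCat.of k))) :
    IsSchemeTheoreticallyDominant (i ▷ T).left :=
  have : Flat T.hom := inferInstance
  have : Flat (fst M T).left := MorphismProperty.pullback_fst (P := @Flat) _ _ this
  IsSchemeTheoreticallyDominant.of_isPullback (isPullback_whiskerRight_left i T)

/-- Maps into separated targets are determined on the dense open. -/
theorem exists_lift_whisker (i : G ⟶ M) [IsSchemeTheoreticallyDominant i.left] [QuasiCompact i.left]
    (T : Over (Spec (CommRingCat.of k))) (j : Z ⟶ X) [IsClosedImmersion j.left] (y : M ⊗ T ⟶ X) (z : G ⊗ T ⟶ Z)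
    (h : z ≫ j = (i ▷ T) ≫ y) : ∃ l : M ⊗ T ⟶ Z, l ≫ j = y := by
  have := isSchemeTheoreticallyDominant_whisker i T
  obtain ⟨l, hl⟩ := exists_lift_of_dominant (i ▷ T).left j.left y.left z.left (congrArg CommaMorphism.left h)
  exact ⟨Over.homMk l (by rw [← Over.w j, reassoc_of% hl, Over.w y]), Over.OverMorphism.ext hl⟩

theorem exists_monAct_extend [MonObj M] [GrpObj G] (i : G ⟶ M) [IsMonHom i] [QuasiCompact i.left]
    [IsSchemeTheoreticallyDominant i.left] (a : MonAct M X) (b : AlgGrp.Action G Z) (j : Z ⟶ X)
    [IsClosedImmersion j.left] (hj : IsEquivariant (MonAct.ofAction b) (a.restrict i) j) :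
    ∃ c : MonAct M Z, IsEquivariant c a j ∧ c.restrict i = MonAct.ofAction b := by
  have := mono_of_closedImmersion j
  unfold IsEquivariant at hj
  rw [restrict_act] at hj
  obtain ⟨act, hact⟩ := exists_lift_whisker i Z j ((M ◁ j) ≫ a.act) b.act (by
    rw [← whisker_exchange_assoc]
    exact hj.trans (Category.assoc _ _ _).symm)
  have e : ∀ (T : Over (Spec (CommRingCat.of k))) (g : T ⟶ M) (x : T ⟶ Z),
      (CartesianMonoidalCategory.lift g x ≫ act) ≫ j = CartesianMonoidalCategory.lift g (x ≫ j) ≫ a.act := fun T g x => by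
    rw [Category.assoc, hact, lift_whiskerLeft_assoc]
  refine ⟨MonAct.mk' act (fun T x => (cancel_mono j).1 ?_) (fun T g h x => (cancel_mono j).1 ?_), hact,
    MonAct.ext' ((cancel_mono j).1 ?_)⟩
  · rw [e, a.lift_one_act]
  · rw [e, e, a.lift_mul_act, e]
  · rw [restrict_act, mk'_act, Category.assoc, hact, ← whisker_exchange_assoc]
    exact hj.symm

/-- Equivariant families landing in a closed stable subscheme at the unit lie in it. -/
theorem isPullback_postcomp_evalAt [MonObj M] [GrpObj G] (i : G ⟶ M) [IsMonHom i] [QuasiCompact i.left]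
    [IsSchemeTheoreticallyDominant i.left] (aX : AlgGrp.Action G X) (aZ : AlgGrp.Action G Z) (j : Z ⟶ X)
    [IsClosedImmersion j.left] (hj : IsEquivariant (MonAct.ofAction aZ) (MonAct.ofAction aX) j) :
    IsPullback (eqvHom.postcomp ((regular M).restrict i) j hj)
      (eqvHom.evalAt ((regular M).restrict i) (MonAct.ofAction aZ) η[M])
      (eqvHom.evalAt ((regular M).restrict i) (MonAct.ofAction aX) η[M]) (yoneda.map j) := by
  have := mono_of_closedImmersion j
  refine IsPullback.of_forall_isPullback_app fun T => ?_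
  rw [Types.isPullback_iff]
  refine ⟨?_, fun e e' h => Subtype.ext ((cancel_mono j).1 (congrArg Subtype.val h.1)), fun e z h => ?_⟩
  · ext e
    exact (Category.assoc _ _ _).symm
  · have hz : z ≫ j = (eqvHom.evalAt ((regular M).restrict i) (MonAct.ofAction aX) η[M]).app T e := h.symm
    have hu := eqvHom_whiskerRight i (MonAct.ofAction aX) T e
    have hfp := (isEquivariant_iff (MonAct.ofAction aZ) (MonAct.ofAction aX) j).1 hj (G ⊗ unop T) (fst _ _)
      (snd _ _ ≫ z)
    have hw : (CartesianMonoidalCategory.lift (fst G (unop T)) (snd G (unop T) ≫ z) ≫ (MonAct.ofAction aZ).act) ≫ j =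
        (i ▷ unop T) ≫ e.1 := by
      rw [Category.assoc, hfp, Category.assoc, hz]
      exact hu.symm
    obtain ⟨l, hl⟩ := exists_lift_whisker i (unop T) j e.1 _ hw
    refine ⟨⟨l, ?_⟩, Subtype.ext hl, ?_⟩
    · have he := e.2
      unfold IsEquivariant at he hj ⊢
      rw [← cancel_mono j, Category.assoc, hl, he, Category.assoc, hj, ← MonoidalCategory.whiskerLeft_comp_assoc, hl]
    · refine (cancel_mono j).1 ?_
      change (CartesianMonoidalCategory.lift (toUnit (unop T) ≫ η[M]) (𝟙 _) ≫ l) ≫ j = z ≫ j
      rw [Category.assoc, hl, hz]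
      rfl

end Groth.Agent.MagnetLib
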