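import Groth.Agent.MagnetLib.Extend
import Groth.Agent.MagnetLib.Field
import Groth.Agent.MagnetLib.Comap

/-!
# Representability of the functors of equivariant maps of affine schemes
-/

set_option autoImplicit false
set_option backward.isDefEq.respectTransparency false

universe u v₁ u₁

noncomputable section

open CategoryTheory CategoryTheory.Limits MonoidalCategory CartesianMonoidalCategory MonObj AlgebraicGeometry Opposite
open scoped TensorProduct

namespace Groth.Agent.MagnetLib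

open Magnet Magnet.MonAct

section Orbit

variable {C : Type u₁} [Category.{v₁} C] [CartesianMonoidalCategory C] {A B X Z : C} [MonObj A] [MonObj B]
  (φ : A ⟶ B) [IsMonHom φ] (a : MonAct A X)

theorem evalAt_of_extends {T : C} (x : T ⟶ X) (l : B ⊗ T ⟶ X) (hl : (φ ▷ T) ≫ l = (A ◁ x) ≫ a.act) :
    CartesianMonoidalCategory.lift (toUnit T ≫ η[B]) (𝟙 T) ≫ l = x := by
  rw [← (IsMonHom.one_hom φ : η[A] ≫ φ = η[B]), ← Category.assoc, ← lift_whiskerRight_assoc, hl,
    lift_whiskerLeft_assoc, Category.id_comp, one_def']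
  exact a.lift_one_act x

/-- An extension of an orbit map is equivariant. -/
theorem mem_of_extends (hext : ∀ (T : C) (u v : B ⊗ T ⟶ X), (φ ▷ T) ≫ u = (φ ▷ T) ≫ v → u = v) {T : C}
    (x : T ⟶ X) (l : B ⊗ T ⟶ X) (hl : (φ ▷ T) ≫ l = (A ◁ x) ≫ a.act) :
    IsEquivariant (((regular B).restrict φ).prod (trivial A T)) a l := by
  have hl' : ∀ (W : C) (h : W ⟶ A) (t : W ⟶ T), CartesianMonoidalCategory.lift (h ≫ φ) t ≫ l =
      CartesianMonoidalCategory.lift h (t ≫ x) ≫ a.act := fun W h t => by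
    rw [← lift_whiskerRight_assoc, hl, lift_whiskerLeft_assoc]
  let g₀ : B ⊗ (A ⊗ T) ⟶ A := snd _ _ ≫ fst _ _
  let t₀ : B ⊗ (A ⊗ T) ⟶ T := snd _ _ ≫ snd _ _
  have key : CartesianMonoidalCategory.lift ((g₀ ≫ φ) * fst _ _) t₀ ≫ l =
      CartesianMonoidalCategory.lift g₀ (CartesianMonoidalCategory.lift (fst _ _) t₀ ≫ l) ≫ a.act := by
    refine hext _ _ _ (Magnet.hom_ext_lift₂ fun W h w => ?_)
    rw [← lift_comp_fst_snd w]
    simp only [g₀, t₀, lift_whiskerRight_assoc, comp_lift_assoc, MonObj.comp_mul, Category.assoc, lift_fst, lift_fst_assoc,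
      lift_snd_assoc, lift_snd]
    rw [← Category.assoc w (fst A T) φ, ← MonObj.mul_comp, hl', hl', a.lift_mul_act]
  rw [mem_eqvHom_iff]
  intro W g b t
  rw [lift_restrict_act, lift_regular_act]
  have h := congrArg (CartesianMonoidalCategory.lift b (CartesianMonoidalCategory.lift g t) ≫ ·) key
  simp only [g₀, t₀, comp_lift_assoc, MonObj.comp_mul, Category.assoc, lift_fst, lift_fst_assoc, lift_snd_assoc,
    lift_snd] at h
  exact h

theorem orbit_eq {T : C} (x : T ⟶ X) :
    (A ◁ x) = CartesianMonoidalCategory.lift (fst A T) (snd A T ≫ x) := by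
  apply CartesianMonoidalCategory.hom_ext <;> simp

theorem eqvHom_extends (T : C) (e : (eqvHom ((regular B).restrict φ) a).obj (op T)) :
    (φ ▷ T) ≫ e.1 = (A ◁ (eqvHom.evalAt ((regular B).restrict φ) a η[B]).app (op T) e) ≫ a.act := by
  rw [orbit_eq]
  exact eqvHom_whiskerRight φ a (op T) e

/-- The functor of equivariant maps is represented by the locus where orbit maps extend. -/
theorem exists_representableBy (hext : ∀ (T : C) (u v : B ⊗ T ⟶ X), (φ ▷ T) ≫ u = (φ ▷ T) ≫ v → u = v)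
    (i : Z ⟶ X) [Mono i]
    (hZ : ∀ (T : C) (x : T ⟶ X), (∃ l : B ⊗ T ⟶ X, (φ ▷ T) ≫ l = (A ◁ x) ≫ a.act) ↔ ∃ z : T ⟶ Z, z ≫ i = x) :
    ∃ e : (eqvHom ((regular B).restrict φ) a).RepresentableBy Z, ∀ (T : C) (z : T ⟶ Z),
      (eqvHom.evalAt ((regular B).restrict φ) a η[B]).app (op T) (e.homEquiv z) = z ≫ i := by
  let F := eqvHom ((regular B).restrict φ) a
  let ev := eqvHom.evalAt ((regular B).restrict φ) a η[B]
  have inj : ∀ (T : C) (e e' : F.obj (op T)), ev.app (op T) e = ev.app (op T) e' → e = e' := fun T e e' h => by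
    refine Subtype.ext (hext T _ _ ((eqvHom_extends φ a T e).trans ?_))
    exact Eq.trans (congrArg (fun x => (A ◁ x) ≫ a.act) h) (eqvHom_extends φ a T e').symm
  have fac : ∀ (T : C) (e : F.obj (op T)), ∃ z : T ⟶ Z, z ≫ i = ev.app (op T) e := fun T e =>
    (hZ T _).1 ⟨e.1, eqvHom_extends φ a T e⟩
  choose ψ hψ using fac
  have surj : ∀ (T : C) (z : T ⟶ Z), ∃ e : F.obj (op T), ψ T e = z := fun T z => by
    obtain ⟨l, hl⟩ := (hZ T (z ≫ i)).2 ⟨z, rfl⟩
    refine ⟨⟨l, mem_of_extends φ a hext _ l hl⟩, (cancel_mono i).1 ((hψ _ _).trans ?_)⟩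
    exact evalAt_of_extends φ a (z ≫ i) l hl
  let eqv : ∀ T : C, (T ⟶ Z) ≃ F.obj (op T) := fun T =>
    (Equiv.ofBijective (ψ T) ⟨fun e e' h => inj T e e' (by rw [← hψ, h, hψ]), surj T⟩).symm
  have hev : ∀ (T : C) (z : T ⟶ Z), ev.app (op T) (eqv T z) = z ≫ i := fun T z => by
    rw [← hψ]
    exact congrArg (· ≫ i) ((eqv T).symm_apply_apply z)
  refine ⟨{ homEquiv := fun {T} => eqv T, homEquiv_comp := fun {T T'} f z => inj T _ _ ?_ }, hev⟩
  rw [hev]
  have := ConcreteCategory.congr_hom (ev.naturality f.op) (eqv T' z)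
  refine Eq.trans ?_ this.symm
  change (f ≫ z) ≫ i = f ≫ ev.app (op T') (eqv T' z)
  rw [hev, Category.assoc]

end Orbit

section Magnet

variable {S : Scheme.{u}} {M N : Type} [AddCommMonoid M] [AddCommMonoid N]

/-- Retraction of monoid algebras along an injective map. -/
def retr (f : N →+ M) (hf : Function.Injective f) :
    MonoidAlgebra (ULift.{u} ℤ) (Multiplicative M) →ₗ[ULift.{u} ℤ] MonoidAlgebra (ULift.{u} ℤ) (Multiplicative N) :=
  (MonoidAlgebra.coeffLinearEquiv _).symm.toLinearMap ∘ₗ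
    Finsupp.lcomapDomain (R := ULift.{u} ℤ) (M := ULift.{u} ℤ) (AddMonoidHom.toMultiplicative f)
      (fun _ _ h => Multiplicative.toAdd.injective (hf (congrArg Multiplicative.toAdd h))) ∘ₗ
    (MonoidAlgebra.coeffLinearEquiv _).toLinearMap

/-- The map of monoid algebras. -/
abbrev algMap (f : N →+ M) :
    MonoidAlgebra (ULift.{u} ℤ) (Multiplicative N) →ₐ[ULift.{u} ℤ] MonoidAlgebra (ULift.{u} ℤ) (Multiplicative M) :=
  (MonoidAlgebra.mapDomainBialgHom (ULift.{u} ℤ) (AddMonoidHom.toMultiplicative f)).toAlgHom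

theorem retr_algMap (f : N →+ M) (hf : Function.Injective f) (x) : retr.{u} f hf (algMap.{u} f x) = x := by
  apply (MonoidAlgebra.coeffLinearEquiv (ULift.{u} ℤ)).injective
  simp only [retr, LinearMap.comp_apply, LinearEquiv.coe_coe, LinearEquiv.apply_symm_apply]
  exact Finsupp.leftInverse_lcomapDomain_mapDomain _ _ _

theorem amons_map_hm (f : N →+ M) :
    (AMonS.map S f).left ≫ pullback.fst _ _ =
      pullback.fst _ _ ≫ Spec.map (CommRingCat.ofHom (algMap.{u} f).toRingHom) :=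
  map_left_fst S f

variable {X : Over S} [IsAffineHom X.hom]

theorem exists_closed_orbit (a : MonAct (AMonS S M) X) (f : N →+ M) (hf : Function.Injective f) :
    ∃ (Z : Over S) (i : Z ⟶ X), IsClosedImmersion i.left ∧ ∀ (T : Over S) (x : T ⟶ X),
      (∃ l : AMonS S N ⊗ T ⟶ X, (AMonS.map S f ▷ T) ≫ l = (AMonS S M ◁ x) ≫ a.act) ↔ ∃ z : T ⟶ Z, z ≫ i = x :=
  Extend.exists_closed (g := toZ S) (AMonS.map S f) a.act (fun T u v h => hom_ext_amon f hf T h)
    (algMap f) (retr f hf) (retr_algMap f hf) (amons_map_hm f)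

theorem exists_attr_representableBy (a : MonAct (AMonS S M) X) (N : AddSubmonoid M) :
    ∃ (Z : Over S) (i : Z ⟶ X) (e : (attr a N).RepresentableBy Z), IsClosedImmersion i.left ∧
      ∀ (T : Over S) (z : T ⟶ Z), (attrToX a N).app (op T) (e.homEquiv z) = z ≫ i := by
  obtain ⟨Z, i, hi, hZ⟩ := exists_closed_orbit a N.subtype Subtype.val_injective
  have := mono_of_closedImmersion i
  obtain ⟨e, he⟩ := exists_representableBy (AMonS.map S N.subtype) a
    (fun T u v h => hom_ext_amon N.subtype Subtype.val_injective T h) i hZ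
  exact ⟨Z, i, e, hi, he⟩

end Magnet

end Groth.Agent.MagnetLib
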