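import Groth.Prelude.Def_Magnet
import Mathlib.CategoryTheory.Sites.Canonical

/-!
# Functors of equivariant maps and fixed points are sheaves for subcanonical topologies
-/

set_option autoImplicit false

universe v₁ u₁

noncomputable section

open CategoryTheory CategoryTheory.Limits MonoidalCategory CartesianMonoidalCategory MonObj Opposite

namespace Groth.Agent.MagnetLib

open Magnet Magnet.MonAct

variable {C : Type u₁} [Category.{v₁} C] [CartesianMonoidalCategory C] {A B X : C} [MonObj A]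
variable {J : GrothendieckTopology C}

theorem isSheaf_eqvHom (hJ : ∀ Z : C, Presieve.IsSheaf J (yoneda.obj Z)) (ρ : MonAct A B) (a : MonAct A X) :
    Presieve.IsSheaf J (eqvHom ρ a) := by
  intro T R hR x hx
  let R' := R.pullback (snd B T)
  have hR' : R' ∈ J (B ⊗ T) := J.pullback_stable _ hR
  let y : Presieve.FamilyOfElements (yoneda.obj X) R'.arrows := fun W g hg =>
    lift (g ≫ fst B T) (𝟙 W) ≫ (x (g ≫ snd B T) hg).1
  have hxs := (Presieve.compatible_iff_sieveCompatible x).1 hx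
  have hxs' : ∀ {V W : C} (k : W ⟶ T) (hk : R.arrows k) (h : V ⟶ W) {k' : V ⟶ T} (hk' : R.arrows k'),
      k' = h ≫ k → (x k' hk').1 = (B ◁ h) ≫ (x k hk).1 := fun k hk h k' hk' e => by
    subst e
    exact congrArg Subtype.val (hxs k h hk)
  have hy : y.Compatible := by
    rw [Presieve.compatible_iff_sieveCompatible]
    intro W V g h hg
    change lift ((h ≫ g) ≫ fst B T) (𝟙 V) ≫ (x ((h ≫ g) ≫ snd B T) _).1 = h ≫ lift (g ≫ fst B T) (𝟙 W) ≫ _
    simp only [Category.assoc]
    refine (congrArg (lift (h ≫ g ≫ fst B T) (𝟙 V) ≫ ·)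
      (hxs' (g ≫ snd B T) hg h _ (Category.assoc _ _ _))).trans ?_
    rw [lift_whiskerLeft_assoc, comp_lift_assoc, Category.id_comp, Category.comp_id]
  obtain ⟨φ, hφ, huniq⟩ := hJ X R' hR' y hy
  have key : ∀ (W : C) (b : W ⟶ B) (k : W ⟶ T) (hk : R.arrows k),
      lift b k ≫ φ = lift b (𝟙 W) ≫ (x k hk).1 := fun W b k hk => by
    have := hφ (lift b k) (show R.arrows (lift b k ≫ snd B T) by rwa [lift_snd])
    refine Eq.trans this ?_
    simp only [y, lift_fst]
    congr 2
    congr 1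
    exact lift_snd _ _
  have hmem : IsEquivariant (ρ.prod (MonAct.trivial A T)) a φ := by
    rw [mem_eqvHom_iff]
    intro T' g b t
    refine (hJ X (R.pullback t) (J.pullback_stable t hR)).isSeparatedFor.ext fun W h hh => ?_
    change h ≫ _ = h ≫ _
    have e := (mem_eqvHom_iff (x (h ≫ t) hh).1).1 (x (h ≫ t) hh).2 W (h ≫ g) (h ≫ b) (𝟙 W)
    simp only [comp_lift_assoc, Category.assoc, comp_lift]
    rw [key _ _ _ hh, key _ _ _ hh]
    exact e
  refine ⟨⟨φ, hmem⟩, fun W k hk => Subtype.ext ?_, fun ψ hψ => Subtype.ext (huniq _ fun W g hg => ?_)⟩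
  · change (B ◁ k) ≫ φ = (x k hk).1
    refine (hJ X ((⊤ : Sieve (B ⊗ W))) (J.top_mem _)).isSeparatedFor.ext fun V h _ => ?_
    change h ≫ _ = h ≫ _
    rw [← lift_comp_fst_snd h, lift_whiskerLeft_assoc, key _ _ _ (R.downward_closed hk _), hxs' k hk _ _ rfl,
      lift_whiskerLeft_assoc, Category.id_comp]
  · change g ≫ ψ.1 = lift (g ≫ fst B T) (𝟙 W) ≫ (x (g ≫ snd B T) hg).1
    rw [← hψ (g ≫ snd B T) hg, eqvHom_map_coe, Quiver.Hom.unop_op, lift_whiskerLeft_assoc, Category.id_comp,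
      lift_comp_fst_snd]

theorem isSheaf_fixedPsh (hJ : ∀ Z : C, Presieve.IsSheaf J (yoneda.obj Z)) (a : MonAct A X) :
    Presieve.IsSheaf J (fixedPsh a) := by
  intro T R hR x hx
  have hxs := (Presieve.compatible_iff_sieveCompatible x).1 hx
  let y : Presieve.FamilyOfElements (yoneda.obj X) R.arrows := fun W g hg => (x g hg).1
  have hy : y.Compatible := by
    rw [Presieve.compatible_iff_sieveCompatible]
    intro V W g h hg
    exact congrArg Subtype.val (hxs g h hg)
  obtain ⟨x₀, h₀, huniq⟩ := hJ X R hR y hy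
  refine ⟨⟨x₀, fun T' t g => ?_⟩, fun W k hk => Subtype.ext (h₀ k hk),
    fun z hz => Subtype.ext (huniq _ fun W g hg => congrArg Subtype.val (hz g hg))⟩
  refine (hJ X (R.pullback t) (J.pullback_stable t hR)).isSeparatedFor.ext fun W h hh => ?_
  change h ≫ _ = h ≫ _
  have e : (h ≫ t) ≫ x₀ = (x (h ≫ t) hh).1 := h₀ (h ≫ t) hh
  have f := (x (h ≫ t) hh).2 W (𝟙 W) (h ≫ g)
  rw [Category.id_comp] at f
  rw [comp_lift_assoc, ← Category.assoc, e]
  exact f

end Groth.Agent.MagnetLib
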