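import Groth.Agent.MagnetLib.FaceLvl
import Groth.Agent.MagnetLib.Rep
import Groth.Agent.MagnetLib.Sheaf
import Mathlib.AlgebraicGeometry.Morphisms.FinitePresentation
import Mathlib.AlgebraicGeometry.Sites.Representability
import Mathlib.CategoryTheory.Sites.Over
import Mathlib.CategoryTheory.Sites.SubcanonicalOver

/-!
# Attractors in affine schemes of finite presentation depend on finitely many degrees
-/

set_option autoImplicit false
set_option backward.isDefEq.respectTransparency false

universe u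

noncomputable section

open CategoryTheory CategoryTheory.Limits MonoidalCategory CartesianMonoidalCategory MonObj AlgebraicGeometry Opposite

namespace Groth.Agent.MagnetLib.Pure

open Magnet Magnet.MonAct Avg

variable {S : Scheme.{u}} {M : Type} [AddCommMonoid M]

section Coordinates

variable {P : Type} [AddCommMonoid P] (C : Type u) [CommRing C]

/-- Functions along a homomorphism of monoids. -/
abbrev algM (f : P →+ M) : gRing P C →+* gRing M C :=
  MonoidAlgebra.mapDomainRingHom C (AddMonoidHom.toMultiplicative f)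

theorem algM_single (f : P →+ M) (m : Multiplicative P) (z : C) :
    algM C f (MonoidAlgebra.single m z) = MonoidAlgebra.single (Multiplicative.ofAdd (f m.toAdd)) z :=
  MonoidAlgebra.mapDomain_single ..

theorem algM_injective (f : P →+ M) (hf : Function.Injective f) : Function.Injective (algM C f) := fun _ _ e =>
  MonoidAlgebra.mapDomain_injective (Multiplicative.ofAdd.injective.comp (hf.comp Multiplicative.toAdd.injective)) e

theorem algM_incl (f : P →+ M) : (algM C f).comp (incl P C) = incl M C := RingHom.ext fun z => by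
  change algM C f (MonoidAlgebra.single 1 z) = MonoidAlgebra.single 1 z
  rw [algM_single]
  simp

/-- Naturality of the coordinates in the monoid. -/
theorem gc_mapM (f : P →+ M) (c : Spec (CommRingCat.of C) ⟶ S) :
    (gc M C c ≫ (AMonS.map S f ▷ Over.mk c)).left = Spec.map (CommRingCat.ofHom (algM C f)) ≫ (gc P C c).left := by
  let u : gOver M C c ⟶ gOver P C c := Over.homMk (Spec.map (CommRingCat.ofHom (algM C f))) (by
    change Spec.map _ ≫ Spec.map _ ≫ c = Spec.map _ ≫ c
    rw [← Category.assoc, ← Spec.map_comp, ← CommRingCat.ofHom_comp, algM_incl])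
  suffices u ≫ gc P C c = gc M C c ≫ (AMonS.map S f ▷ Over.mk c) from (congrArg CommaMorphism.left this).symm
  refine CartesianMonoidalCategory.hom_ext _ _ (mFn_ext fun m => ?_) (Over.OverMorphism.ext ?_)
  · have e1 : (u ≫ gc P C c) ≫ fst (AMonS S P) (Over.mk c) = u ≫ gc P C c ≫ fst _ _ :=
      Category.assoc u (gc P C c) (fst _ _)
    have e2 : (gc M C c ≫ (AMonS.map S f ▷ Over.mk c)) ≫ fst (AMonS S P) (Over.mk c) =
        (gc M C c ≫ fst _ _) ≫ AMonS.map S f := by
      rw [Category.assoc, Category.assoc, whiskerRight_fst]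
    rw [e1, e2, mFn_map, mFn_comp, mFn_gc_fst, mFn_gc_fst]
    refine (appTop_spec _ _).trans ?_
    rw [algM_single]
    rfl
  · rw [Category.assoc, Category.assoc, whiskerRight_snd]
    change Spec.map _ ≫ (gc P C c ≫ snd _ _).left = (gc M C c ≫ snd _ _).left
    rw [gc_snd, gc_snd, ← Spec.map_comp, ← CommRingCat.ofHom_comp, algM_incl]

end Coordinates

variable {X : Over S} (a : MonAct (AMonS S M) X)

theorem attrToX_map (L : AddSubmonoid M) {V W : Over S} (g : V ⟶ W) (ψ : (attr a L).obj (op W)) :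
    (attrToX a L).app (op V) ((attr a L).map g.op ψ) = g ≫ (attrToX a L).app (op W) ψ := by
  change CartesianMonoidalCategory.lift (toUnit V ≫ η[AMonS S L]) (𝟙 V) ≫ (AMonS S L ◁ g) ≫ ψ.1 =
    g ≫ CartesianMonoidalCategory.lift (toUnit W ≫ η[AMonS S L]) (𝟙 W) ≫ ψ.1
  rw [lift_whiskerLeft_assoc, comp_lift_assoc, comp_toUnit_assoc, Category.id_comp, Category.comp_id]

/-- Membership in the image of an attractor is local. -/
theorem mem_range_of_local [IsSeparated X.hom] {J : GrothendieckTopology (Over S)}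
    (hJ : ∀ Z : Over S, Presieve.IsSheaf J (yoneda.obj Z)) (L : AddSubmonoid M) {T : Over S} (x : T ⟶ X)
    (R : Sieve T) (hR : R ∈ J T)
    (h : ∀ (W : Over S) (k : W ⟶ T), R.arrows k → k ≫ x ∈ Set.range (fun φ => (attrToX a L).app (op W) φ)) :
    x ∈ Set.range (fun φ => (attrToX a L).app (op T) φ) := by
  have hnat : ∀ {V W : Over S} (g : V ⟶ W) (ψ : (attr a L).obj (op W)),
      (attrToX a L).app (op V) ((attr a L).map g.op ψ) = g ≫ (attrToX a L).app (op W) ψ :=
    fun g ψ => attrToX_map a L g ψ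
  let fam : Presieve.FamilyOfElements (attr a L) R.arrows := fun W k hk => (h W k hk).choose
  have hfam : ∀ (W : Over S) (k : W ⟶ T) (hk : R.arrows k), (attrToX a L).app (op W) (fam k hk) = k ≫ x :=
    fun W k hk => (h W k hk).choose_spec
  have hc : fam.Compatible := by
    rw [Presieve.compatible_iff_sieveCompatible]
    intro W V k g hk
    refine attrToX_injective a L V ?_
    change (attrToX a L).app (op V) (fam (g ≫ k) (R.downward_closed hk g)) =
      (attrToX a L).app (op V) ((attr a L).map g.op (fam k hk))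
    rw [hfam _ _ (R.downward_closed hk g), hnat, hfam _ _ hk, Category.assoc]
  obtain ⟨ψ, hψ, -⟩ := isSheaf_eqvHom hJ (subAct S M L) a R hR fam hc
  refine ⟨ψ, (hJ X R hR).isSeparatedFor.ext fun W k hk => ?_⟩
  change k ≫ (attrToX a L).app (op T) ψ = k ≫ x
  rw [← hnat, hψ k hk, hfam _ _ hk]

variable [IsAffineHom X.hom] [LocallyOfFinitePresentation X.hom]

/-- Over an affine open of the base finitely many degrees matter. -/
theorem exists_degrees {W : S.Opens} (hW : IsAffineOpen W) :
    ∃ D : Finset M, ∀ (N L : AddSubmonoid M), (∀ m ∈ D, m ∈ N → m ∈ L) →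
      ∀ (C : Type u) [CommRing C] (c : Spec (CommRingCat.of C) ⟶ S), Set.range c ⊆ (W : Set S) →
        ∀ x : Over.mk c ⟶ X, x ∈ Set.range (fun φ => (attrToX a N).app (op (Over.mk c)) φ) →
          x ∈ Set.range (fun φ => (attrToX a L).app (op (Over.mk c)) φ) := by
  classical
  let G := AMonS S M
  let V := X.hom ⁻¹ᵁ W
  have hV : IsAffineOpen V := hW.preimage X.hom
  have : IsOpenImmersion hV.fromSpec := IsAffineOpen.isOpenImmersion_fromSpec _
  have : IsOpenImmersion hW.fromSpec := IsAffineOpen.isOpenImmersion_fromSpec _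
  let B := Γ(X.left, V)
  let iR : Γ(S, W) ⟶ Γ(X.left, V) := X.hom.appLE W V le_rfl
  let cB : Spec (CommRingCat.of B) ⟶ S := hV.fromSpec ≫ X.hom
  let uB : Over.mk cB ⟶ X := Over.homMk hV.fromSpec rfl
  have hcB : Spec.map iR ≫ hW.fromSpec = cB := IsAffineOpen.SpecMap_appLE_fromSpec X.hom hW hV le_rfl
  have hland : ∀ {E : Type u} [CommRing E] (y : Spec (CommRingCat.of E) ⟶ X.left) (c₀ : Spec (CommRingCat.of E) ⟶ S),
      y ≫ X.hom = c₀ → Set.range c₀ ⊆ (W : Set S) → ∃ θ : CommRingCat.of B ⟶ CommRingCat.of E,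
        Spec.map θ ≫ hV.fromSpec = y := fun {E} _ y c₀ hy hc => by
    subst hy
    exact Extend.exists_spec_factor hV y fun z => hc ⟨z, rfl⟩
  obtain ⟨ρ, hρ⟩ := hland (gc M B cB ≫ (G ◁ uB) ≫ a.act).left (Spec.map (CommRingCat.ofHom (incl M B)) ≫ cB)
    (Over.w _) (by
      rintro _ ⟨z, rfl⟩
      rw [Scheme.Hom.comp_apply, ← hcB, Scheme.Hom.comp_apply]
      exact hW.range_fromSpec.le ⟨_, rfl⟩)
  let _ := iR.hom.toAlgebra
  have hft : iR.hom.FiniteType := RingHom.FiniteType.of_finitePresentation (X.hom.finitePresentation_appLE hW hV le_rfl)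
  obtain ⟨gens, hgens⟩ := (show Algebra.FiniteType Γ(S, W) Γ(X.left, V) from hft).out
  refine ⟨gens.biUnion fun b => ((ρ.hom b : gRing M B).coeff.support.image fun m => m.toAdd),
    fun N L hNL C _ c hc x hx => ?_⟩
  obtain ⟨φ, rfl⟩ := hx
  let x : Over.mk c ⟶ X := (attrToX a N).app (op (Over.mk c)) φ
  have horb : (AMonS.map S N.subtype ▷ Over.mk c) ≫ φ.1 = (G ◁ x) ≫ a.act :=
    eqvHom_extends (AMonS.map S N.subtype) a (Over.mk c) φ
  obtain ⟨r, hr⟩ := Extend.exists_spec_factor hW c fun z => hc ⟨z, rfl⟩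
  have hrange : ∀ {E : Type u} [CommRing E] (e : C →+* E),
      Set.range (Spec.map (CommRingCat.ofHom e) ≫ c) ⊆ (W : Set S) := fun e => by
    rintro _ ⟨z, rfl⟩
    exact hc ⟨_, rfl⟩
  obtain ⟨ξ, hξ⟩ := hland x.left c (Over.w x) hc
  obtain ⟨Φ, hΦ⟩ := hland (gc M C c ≫ (G ◁ x) ≫ a.act).left (Spec.map (CommRingCat.ofHom (incl M C)) ≫ c)
    (Over.w _) (hrange _)
  obtain ⟨Ψ, hΨ⟩ := hland (gc N C c ≫ φ.1).left (Spec.map (CommRingCat.ofHom (incl N C)) ≫ c)
    (Over.w _) (hrange _)
  -- the orbit map in coordinates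
  have h1 : Φ.hom = (algM C N.subtype).comp Ψ.hom := by
    have e : Φ = Ψ ≫ CommRingCat.ofHom (algM C N.subtype) := by
      apply Spec.map_injective
      rw [← cancel_mono hV.fromSpec, Spec.map_comp, Category.assoc, hΦ, hΨ, ← horb]
      rw [← Category.assoc (gc M C c), Over.comp_left, gc_mapM, Category.assoc]
      rfl
    exact congrArg CommRingCat.Hom.hom e
  have h2 : Φ.hom = (MonoidAlgebra.mapRingHom (Multiplicative M) ξ.hom).comp ρ.hom := by
    let t : Over.mk c ⟶ Over.mk cB := Over.homMk (Spec.map ξ) (by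
      change Spec.map ξ ≫ hV.fromSpec ≫ X.hom = c
      rw [← Category.assoc, hξ]
      exact Over.w x)
    have ht : t ≫ uB = x := Over.OverMorphism.ext hξ
    have e : Φ = ρ ≫ CommRingCat.ofHom (MonoidAlgebra.mapRingHom (Multiplicative M) ξ.hom) := by
      apply Spec.map_injective
      rw [← cancel_mono hV.fromSpec, Spec.map_comp, Category.assoc, hΦ, hρ, ← ht,
        MonoidalCategory.whiskerLeft_comp, Category.assoc, ← Category.assoc (gc M C c)]
      simp only [Over.comp_left]
      rw [← Category.assoc (Spec.map _), ← gc_map t ξ.hom rfl]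
      simp only [Over.comp_left, Category.assoc]
      rfl
    exact congrArg CommRingCat.Hom.hom e
  have h3 : Φ.hom.comp iR.hom = (incl M C).comp r.hom := by
    have e : iR ≫ Φ = r ≫ CommRingCat.ofHom (incl M C) := by
      apply Spec.map_injective
      rw [← cancel_mono hW.fromSpec, Spec.map_comp, Spec.map_comp, Category.assoc, Category.assoc, hcB, hr,
        ← Category.assoc, hΦ]
      exact Over.w (gc M C c ≫ (G ◁ x) ≫ a.act)
    exact congrArg CommRingCat.Hom.hom e
  -- the degrees of the image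
  have hmem : ∀ b : B, Φ.hom b ∈ (algM C L.subtype).range := by
    intro b
    have hb : b ∈ Algebra.adjoin Γ(S, W) (gens : Set Γ(X.left, V)) := by rw [hgens]; trivial
    induction hb using Algebra.adjoin_induction with
    | mem b hb =>
      rw [← MonoidAlgebra.sum_coeff_single (Φ.hom b), Finsupp.sum]
      refine Subring.sum_mem _ fun m hm => ?_
      have hmρ : m ∈ (ρ.hom b : gRing M B).coeff.support := Finsupp.mem_support_iff.2 fun h0 =>
        Finsupp.mem_support_iff.1 hm (by
          rw [h2, RingHom.comp_apply, MonoidAlgebra.coeff_mapRingHom, h0, map_zero])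
      have hmN : m.toAdd ∈ N := by
        rw [h1, RingHom.comp_apply] at hm
        obtain ⟨n, -, rfl⟩ := Finset.mem_image.1 (Finsupp.mapDomain_support hm)
        exact n.toAdd.2
      refine ⟨MonoidAlgebra.single (Multiplicative.ofAdd ⟨m.toAdd, hNL _ (Finset.mem_biUnion.2
        ⟨b, hb, Finset.mem_image_of_mem _ hmρ⟩) hmN⟩) ((Φ.hom b).coeff m), ?_⟩
      exact algM_single C L.subtype _ _
    | algebraMap z =>
      refine ⟨incl L C (r.hom z), ?_⟩
      rw [← RingHom.comp_apply, algM_incl]
      exact congr($(h3.symm) z)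
    | add p q _ _ hp hq => rw [map_add]; exact add_mem hp hq
    | mul p q _ _ hp hq => rw [map_mul]; exact mul_mem hp hq
  have hbij : Function.Bijective (algM C L.subtype).rangeRestrict :=
    ⟨fun p q h => algM_injective C L.subtype Subtype.val_injective (congrArg Subtype.val h),
      (algM C L.subtype).rangeRestrict_surjective⟩
  let e := RingEquiv.ofBijective (algM C L.subtype).rangeRestrict hbij
  let ΦL : B →+* gRing L C := (e.symm : _ →+* gRing L C).comp (Φ.hom.codRestrict _ hmem)
  have hΦL : (algM C L.subtype).comp ΦL = Φ.hom :=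
    RingHom.ext fun b => congrArg Subtype.val (e.apply_symm_apply ⟨Φ.hom b, hmem b⟩)
  let lL : gOver L C c ⟶ X := Over.homMk (Spec.map (CommRingCat.ofHom ΦL) ≫ hV.fromSpec) (by
    rw [Category.assoc, ← IsAffineOpen.SpecMap_appLE_fromSpec X.hom hW hV le_rfl, ← Category.assoc, ← Spec.map_comp]
    change _ = Spec.map (CommRingCat.ofHom (incl L C)) ≫ c
    rw [← hr, ← Category.assoc, ← Spec.map_comp]
    congr 2
    refine CommRingCat.hom_ext (RingHom.ext fun z => algM_injective C L.subtype Subtype.val_injective ?_)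
    change ((algM C L.subtype).comp ΦL) (iR.hom z) = ((algM C L.subtype).comp (incl L C)) (r.hom z)
    rw [hΦL, algM_incl]
    exact congr($h3 z))
  have hl : (AMonS.map S L.subtype ▷ Over.mk c) ≫ inv (gc L C c) ≫ lL = (G ◁ x) ≫ a.act := by
    rw [← cancel_epi (gc M C c), ← Category.assoc (gc M C c)]
    refine Over.OverMorphism.ext ?_
    rw [Over.comp_left, gc_mapM, Category.assoc, ← Over.comp_left, IsIso.hom_inv_id_assoc, ← hΦ]
    change Spec.map _ ≫ Spec.map _ ≫ hV.fromSpec = _
    rw [← Category.assoc, ← Spec.map_comp, ← CommRingCat.ofHom_comp, hΦL]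
    rfl
  exact ⟨⟨_, mem_of_extends (AMonS.map S L.subtype) a
    (fun T' u v h => hom_ext_amon L.subtype Subtype.val_injective T' h) x _ hl⟩,
    evalAt_of_extends (AMonS.map S L.subtype) a x _ hl⟩

/-- Finitely many degrees decide the images of all attractors. -/
theorem exists_degrees_global [CompactSpace S] :
    ∃ D : Finset M, ∀ (N L : AddSubmonoid M), (∀ m ∈ D, m ∈ N → m ∈ L) → ∀ (T : Over S),
      Set.range (fun φ => (attrToX a N).app (op T) φ) ⊆ Set.range (fun φ => (attrToX a L).app (op T) φ) := by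
  classical
  choose W hW hsW _ using fun s : S => exists_isAffineOpen_mem_and_subset (x := s) (U := ⊤) trivial
  obtain ⟨F, hF⟩ := isCompact_univ.elim_finite_subcover (fun s => (W s : Set S)) (fun s => (W s).isOpen)
    (fun s _ => Set.mem_iUnion.2 ⟨s, hsW s⟩)
  choose D hD using fun s : S => exists_degrees a (hW s)
  refine ⟨F.biUnion D, fun N L hNL T => ?_⟩
  rintro x ⟨φ, rfl⟩
  have hex : ∀ t : T.left, ∃ (s : S) (U : T.left.Opens), s ∈ F ∧ IsAffineOpen U ∧ t ∈ U ∧ U ≤ T.hom ⁻¹ᵁ W s := fun t => by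
    obtain ⟨s, hs, hts⟩ := Set.mem_iUnion₂.1 (hF (Set.mem_univ (T.hom t)))
    obtain ⟨U, hU, htU, hUW⟩ := exists_isAffineOpen_mem_and_subset (x := t) (U := T.hom ⁻¹ᵁ W s) hts
    exact ⟨s, U, hs, hU, htU, hUW⟩
  choose s U hs hU htU hUW using hex
  have : ∀ t, IsOpenImmersion (hU t).fromSpec := fun t => IsAffineOpen.isOpenImmersion_fromSpec _
  let 𝒰 : T.left.OpenCover := Scheme.Cover.mkOfCovers T.left (fun t => Spec Γ(T.left, U t))
    (fun t => (hU t).fromSpec) (fun t => ⟨t, (hU t).range_fromSpec.ge (htU t)⟩) this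
  let x : T ⟶ X := (attrToX a N).app (op T) φ
  let R : Sieve T :=
    { arrows := fun V k => k ≫ x ∈ Set.range (fun ψ => (attrToX a L).app (op V) ψ)
      downward_closed := fun {V V' k} hk g => by
        obtain ⟨ψ, hψ⟩ := hk
        refine ⟨(attr a L).map g.op ψ, ?_⟩
        change (attrToX a L).app (op V') ((attr a L).map g.op ψ) = (g ≫ k) ≫ x
        rw [Category.assoc, ← hψ, attrToX_map] }
  refine mem_range_of_local a (J := Scheme.zariskiTopology.over S)
    (fun Z => GrothendieckTopology.Subcanonical.isSheaf_of_isRepresentable _) L x R ?_ fun V k hk => hk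
  rw [GrothendieckTopology.mem_over_iff]
  refine GrothendieckTopology.superset_covering _ ?_ 𝒰.mem_grothendieckTopology
  rw [Sieve.ofArrows, Sieve.generate_le_iff]
  rintro _ _ ⟨t⟩
  refine (Sieve.overEquiv_iff R (hU t).fromSpec).2 ?_
  let k : Over.mk ((hU t).fromSpec ≫ T.hom) ⟶ T := Over.homMk (hU t).fromSpec rfl
  refine hD (s t) N L (fun m hm => hNL m (Finset.mem_biUnion.2 ⟨s t, hs t, hm⟩)) _ _ ?_ (k ≫ x) ?_
  · rintro _ ⟨z, rfl⟩
    exact hUW t ((hU t).range_fromSpec.le ⟨z, rfl⟩)
  · exact ⟨(attr a N).map k.op φ, attrToX_map a N k φ⟩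

theorem finite_pure [CompactSpace S] :
    Set.Finite {N : AddSubmonoid M | ∀ L : AddSubmonoid M,
      (∀ T : Over S, Set.range (fun φ => (attrToX a N).app (op T) φ) =
        Set.range (fun φ => (attrToX a L).app (op T) φ)) → N ≤ L} := by
  classical
  obtain ⟨D, hD⟩ := exists_degrees_global a
  refine (D.powerset.finite_toSet.image fun s : Finset M => AddSubmonoid.closure (s : Set M)).subset fun N hN => ?_
  let L := AddSubmonoid.closure ((D.filter fun m => m ∈ N : Finset M) : Set M)
  have hLN : L ≤ N := AddSubmonoid.closure_le.2 fun m hm => (Finset.mem_filter.1 hm).2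
  refine ⟨D.filter fun m => m ∈ N, Finset.mem_coe.2 (Finset.mem_powerset.2 (Finset.filter_subset _ _)),
    le_antisymm hLN (hN L fun T => (hD N L (fun m hm hmN => AddSubmonoid.subset_closure
      (Finset.mem_coe.2 (Finset.mem_filter.2 ⟨hm, hmN⟩))) T).antisymm (hD L N (fun m _ hm => hLN hm) T))⟩

end Groth.Agent.MagnetLib.Pure
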