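import Groth.Agent.MagnetLib.AtlasRep
import Groth.Agent.MagnetLib.PureFinite

/-!
# Images of attractors and strongly fixed-point reflecting atlases
-/

set_option autoImplicit false

universe u

open CategoryTheory CategoryTheory.Limits MonoidalCategory CartesianMonoidalCategory MonObj AlgebraicGeometry Opposite

noncomputable section

namespace Groth.Agent.MagnetLib

open Magnet Magnet.MonAct

variable {S : Scheme.{u}} {M : Type} [AddCommGroup M] {X U : Over S} {aX : MonAct (AMonS S M) X}
  {aU : MonAct (AMonS S M) U} {f : U ⟶ X}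

/-- The subgroup underlying the face of units. -/
def unitGroup (N : AddSubmonoid M) : AddSubgroup M :=
  { unitFace N with
    neg_mem' := fun {x} hx => by
      obtain ⟨hxN, y, hy, hxy⟩ := hx
      rw [neg_eq_of_add_eq_zero_right hxy]
      exact ⟨hy, x, hxN, by rw [add_comm, hxy]⟩ }

theorem range_subset_of_unit_atlas [AddGroup.FG M] [IsSeparated X.hom] [LocallyOfFinitePresentation X.hom]
    [IsAffineHom U.hom] [Etale f.left] [Surjective f.left] (hf : IsEquivariant aU aX f)
    (N L : AddSubmonoid M) (Z : AddSubgroup M) (hZ : Z.toAddSubmonoid = unitFace N)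
    (hfZ : IsEquivariant (aU.restrict (AMonS.map S (QuotientAddGroup.mk' Z)))
      (aX.restrict (AMonS.map S (QuotientAddGroup.mk' Z))) f)
    (hfpr : IsPullback (fixedPsh.map f hfZ)
      (fixedPshι (aU.restrict (AMonS.map S (QuotientAddGroup.mk' Z))))
      (fixedPshι (aX.restrict (AMonS.map S (QuotientAddGroup.mk' Z)))) (yoneda.map f))
    (hU : ∀ T : Over S, Set.range (fun φ => (attrToX aU N).app (op T) φ) ⊆
      Set.range (fun φ => (attrToX aU L).app (op T) φ)) (T : Over S) :
    Set.range (fun φ => (attrToX aX N).app (op T) φ) ⊆ Set.range (fun φ => (attrToX aX L).app (op T) φ) := by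
  rintro x ⟨φ, rfl⟩
  have hF : IsFace N Z.toAddSubmonoid := hZ ▸ isFace_unitFace N
  let x₀ : T ⟶ X := (attrToX aX _).app (op T) ((attrFace aX hF).app (op T) φ)
  let k : Limits.pullback x₀ f ⟶ T := pullback.fst x₀ f
  let u : Limits.pullback x₀ f ⟶ U := pullback.snd x₀ f
  have sq := (IsPullback.of_hasPullback x₀ f).map (Over.forget S)
  have : Etale k.left := MorphismProperty.of_isPullback sq.flip (inferInstanceAs (Etale f.left))
  have : Surjective k.left := MorphismProperty.of_isPullback sq.flip (inferInstanceAs (Surjective f.left))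
  let xk : (attr aX Z.toAddSubmonoid).obj (op (Limits.pullback x₀ f)) :=
    (attr aX Z.toAddSubmonoid).map k.op ((attrFace aX hF).app (op T) φ)
  have hxk : (attrToX aX Z.toAddSubmonoid).app (op (Limits.pullback x₀ f)) xk = u ≫ f :=
    (Pure.attrToX_map aX _ k ((attrFace aX hF).app (op T) φ)).trans (pullback.condition (f := x₀) (g := f))
  obtain ⟨y, hy1, hy2⟩ := ((Types.isPullback_iff _ _ _ _).1
    ((isPullback_subgroup hf Z hfZ hfpr).app (op (Limits.pullback x₀ f)))).2.2 xk u hxk
  obtain ⟨z, hz1, -⟩ := ((Types.isPullback_iff _ _ _ _).1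
    ((Avg.isPullback_postcomp_of_lfp hf hF).app (op (Limits.pullback x₀ f)))).2.2 ((attr aX N).map k.op φ) y (by
      rw [hy1]
      refine Subtype.ext ?_
      change (AMonS.faceMap S hF ▷ _) ≫ (AMonS S N ◁ k) ≫ φ.1 =
        (AMonS S Z.toAddSubmonoid ◁ k) ≫ (AMonS.faceMap S hF ▷ T) ≫ φ.1
      rw [← whisker_exchange_assoc])
  obtain ⟨w, hw⟩ := hU _ ⟨z, rfl⟩
  let R : Sieve T :=
    { arrows := fun V c => c ≫ (attrToX aX N).app (op T) φ ∈ Set.range (fun ψ => (attrToX aX L).app (op V) ψ)
      downward_closed := fun {V V' c} hc g => by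
        obtain ⟨ψ, hψ⟩ := hc
        refine ⟨(attr aX L).map g.op ψ, ?_⟩
        change (attrToX aX L).app (op V') ((attr aX L).map g.op ψ) = (g ≫ c) ≫ (attrToX aX N).app (op T) φ
        rw [Category.assoc, ← hψ, Pure.attrToX_map] }
  refine Pure.mem_range_of_local aX (J := AlgSp.J S)
    (fun Z => GrothendieckTopology.Subcanonical.isSheaf_of_isRepresentable _) L _ R ?_ fun V c hc => hc
  refine Groth.Agent.AlgSp.mem_of_fppf k ⟨(eqvHom.postcomp (subAct S M L) f hf).app _ w, ?_⟩
  change (attrToX aX L).app _ ((eqvHom.postcomp (subAct S M L) f hf).app _ w) = k ≫ (attrToX aX N).app (op T) φ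
  rw [← Pure.attrToX_map aX N k φ, ← hz1]
  have eL := ConcreteCategory.congr_hom (NatTrans.congr_app (attrToX_postcomp hf L) (op (Limits.pullback x₀ f))) w
  have eN := ConcreteCategory.congr_hom (NatTrans.congr_app (attrToX_postcomp hf N) (op (Limits.pullback x₀ f))) z
  exact eL.trans ((congrArg (fun v : Limits.pullback x₀ f ⟶ U => v ≫ f) hw).trans eN.symm)


theorem range_subset_of_atlas [AddGroup.FG M] [IsSeparated X.hom] [LocallyOfFinitePresentation X.hom]
    [IsAffineHom U.hom] [Etale f.left] [Surjective f.left] (hf : IsEquivariant aU aX f)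
    (hfZ : ∀ Z : AddSubgroup M, IsEquivariant (aU.restrict (AMonS.map S (QuotientAddGroup.mk' Z)))
      (aX.restrict (AMonS.map S (QuotientAddGroup.mk' Z))) f)
    (hfpr : ∀ Z : AddSubgroup M, IsPullback (fixedPsh.map f (hfZ Z))
      (fixedPshι (aU.restrict (AMonS.map S (QuotientAddGroup.mk' Z))))
      (fixedPshι (aX.restrict (AMonS.map S (QuotientAddGroup.mk' Z)))) (yoneda.map f))
    (N L : AddSubmonoid M)
    (hU : ∀ T : Over S, Set.range (fun φ => (attrToX aU N).app (op T) φ) ⊆
      Set.range (fun φ => (attrToX aU L).app (op T) φ)) (T : Over S) :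
    Set.range (fun φ => (attrToX aX N).app (op T) φ) ⊆ Set.range (fun φ => (attrToX aX L).app (op T) φ) :=
  range_subset_of_unit_atlas hf N L (unitGroup N) rfl (hfZ _) (hfpr _) hU T

end Groth.Agent.MagnetLib
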