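import Groth.Prelude.Def_Magnet3
import Groth.Agent.GrpdLib.SubschemeRep
import Mathlib.AlgebraicGeometry.Sites.Fpqc
import Mathlib.AlgebraicGeometry.Morphisms.Etale
import Mathlib.AlgebraicGeometry.Morphisms.Flat
import Mathlib.CategoryTheory.Limits.Shapes.Pullback.IsPullback.Basic

/-!
# Descent of the closed subscheme of fixed points along a fixed-point reflecting étale surjection
-/

set_option autoImplicit false

universe u

open CategoryTheory CategoryTheory.Limits MonoidalCategory CartesianMonoidalCategory MonObj AlgebraicGeometry Opposite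

noncomputable section

namespace Groth.Agent.MagnetLib

open Magnet Magnet.MonAct

variable {S : Scheme.{u}} {G X U : Over S} [MonObj G]

/-- A map of the underlying schemes is fixed. -/
def IsFix (a : MonAct G X) {Q : Scheme.{u}} (q : Q ⟶ X.left) : Prop :=
  ∀ (T : Over S) (t : T ⟶ Over.mk (q ≫ X.hom)) (g : T ⟶ G),
    CartesianMonoidalCategory.lift g (t ≫ Over.homMk q rfl) ≫ a.act = t ≫ Over.homMk q rfl

theorem isFix_iff (a : MonAct G X) {T : Over S} (x : T ⟶ X) :
    IsFix a x.left ↔ ∀ (T' : Over S) (t : T' ⟶ T) (g : T' ⟶ G),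
      CartesianMonoidalCategory.lift g (t ≫ x) ≫ a.act = t ≫ x := by
  let d : Over.mk (x.left ≫ X.hom) ⟶ T := Over.homMk (𝟙 _) ((Category.id_comp _).trans (Over.w x).symm)
  let d' : T ⟶ Over.mk (x.left ≫ X.hom) := Over.homMk (𝟙 _) ((Category.id_comp _).trans (Over.w x))
  have e : d ≫ x = (Over.homMk x.left rfl : Over.mk (x.left ≫ X.hom) ⟶ X) :=
    Over.OverMorphism.ext (Category.id_comp _)
  have e' : d' ≫ (Over.homMk x.left rfl : Over.mk (x.left ≫ X.hom) ⟶ X) = x :=
    Over.OverMorphism.ext (Category.id_comp _)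
  constructor
  · intro h T' t g
    have := h T' (t ≫ d') g
    rwa [Category.assoc, e'] at this
  · intro h T' t g
    have := h T' (t ≫ d) g
    rwa [Category.assoc, e] at this

theorem isFix_comp (a : MonAct G X) {Q Q' : Scheme.{u}} (h : Q' ⟶ Q) (q : Q ⟶ X.left) (hq : IsFix a q) :
    IsFix a (h ≫ q) := by
  let T₀ : Over S := Over.mk (q ≫ X.hom)
  let x : Over.mk (h ≫ T₀.hom) ⟶ X := Over.homMk (h ≫ q) (Category.assoc _ _ _)
  refine (isFix_iff a x).2 fun T t g => ?_
  have := hq T (t ≫ (Over.homMk h rfl : Over.mk (h ≫ T₀.hom) ⟶ T₀)) g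
  rw [Category.assoc] at this
  exact this

theorem isFix_of_comp_surjective (a : MonAct G X) {Q Q' : Scheme.{u}} (h : Q' ⟶ Q) [Flat h] [Surjective h]
    (q : Q ⟶ X.left) (hq : IsFix a (h ≫ q)) : IsFix a q := by
  intro T t g
  let π := pullback.fst t.left h
  have : Epi π := Flat.epi_of_flat_of_surjective _
  let T' : Over S := Over.mk (π ≫ T.hom)
  let π' : T' ⟶ T := Over.homMk π rfl
  let t' : T' ⟶ Over.mk ((h ≫ q) ≫ X.hom) := Over.homMk (pullback.snd _ _) (by
    change pullback.snd _ _ ≫ (h ≫ q) ≫ X.hom = π ≫ T.hom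
    rw [← Over.w t]
    simp only [π, Over.mk_hom, Category.assoc, ← pullback.condition_assoc])
  have key := hq T' t' (π' ≫ g)
  have e : t' ≫ (Over.homMk (h ≫ q) rfl : Over.mk ((h ≫ q) ≫ X.hom) ⟶ X) =
      π' ≫ t ≫ (Over.homMk q rfl : Over.mk (q ≫ X.hom) ⟶ X) := by
    refine Over.OverMorphism.ext ?_
    change pullback.snd t.left h ≫ h ≫ q = π ≫ t.left ≫ q
    rw [← pullback.condition_assoc]
  rw [e, ← comp_lift_assoc] at key
  exact Over.OverMorphism.ext ((cancel_epi π).1 (congrArg CommaMorphism.left key))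

theorem exists_fixed_closed (a : MonAct G X) (b : MonAct G U) (f : U ⟶ X) [Etale f.left] [Surjective f.left]
    (hf : IsEquivariant b a f)
    (hfpr : IsPullback (fixedPsh.map f hf) (fixedPshι b) (fixedPshι a) (yoneda.map f))
    (W' : Over S) (i' : W' ⟶ U) (e' : (fixedPsh b).RepresentableBy W') [IsClosedImmersion i'.left]
    (he' : ∀ (T : Over S) (w : T ⟶ W'), (fixedPshι b).app (op T) (e'.homEquiv w) = w ≫ i') :
    ∃ (W : Over S) (i : W ⟶ X) (e : (fixedPsh a).RepresentableBy W), IsClosedImmersion i.left ∧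
      ∀ (T : Over S) (w : T ⟶ W), (fixedPshι a).app (op T) (e.homEquiv w) = w ≫ i := by
  have hW' : ∀ {Q : Scheme.{u}} (q : Q ⟶ U.left), (∃ z, z ≫ i'.left = q) ↔ IsFix a (q ≫ f.left) := by
    intro Q q
    let T : Over S := Over.mk (q ≫ U.hom)
    let y : T ⟶ U := Over.homMk q rfl
    rw [show q ≫ f.left = (y ≫ f).left from rfl, isFix_iff]
    constructor
    · rintro ⟨z, hz⟩
      let w : T ⟶ W' := Over.homMk z (by
        rw [← Over.w i', ← Category.assoc, hz]; rfl)
      have hy : (e'.homEquiv w).1 = y := (he' T w).trans (Over.OverMorphism.ext hz)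
      have := ((fixedPsh.map f hf).app (op T) (e'.homEquiv w)).2
      simp only [fixedPsh.map_app_coe, hy] at this
      exact this
    · intro h
      have hp := (Types.isPullback_iff _ _ _ _).1 (hfpr.app (op T))
      obtain ⟨x, -, hx⟩ := hp.2.2 (⟨y ≫ f, h⟩ : (fixedPsh a).obj (op T)) y rfl
      refine ⟨(e'.homEquiv.symm x).left, ?_⟩
      have := he' T (e'.homEquiv.symm x)
      rw [Equiv.apply_symm_apply] at this
      exact congrArg CommaMorphism.left (this.symm.trans hx)
  have hg : Presieve.ofArrows (fun _ : PUnit.{1} => U.left) (fun _ => f.left) ∈ Scheme.fpqcPrecoverage X.left := by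
    rw [Presieve.ofArrows_pUnit]
    exact Scheme.fppfPrecoverage_le_fpqcPrecoverage _ f.left.singleton_mem_fppfPrecoverage
  obtain ⟨Z₀, j, hj, hZ⟩ := GrpdLib.SubschemeRep.exists_closed (g := fun _ : PUnit.{1} => f.left)
    (k := fun _ => i'.left) (fun {Q} q => IsFix a q) hg (fun h q hq => isFix_comp a h q hq)
    (fun q hq => by
      have : Flat (pullback.fst q f.left) := inferInstance
      exact isFix_of_comp_surjective a (pullback.fst q f.left) q (hq PUnit.unit))
    (fun _ => inferInstance) (fun _ _ q => hW' q)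
  let W : Over S := Over.mk (j ≫ X.hom)
  let i : W ⟶ X := Over.homMk j rfl
  have hmono : Mono i := (Over.forget _).mono_of_mono_map (inferInstanceAs (Mono j))
  have hfix : ∀ (T : Over S) (w : T ⟶ W), ∀ (T' : Over S) (t : T' ⟶ T) (g : T' ⟶ G),
      CartesianMonoidalCategory.lift g (t ≫ w ≫ i) ≫ a.act = t ≫ w ≫ i := fun T w =>
    (isFix_iff a (w ≫ i)).1 ((hZ _).1 ⟨w.left, rfl⟩)
  refine ⟨W, i,
    { homEquiv := fun {T} => Equiv.ofBijective (fun w => (⟨w ≫ i, hfix T w⟩ : (fixedPsh a).obj (op T)))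
        ⟨fun w w' h => ?_, fun x => ?_⟩
      homEquiv_comp := fun c w => Subtype.ext (Category.assoc c w i) }, hj, fun T w => rfl⟩
  · exact (cancel_mono i).1 (congrArg Subtype.val h)
  · obtain ⟨z, hz⟩ := (hZ x.1.left).2 ((isFix_iff a x.1).2 x.2)
    exact ⟨Over.homMk z (by change z ≫ j ≫ X.hom = _; rw [← Category.assoc, hz, Over.w]),
      Subtype.ext (Over.OverMorphism.ext hz)⟩

end Groth.Agent.MagnetLib
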