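import Groth.Agent.MagnetLib.Quot
import Mathlib.GroupTheory.QuotientGroup.Basic

/-!
# Attractors for subgroups, and change of group along a map whose image contains the magnet
-/

set_option autoImplicit false
set_option backward.isDefEq.respectTransparency false

universe u

noncomputable section

open CategoryTheory CategoryTheory.Limits MonoidalCategory CartesianMonoidalCategory MonObj AlgebraicGeometry Opposite

namespace Groth.Agent.MagnetLib

open Magnet Magnet.MonAct

variable {S : Scheme.{u}} {M : Type} [AddCommGroup M] {W : Over S}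

theorem mFn_mul_neg (x : W ⟶ AMonS S M) (m : M) : mFn x m * mFn x (-m) = 1 := by
  rw [← mFn_add, add_neg_cancel, mFn_zero]

theorem mFn_sub_mul (x : W ⟶ AMonS S M) (m n : M) : mFn x (m - n) * mFn x n = mFn x m := by
  rw [← mFn_add, sub_add_cancel]

theorem attr_apply {N : AddSubmonoid M} {X T : Over S} (a : MonAct (AMonS S M) X) (e : (attr a N).obj (op T))
    (g : W ⟶ AMonS S M) (n : W ⟶ AMonS S N) (t : W ⟶ T) :
    CartesianMonoidalCategory.lift ((g ≫ AMonS.map S N.subtype) * n) t ≫ e.1 =
      CartesianMonoidalCategory.lift g (CartesianMonoidalCategory.lift n t ≫ e.1) ≫ a.act := by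
  have h := (mem_eqvHom_iff e.1).1 e.2 W g n t
  rwa [show CartesianMonoidalCategory.lift g n ≫ (subAct S M N).act = _ from
    (lift_restrict_act (AMonS.map S N.subtype) (regular (AMonS S N)) g n).trans (lift_regular_act _ _)] at h

section Subgroup

variable (Z : AddSubgroup M)

theorem isFreeOver_subgroup : IsFreeOver (Z.toAddSubmonoid.subtype) := by
  refine ⟨M ⧸ Z, ⟨0⟩, Quotient.out, ?_, ?_⟩
  · rintro ⟨c, n⟩ ⟨c', n'⟩ h
    have h' : c.out + (n : M) = c'.out + (n' : M) := h
    have e : c = c' := by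
      have := congrArg (fun m : M => (m : M ⧸ Z)) h'
      simp only [QuotientAddGroup.mk_add, QuotientAddGroup.out_eq'] at this
      rw [(QuotientAddGroup.eq_zero_iff _).2 n.2, (QuotientAddGroup.eq_zero_iff _).2 n'.2] at this
      simpa using this
    subst e
    exact Prod.ext rfl (Subtype.ext (add_left_cancel h'))
  · intro m
    refine ⟨(↑m, ⟨m - (↑m : M ⧸ Z).out, ?_⟩), ?_⟩
    · change m - (↑m : M ⧸ Z).out ∈ Z
      rw [← QuotientAddGroup.eq_zero_iff, QuotientAddGroup.mk_sub, QuotientAddGroup.out_eq', sub_self]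
    · exact add_sub_cancel _ _

theorem map_quot_mul_eq (p p' : W ⟶ AMonS S M) (h : ∀ z : Z.toAddSubmonoid, mFn p (z : M) = mFn p' (z : M)) :
    ∃ k : W ⟶ AMonS S (M ⧸ Z), p = p' * (k ≫ AMonS.map S (QuotientAddGroup.mk' Z)) := by
  let c : M → Γ(W.left, ⊤) := fun m => mFn p m * mFn p' (-m)
  have hc : ∀ m m' : M, (m : M ⧸ Z) = m' → c m = c m' := fun m m' e => by
    have hz : -m + m' ∈ Z := QuotientAddGroup.eq.1 e
    have h' := h ⟨-m + m', hz⟩
    have e' : m' = m + (-m + m') := by abel
    change mFn p m * mFn p' (-m) = mFn p m' * mFn p' (-m')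
    conv_rhs => rw [e', mFn_add, h']
    rw [_root_.mul_assoc]
    congr 1
    rw [← mFn_add]
    congr 1
    change -m = (-m + m') + -(m + (-m + m'))
    abel
  let φ : Multiplicative (M ⧸ Z) →* Γ(W.left, ⊤) :=
    { toFun := fun q => c q.toAdd.out
      map_one' := (hc _ 0 (by simp)).trans (by simp [c, mFn_zero])
      map_mul' := fun q q' => by
        refine (hc _ (q.toAdd.out + q'.toAdd.out) (by simp)).trans ?_
        simp only [c, neg_add, mFn_add]
        ring }
  obtain ⟨k, hk⟩ := mFn_surjective (S := S) (W := W) φ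
  refine ⟨k, mFn_ext fun m => ?_⟩
  rw [mFn_mul, mFn_map, hk]
  change _ = mFn p' m * c (↑m : M ⧸ Z).out
  rw [hc _ m (by simp)]
  simp only [c]
  rw [_root_.mul_comm (mFn p m), ← _root_.mul_assoc, mFn_mul_neg, _root_.one_mul]

variable {X : Over S} (a : MonAct (AMonS S M) X)

theorem isFixed_attrToX (T : Over S) (φ : (attr a Z.toAddSubmonoid).obj (op T)) (T' : Over S) (t : T' ⟶ T)
    (g : T' ⟶ AMonS S (M ⧸ Z)) :
    CartesianMonoidalCategory.lift g (t ≫ (attrToX a _).app (op T) φ) ≫
        (a.restrict (AMonS.map S (QuotientAddGroup.mk' Z))).act = t ≫ (attrToX a _).app (op T) φ := by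
  let g' := g ≫ AMonS.map S (QuotientAddGroup.mk' Z)
  have hg : g' ≫ AMonS.map S Z.toAddSubmonoid.subtype = toUnit T' ≫ η[AMonS S Z.toAddSubmonoid] := by
    refine mFn_ext fun z => ?_
    rw [mFn_map, mFn_map, mFn_one]
    have hz : QuotientAddGroup.mk' Z (z : M) = 0 := (QuotientAddGroup.eq_zero_iff (z : M)).2 z.2
    change mFn g (QuotientAddGroup.mk' Z (z : M)) = 1
    rw [hz, mFn_zero]
  have h := congrArg (CartesianMonoidalCategory.lift g' t ≫ ·)
    (eqvHom_extends (AMonS.map S Z.toAddSubmonoid.subtype) a T φ)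
  simp only [lift_whiskerRight_assoc, lift_whiskerLeft_assoc, hg] at h
  rw [lift_restrict_act]
  refine h.symm.trans ?_
  change _ = t ≫ CartesianMonoidalCategory.lift (toUnit T ≫ η[AMonS S Z.toAddSubmonoid]) (𝟙 T) ≫ φ.1
  rw [comp_lift_assoc, Category.comp_id, ← Category.assoc t, toUnit_unique (t ≫ toUnit T) (toUnit T')]

/-- `X^Z → X^{D(M/Z)}`. -/
def toFixed : attr a Z.toAddSubmonoid ⟶ fixedPsh (a.restrict (AMonS.map S (QuotientAddGroup.mk' Z))) where
  app T := TypeCat.ofHom fun φ => ⟨(attrToX a _).app T φ, isFixed_attrToX Z a (unop T) φ⟩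
  naturality T T' t := ConcreteCategory.hom_ext _ _ fun φ =>
    Subtype.ext (ConcreteCategory.congr_hom ((attrToX a _).naturality t) φ)

theorem isIso_toFixed : IsIso (toFixed Z a) := by
  refine (NatTrans.isIso_iff_isIso_app _).2 fun T => (CategoryTheory.isIso_iff_bijective _).2 ⟨fun e e' h => ?_, ?_⟩
  · refine Subtype.ext (hom_ext_quot (isFreeOver_subgroup Z) ?_)
    have h' : (attrToX a _).app T e = (attrToX a _).app T e' := congrArg Subtype.val h
    exact ((eqvHom_extends _ a (unop T) e).trans (congrArg (fun x => (AMonS S M ◁ x) ≫ a.act) h')).trans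
      (eqvHom_extends _ a (unop T) e').symm
  · rintro ⟨x, hx⟩
    obtain ⟨l, hl⟩ := exists_desc_amon (isFreeOver_subgroup Z) ((AMonS S M ◁ x) ≫ a.act)
      fun W p p' t hpp => by
        obtain ⟨k, hk⟩ := map_quot_mul_eq Z p p' hpp
        have hxk := hx W t k
        rw [lift_restrict_act] at hxk
        rw [lift_whiskerLeft_assoc, lift_whiskerLeft_assoc, hk, a.lift_mul_act, hxk]
    exact ⟨⟨l, mem_of_extends _ a (fun T u v h => hom_ext_quot (isFreeOver_subgroup Z) h) x l hl⟩,
      Subtype.ext (evalAt_of_extends _ a x l hl)⟩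

theorem exists_attr_iso_fixedPsh :
    ∃ e : attr a Z.toAddSubmonoid ≅ fixedPsh (a.restrict (AMonS.map S (QuotientAddGroup.mk' Z))),
      e.hom ≫ fixedPshι _ = attrToX a Z.toAddSubmonoid :=
  have := isIso_toFixed Z a
  ⟨asIso (toFixed Z a), by ext T φ; rfl⟩

end Subgroup

section Comap

variable {Z : Type} [AddCommGroup Z] (f : M →+ Z) (Y : AddSubmonoid Z) (hY : Y ≤ AddMonoidHom.mrange f)

/-- `n ↦ (n, f n)`. -/
abbrev jN : Y.comap f →+ M × Y :=
  ((Y.comap f).subtype).prod ((f.comp (Y.comap f).subtype).codRestrict Y (fun x => x.2))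

include hY in
theorem isFreeOver_jN : IsFreeOver (jN f Y) := by
  let σ : f.range → M := Function.surjInv f.rangeRestrict_surjective
  have hσ : ∀ c : f.range, f (σ c) = c := fun c =>
    congrArg Subtype.val (Function.surjInv_eq f.rangeRestrict_surjective c)
  refine ⟨f.range, ⟨0⟩, fun c => (σ c, 0), ?_, ?_⟩
  · rintro ⟨c, n⟩ ⟨c', n'⟩ h
    have h₁ : σ c + (n : M) = σ c' + (n' : M) := congrArg Prod.fst h
    have h₂ : f n = f n' := by simpa using congrArg (fun p : M × Y => ((p.2 : Y) : Z)) h
    have e : c = c' := by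
      have := congrArg f h₁
      rw [map_add, map_add, hσ, hσ, h₂] at this
      exact Subtype.ext (add_right_cancel this)
    subst e
    exact Prod.ext rfl (Subtype.ext (add_left_cancel h₁))
  · rintro ⟨m, y⟩
    obtain ⟨m₀, hm₀⟩ := hY y.2
    let c : f.range := ⟨f m - y, ⟨m - m₀, by rw [map_sub, hm₀]⟩⟩
    have hn : f (m - σ c) = y := by rw [map_sub, hσ]; exact sub_sub_cancel _ _
    refine ⟨(c, ⟨m - σ c, show f (m - σ c) ∈ Y by rw [hn]; exact y.2⟩), Prod.ext (add_sub_cancel _ _) ?_⟩
    refine Subtype.ext ?_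
    simpa using hn

theorem isFreeOver_range : IsFreeOver f.range.toAddSubmonoid.subtype := isFreeOver_subgroup f.range

variable {X : Over S} (a : MonAct (AMonS S M) X)

include hY in
theorem isIso_attrComap_of_le_mrange : IsIso (attrComap a f Y) := by
  let g₀ : Y.comap f →+ Y := (f.comp (Y.comap f).subtype).codRestrict Y (fun x => x.2)
  let b := a.restrict (AMonS.map S f)
  let fst' := AMonS.map S (AddMonoidHom.inl M Y)
  let snd' := AMonS.map S (AddMonoidHom.inr M Y)
  have decomp : ∀ (W : Over S) (P : W ⟶ AMonS S (M × Y)), P ≫ AMonS.map S (jN f Y) =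
      ((P ≫ fst') ≫ AMonS.map S (Y.comap f).subtype) * ((P ≫ snd') ≫ AMonS.map S g₀) := fun W P => mFn_ext fun n => by
    rw [mFn_mul, mFn_map, mFn_map, mFn_map, mFn_map, mFn_map, ← mFn_add]
    congr 1
    simp [g₀]
  refine (NatTrans.isIso_iff_isIso_app _).2 fun T => (CategoryTheory.isIso_iff_bijective _).2
    ⟨fun e e' h => ?_, fun ψ => ?_⟩
  · refine Subtype.ext (hom_ext_quot (isFreeOver_jN f Y hY) (Magnet.hom_ext_lift₂ fun W P t => ?_))
    rw [lift_whiskerRight_assoc, lift_whiskerRight_assoc, decomp]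
    rw [attr_apply a e, attr_apply a e']
    have h' : (attrComap a f Y).app T e = (attrComap a f Y).app T e' := h
    have h'' : (AMonS.map S g₀ ▷ unop T) ≫ e.1 = (AMonS.map S g₀ ▷ unop T) ≫ e'.1 := congrArg Subtype.val h'
    rw [← lift_whiskerRight_assoc (P ≫ snd') t (AMonS.map S g₀), h'', lift_whiskerRight_assoc (P ≫ snd') t]
  · -- the acting group may be replaced by `D(f(M))`
    let jY : Y →+ f.range.toAddSubmonoid := Y.subtype.codRestrict f.range.toAddSubmonoid fun y => by
      obtain ⟨m, hm⟩ := hY y.2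
      exact ⟨m, hm⟩
    let f' : M →+ f.range.toAddSubmonoid := f.codRestrict f.range.toAddSubmonoid fun m => ⟨m, rfl⟩
    let x := (attrToX b Y).app T ψ
    have hC : ∀ (W : Over S) (k : W ⟶ AMonS S f.range.toAddSubmonoid) (y : W ⟶ AMonS S Y) (t : W ⟶ unop T),
        CartesianMonoidalCategory.lift ((k ≫ AMonS.map S jY) * y) t ≫ ψ.1 =
          CartesianMonoidalCategory.lift (k ≫ AMonS.map S f') (CartesianMonoidalCategory.lift y t ≫ ψ.1) ≫ a.act := by
      intro W k y t
      let u : AMonS S f.range.toAddSubmonoid ⊗ (AMonS S Y ⊗ unop T) ⟶ X :=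
        CartesianMonoidalCategory.lift ((fst _ _ ≫ AMonS.map S jY) * (snd _ _ ≫ fst _ _)) (snd _ _ ≫ snd _ _) ≫ ψ.1
      let v : AMonS S f.range.toAddSubmonoid ⊗ (AMonS S Y ⊗ unop T) ⟶ X :=
        CartesianMonoidalCategory.lift (fst _ _ ≫ AMonS.map S f') (snd _ _ ≫ ψ.1) ≫ a.act
      have huv : u = v := by
        refine hom_ext_quot (isFreeOver_range f) (Magnet.hom_ext_lift₂ fun W g w => ?_)
        rw [← lift_comp_fst_snd w]
        simp only [u, v, lift_whiskerRight_assoc, comp_lift_assoc, MonObj.comp_mul, lift_fst_assoc, lift_snd_assoc,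
          lift_fst, lift_snd, Category.assoc, ← AMonS.map_comp]
        have e₁ := attr_apply b ψ g (w ≫ fst _ _) (w ≫ snd _ _)
        rw [lift_restrict_act] at e₁
        exact e₁
      have h := congrArg (CartesianMonoidalCategory.lift k (CartesianMonoidalCategory.lift y t) ≫ ·) huv
      simp only [u, v, comp_lift_assoc, MonObj.comp_mul, lift_fst_assoc, lift_snd_assoc, lift_fst, lift_snd] at h
      exact h
    let Φ : AMonS S (M × Y) ⊗ unop T ⟶ X :=
      CartesianMonoidalCategory.lift (fst _ _ ≫ fst')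
        (CartesianMonoidalCategory.lift (fst _ _ ≫ snd') (snd _ _) ≫ ψ.1) ≫ a.act
    have hΦ : ∀ (W : Over S) (P : W ⟶ AMonS S (M × Y)) (t : W ⟶ unop T),
        CartesianMonoidalCategory.lift P t ≫ Φ = CartesianMonoidalCategory.lift (P ≫ fst')
          (CartesianMonoidalCategory.lift (P ≫ snd') t ≫ ψ.1) ≫ a.act := fun W P t => by
      simp only [Φ, comp_lift_assoc, lift_fst_assoc, lift_snd]
    obtain ⟨l, hl⟩ := exists_desc_amon (isFreeOver_jN f Y hY) Φ fun W P P' t hPP => by
      let σ : f.range.toAddSubmonoid → M := Function.surjInv f.rangeRestrict_surjective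
      have hσ : ∀ c : f.range.toAddSubmonoid, f (σ c) = c := fun c =>
        congrArg Subtype.val (Function.surjInv_eq f.rangeRestrict_surjective c)
      let p := P ≫ fst'
      let p' := P' ≫ fst'
      let y := P ≫ snd'
      let y' := P' ≫ snd'
      have heq : ∀ (m : M) (hm : f m ∈ Y), mFn p m * mFn y ⟨f m, hm⟩ = mFn p' m * mFn y' ⟨f m, hm⟩ := fun m hm => by
        have := hPP ⟨m, hm⟩
        simp only [p, p', y, y', fst', snd', mFn_map, ← mFn_add]
        simpa using this
      let d : M → Γ(W.left, ⊤) := fun m => mFn p m * mFn p' (-m)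
      have hd : ∀ m m' : M, f m = f m' → d m = d m' := fun m m' e => by
        have h0 : f (m' - m) = 0 := by rw [map_sub, e, sub_self]
        have := heq (m' - m) (by rw [h0]; exact zero_mem Y)
        rw [show (⟨f (m' - m), _⟩ : Y) = 0 from Subtype.ext h0, mFn_zero, mFn_zero, _root_.mul_one, _root_.mul_one] at this
        calc d m = mFn p m * (mFn p' (m' - m) * mFn p' (-m')) := by
              rw [← mFn_add]
              simp only [d]
              congr 2
              abel
          _ = mFn p (m' - m) * mFn p m * mFn p' (-m') := by rw [this]; ring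
          _ = d m' := by rw [mFn_sub_mul]
      obtain ⟨k, hk⟩ := mFn_surjective (S := S) (W := W) (M := f.range.toAddSubmonoid)
        { toFun := fun c => d (σ c.toAdd)
          map_one' := (hd _ 0 (by simp [hσ])).trans (by simp [d, mFn_zero])
          map_mul' := fun c c' => by
            refine (hd _ (σ c.toAdd + σ c'.toAdd) (by simp [hσ])).trans ?_
            simp only [d, neg_add, mFn_add]
            ring }
      have hp : p = p' * (k ≫ AMonS.map S f') := mFn_ext fun m => by
        rw [mFn_mul, mFn_map k f', hk]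
        change _ = mFn p' m * d (σ (f' m))
        rw [hd _ m (hσ _)]
        simp only [d]
        rw [_root_.mul_comm (mFn p m), ← _root_.mul_assoc, mFn_mul_neg, _root_.one_mul]
      have hy : y' = (k ≫ AMonS.map S jY) * y := mFn_ext fun y₀ => by
        rw [mFn_mul, mFn_map k jY, hk]
        obtain ⟨m, hm⟩ := hY y₀.2
        change _ = d (σ (jY y₀)) * _
        have e₀ : f (σ (jY y₀)) = f m := (hσ (jY y₀)).trans hm.symm
        rw [hd _ m e₀]
        have := heq m (by rw [hm]; exact y₀.2)
        rw [show (⟨f m, _⟩ : Y) = y₀ from Subtype.ext hm] at this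
        calc mFn y' y₀ = mFn p' (-m) * (mFn p' m * mFn y' y₀) := by
              rw [← _root_.mul_assoc, _root_.mul_comm (mFn p' (-m)), mFn_mul_neg, _root_.one_mul]
          _ = d m * mFn y y₀ := by rw [← this]; simp only [d]; ring
      change CartesianMonoidalCategory.lift P t ≫ Φ = CartesianMonoidalCategory.lift P' t ≫ Φ
      rw [hΦ, hΦ]
      change CartesianMonoidalCategory.lift p (CartesianMonoidalCategory.lift y t ≫ ψ.1) ≫ a.act =
        CartesianMonoidalCategory.lift p' (CartesianMonoidalCategory.lift y' t ≫ ψ.1) ≫ a.act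
      rw [hy, hC W k y t, hp, a.lift_mul_act]
    have hlP : ∀ (W : Over S) (P : W ⟶ AMonS S (M × Y)) (t : W ⟶ unop T),
        CartesianMonoidalCategory.lift (P ≫ AMonS.map S (jN f Y)) t ≫ l = CartesianMonoidalCategory.lift (P ≫ fst')
          (CartesianMonoidalCategory.lift (P ≫ snd') t ≫ ψ.1) ≫ a.act := fun W P t => by
      rw [← hΦ, ← hl, lift_whiskerRight_assoc]
    have hx : ∀ (W : Over S) (t : W ⟶ unop T),
        CartesianMonoidalCategory.lift (toUnit W ≫ η[AMonS S Y]) t ≫ ψ.1 = t ≫ x := fun W t => by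
      change _ = t ≫ CartesianMonoidalCategory.lift (toUnit (unop T) ≫ η[AMonS S Y]) (𝟙 _) ≫ ψ.1
      rw [comp_lift_assoc, Category.comp_id, ← Category.assoc t, toUnit_unique (t ≫ toUnit _) (toUnit W)]
    have hl' : (AMonS.map S (Y.comap f).subtype ▷ unop T) ≫ l = (AMonS S M ◁ x) ≫ a.act :=
      Magnet.hom_ext_lift₂ fun W g t => by
        have e₁ : g ≫ AMonS.map S (Y.comap f).subtype =
            (g ≫ AMonS.map S (AddMonoidHom.fst M Y)) ≫ AMonS.map S (jN f Y) := mFn_ext fun n => by
          simp only [mFn_map]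
          rfl
        have e₂ : (g ≫ AMonS.map S (AddMonoidHom.fst M Y)) ≫ fst' = g := mFn_ext fun m => by
          simp only [fst', mFn_map]
          rfl
        have e₃ : (g ≫ AMonS.map S (AddMonoidHom.fst M Y)) ≫ snd' = toUnit W ≫ η[AMonS S Y] := mFn_ext fun y => by
          simp only [snd', mFn_map]
          exact (mFn_zero g).trans (mFn_one y).symm
        rw [lift_whiskerRight_assoc, lift_whiskerLeft_assoc, e₁, hlP, e₂, e₃, hx]
    have hmem : IsEquivariant ((subAct S M (Y.comap f)).prod (trivial _ (unop T))) a l := by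
      rw [mem_eqvHom_iff]
      intro W g n t
      rw [show CartesianMonoidalCategory.lift g n ≫ (subAct S M (Y.comap f)).act = _ from
        (lift_restrict_act (AMonS.map S (Y.comap f).subtype) (regular _) g n).trans (lift_regular_act _ _)]
      let u : AMonS S (Y.comap f) ⊗ (AMonS S M ⊗ unop T) ⟶ X :=
        CartesianMonoidalCategory.lift (((snd _ _ ≫ fst _ _) ≫ AMonS.map S (Y.comap f).subtype) * fst _ _)
          (snd _ _ ≫ snd _ _) ≫ l
      let v : AMonS S (Y.comap f) ⊗ (AMonS S M ⊗ unop T) ⟶ X :=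
        CartesianMonoidalCategory.lift (snd _ _ ≫ fst _ _)
          (CartesianMonoidalCategory.lift (fst _ _) (snd _ _ ≫ snd _ _) ≫ l) ≫ a.act
      have huv : u = v := by
        refine hom_ext_quot (isFreeOver_jN f Y hY) (Magnet.hom_ext_lift₂ fun W P w => ?_)
        rw [← lift_comp_fst_snd w]
        simp only [u, v, lift_whiskerRight_assoc, comp_lift_assoc, MonObj.comp_mul, lift_fst_assoc, lift_snd_assoc,
          lift_fst, lift_snd, Category.assoc]
        let G := (w ≫ fst _ _) ≫ AMonS.map S (AddMonoidHom.fst M Y)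
        have eG : w ≫ fst _ _ ≫ AMonS.map S (Y.comap f).subtype = G ≫ AMonS.map S (jN f Y) := mFn_ext fun n => by
          simp only [G, ← Category.assoc, mFn_map]
          rfl
        have eG₁ : G ≫ fst' = w ≫ fst _ _ := mFn_ext fun m => by
          simp only [G, fst', mFn_map]
          rfl
        have eG₂ : G ≫ snd' = toUnit W ≫ η[AMonS S Y] := mFn_ext fun y => by
          simp only [G, snd', mFn_map]
          exact (mFn_zero _).trans (mFn_one y).symm
        rw [eG, ← MonObj.mul_comp, hlP, hlP, MonObj.mul_comp, MonObj.mul_comp, eG₁, eG₂, a.lift_mul_act,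
          ← Hom.one_def, _root_.one_mul]
      have h := congrArg (CartesianMonoidalCategory.lift n (CartesianMonoidalCategory.lift g t) ≫ ·) huv
      simp only [u, v, comp_lift_assoc, MonObj.comp_mul, lift_fst_assoc, lift_snd_assoc, lift_fst, lift_snd,
        Category.assoc] at h
      exact h
    refine ⟨⟨l, hmem⟩, Subtype.ext (Magnet.hom_ext_lift₂ fun W y t => ?_)⟩
    change CartesianMonoidalCategory.lift y t ≫ (AMonS.map S g₀ ▷ unop T) ≫ l =
      CartesianMonoidalCategory.lift y t ≫ ψ.1
    have e₁ : y ≫ AMonS.map S g₀ = (y ≫ AMonS.map S (AddMonoidHom.snd M Y)) ≫ AMonS.map S (jN f Y) :=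
      mFn_ext fun n => by
        simp only [mFn_map]
        rfl
    have e₂ : (y ≫ AMonS.map S (AddMonoidHom.snd M Y)) ≫ fst' = toUnit W ≫ η[AMonS S M] := mFn_ext fun m => by
      simp only [fst', mFn_map]
      exact (mFn_zero y).trans (mFn_one m).symm
    have e₃ : (y ≫ AMonS.map S (AddMonoidHom.snd M Y)) ≫ snd' = y := mFn_ext fun z => by
      simp only [snd', mFn_map]
      rfl
    rw [lift_whiskerRight_assoc, e₁, hlP, e₂, e₃, ← Hom.one_def, a.lift_one_act]

end Comap

end Groth.Agent.MagnetLib
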