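import Groth.Agent.AlgSp.DescentRep

/-!
# Representability of a presheaf over a representable one descends along fppf base change, affine case
-/

set_option autoImplicit false

universe u

open CategoryTheory CategoryTheory.Limits AlgebraicGeometry Opposite

set_option backward.isDefEq.respectTransparency.types false

noncomputable section

namespace Groth.Agent.MagnetLib.RepDescent

variable {S : Scheme.{u}} {F : (Over S)ᵒᵖ ⥤ Type u}

/-- An fppf sheaf of small sets as a sheaf one universe up. -/
def toSp (hF : Presieve.IsSheaf (AlgSp.J S) F) : AlgSp.Sp S :=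
  (sheafCompose (AlgSp.J S) uliftFunctor.{u + 1, u}).obj ⟨F, (isSheaf_iff_isSheaf_of_type _ _).2 hF⟩

/-- A map to a representable presheaf, one universe up. -/
def toSpHom (hF : Presieve.IsSheaf (AlgSp.J S) F) {Z : Over S} (π : F ⟶ yoneda.obj Z) :
    toSp hF ⟶ (AlgSp.yon S).obj Z :=
  ⟨Functor.whiskerRight π uliftFunctor.{u + 1, u}⟩

/-- A map from a representable presheaf, one universe up. -/
def ofPoint (hF : Presieve.IsSheaf (AlgSp.J S) F) {P : Over S} (θ : yoneda.obj P ⟶ F) :
    (AlgSp.yon S).obj P ⟶ toSp hF :=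
  ⟨Functor.whiskerRight θ uliftFunctor.{u + 1, u}⟩

theorem isPullback_toSp (hF : Presieve.IsSheaf (AlgSp.J S) F) {Z Z' P : Over S} (π : F ⟶ yoneda.obj Z)
    (p : Z' ⟶ Z) (q : P ⟶ Z') (θ : yoneda.obj P ⟶ F) (sq : IsPullback θ (yoneda.map q) π (yoneda.map p)) :
    IsPullback (ofPoint hF θ) ((AlgSp.yon S).map q) (toSpHom hF π) ((AlgSp.yon S).map p) := by
  refine IsPullback.of_map (sheafToPresheaf _ _) ?_ ?_
  · refine Sheaf.hom_ext ?_
    change Functor.whiskerRight θ _ ≫ Functor.whiskerRight π _ =
      Functor.whiskerRight (yoneda.map q) _ ≫ Functor.whiskerRight (yoneda.map p) _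
    rw [← Functor.whiskerRight_comp, ← Functor.whiskerRight_comp, sq.w]
  · refine IsPullback.of_forall_isPullback_app fun T => ?_
    exact (sq.app T).map uliftFunctor.{u + 1, u}

/-- A sheaf over a representable one which becomes representable by an affine scheme over the base after an fppf
base change is representable by an affine scheme over the base. -/
theorem exists_representableBy_isAffineHom (hF : Presieve.IsSheaf (AlgSp.J S) F) {Z Z' P : Over S}
    (π : F ⟶ yoneda.obj Z) (p : Z' ⟶ Z) [Flat p.left] [Surjective p.left] [LocallyOfFinitePresentation p.left]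
    (q : P ⟶ Z') [IsAffineHom q.left] (θ : yoneda.obj P ⟶ F)
    (sq : IsPullback θ (yoneda.map q) π (yoneda.map p)) :
    ∃ (Y : Over S) (e : F.RepresentableBy Y) (j : Y ⟶ Z), IsAffineHom j.left ∧
      ∀ (T : Over S) (z : T ⟶ Y), π.app (op T) (e.homEquiv z) = z ≫ j := by
  have : Sheaf.IsLocallySurjective ((AlgSp.yon S).map p) := AlgSp.isLocallySurjective_of_repWith _
    ((AlgSp.repWith_yon_map_iff _ p).2 inferInstance) ((AlgSp.repWith_yon_map_iff _ p).2 inferInstance)
    ((AlgSp.repWith_yon_map_iff _ p).2 inferInstance)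
  have hrep := AlgSp.repWith_isAffineHom_of_baseChange (toSpHom hF π) ((AlgSp.yon S).map p)
    (isPullback_toSp hF π p q θ sq) ((AlgSp.repWith_yon_map_iff _ q).2 inferInstance)
  obtain ⟨Y, j, fst, hsq⟩ := hrep.1 (𝟙 ((AlgSp.yon S).obj Z))
  have := hsq.isIso_fst_of_isIso
  have hbij : ∀ T : Over S, Function.Bijective (fun z : T ⟶ Y => (fst.hom.app (op T) ⟨z⟩).down) := fun T => by
    have hiso : IsIso (((sheafToPresheaf _ _).map fst).app (op T)) := inferInstance
    have hb := (CategoryTheory.isIso_iff_bijective _).1 hiso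
    exact Equiv.ulift.bijective.comp (hb.comp Equiv.ulift.symm.bijective)
  refine ⟨Y,
    { homEquiv := fun {T} => Equiv.ofBijective _ (hbij T)
      homEquiv_comp := fun {T T'} f z =>
        congrArg ULift.down (ConcreteCategory.congr_hom (fst.hom.naturality f.op) ⟨z⟩) },
    j, hrep.2 (𝟙 _) fst j hsq, fun T z => ?_⟩
  exact congrArg ULift.down (ConcreteCategory.congr_hom
    (NatTrans.congr_app (congrArg (fun k => k.hom) hsq.w) (op T)) ⟨z⟩)

end Groth.Agent.MagnetLib.RepDescent
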