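import Groth.Agent.MagnetLib.FaceFinite
import Groth.Agent.MagnetLib.FixedDescent
import Groth.Agent.MagnetLib.QuotAttr
import Groth.Agent.MagnetLib.Rep
import Groth.Agent.MagnetLib.RepDescent
import Mathlib.CategoryTheory.Limits.Yoneda

/-!
# Representability of attractors from a fixed-point reflecting atlas affine over the base
-/

set_option autoImplicit false

universe u

open CategoryTheory CategoryTheory.Limits MonoidalCategory CartesianMonoidalCategory MonObj AlgebraicGeometry Opposite

noncomputable section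

namespace Groth.Agent.MagnetLib

open Magnet Magnet.MonAct

variable {S : Scheme.{u}} {M : Type} [AddCommGroup M] {X U : Over S} {aX : MonAct (AMonS S M) X}
  {aU : MonAct (AMonS S M) U} {f : U ⟶ X}

theorem attrToX_postcomp (hf : IsEquivariant aU aX f) (L : AddSubmonoid M) :
    eqvHom.postcomp (subAct S M L) f hf ≫ attrToX aX L = attrToX aU L ≫ yoneda.map f := by
  ext T φ
  exact (Category.assoc _ _ _).symm

/-- Fixed-point reflection in terms of attractors of a subgroup. -/
theorem isPullback_subgroup [AddGroup.FG M] (hf : IsEquivariant aU aX f) (Z : AddSubgroup M)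
    (hfZ : IsEquivariant (aU.restrict (AMonS.map S (QuotientAddGroup.mk' Z)))
      (aX.restrict (AMonS.map S (QuotientAddGroup.mk' Z))) f)
    (hfpr : IsPullback (fixedPsh.map f hfZ) (fixedPshι (aU.restrict (AMonS.map S (QuotientAddGroup.mk' Z))))
      (fixedPshι (aX.restrict (AMonS.map S (QuotientAddGroup.mk' Z)))) (yoneda.map f)) :
    IsPullback (eqvHom.postcomp (subAct S M Z.toAddSubmonoid) f hf) (attrToX aU Z.toAddSubmonoid)
      (attrToX aX Z.toAddSubmonoid) (yoneda.map f) := by
  obtain ⟨eU, heU⟩ := exists_attr_iso_fixedPsh Z aU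
  obtain ⟨eX, heX⟩ := exists_attr_iso_fixedPsh Z aX
  have : ∀ T, Mono ((fixedPshι (aX.restrict (AMonS.map S (QuotientAddGroup.mk' Z)))).app T) :=
    fun T => (CategoryTheory.mono_iff_injective _).2 fun x y h => Subtype.ext h
  have : Mono (fixedPshι (aX.restrict (AMonS.map S (QuotientAddGroup.mk' Z)))) := NatTrans.mono_of_mono_app _
  refine hfpr.of_iso eU.symm eX.symm (Iso.refl _) (Iso.refl _) ?_ ?_ ?_ ?_
  · rw [Iso.symm_hom, Iso.symm_hom, ← cancel_mono eX.hom, Category.assoc, Category.assoc, Iso.inv_hom_id,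
      Category.comp_id, Iso.eq_inv_comp, ← cancel_mono (fixedPshι _), Category.assoc, Category.assoc, hfpr.w, heX,
      ← Category.assoc, heU]
    exact (attrToX_postcomp hf _).symm
  · rw [Iso.refl_hom, Category.comp_id, Iso.symm_hom, ← heU, Iso.inv_hom_id_assoc]
  · rw [Iso.refl_hom, Category.comp_id, Iso.symm_hom, ← heX, Iso.inv_hom_id_assoc]
  · simp

theorem exists_attr_representable_atlas [AddGroup.FG M] [IsAffineHom U.hom] [Etale f.left] [Surjective f.left]
    (hf : IsEquivariant aU aX f) {N F : AddSubmonoid M} (hF : IsFace N F) (Z : AddSubgroup M)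
    (hZ : F = Z.toAddSubmonoid)
    (hfZ : IsEquivariant (aU.restrict (AMonS.map S (QuotientAddGroup.mk' Z)))
      (aX.restrict (AMonS.map S (QuotientAddGroup.mk' Z))) f)
    (hfpr : IsPullback (fixedPsh.map f hfZ) (fixedPshι (aU.restrict (AMonS.map S (QuotientAddGroup.mk' Z))))
      (fixedPshι (aX.restrict (AMonS.map S (QuotientAddGroup.mk' Z)))) (yoneda.map f))
    (hface : IsPullback (eqvHom.postcomp (subAct S M N) f hf) (attrFace aU hF) (attrFace aX hF)
      (eqvHom.postcomp (subAct S M F) f hf)) :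
    ∃ (ZN Zs : Over S) (eN : (attr aX N).RepresentableBy ZN) (es : (attr aX F).RepresentableBy Zs)
      (i : Zs ⟶ X) (j : ZN ⟶ Zs), IsClosedImmersion i.left ∧ IsAffineHom j.left ∧
      (∀ (T : Over S) (z : T ⟶ Zs), (attrToX aX F).app (op T) (es.homEquiv z) = z ≫ i) ∧
      ∀ (T : Over S) (z : T ⟶ ZN),
        es.homEquiv (z ≫ j) = (attrFace aX hF).app (op T) (eN.homEquiv z) := by
  subst hZ
  obtain ⟨W', i', e', hi', he'⟩ := exists_attr_representableBy aU Z.toAddSubmonoid
  obtain ⟨eU, heU⟩ := exists_attr_iso_fixedPsh Z aU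
  obtain ⟨eX, heX⟩ := exists_attr_iso_fixedPsh Z aX
  obtain ⟨W, i, eW, hi, heW⟩ := exists_fixed_closed _ _ f hfZ hfpr W' i' (e'.ofIso eU) (fun T w => by
    rw [← he' T w, ← heU]
    rfl)
  let es : (attr aX Z.toAddSubmonoid).RepresentableBy W := eW.ofIso eX.symm
  have hes : ∀ (T : Over S) (z : T ⟶ W), (attrToX aX Z.toAddSubmonoid).app (op T) (es.homEquiv z) = z ≫ i := by
    intro T z
    rw [← heX, ← heW T z]
    exact congrArg ((fixedPshι _).app (op T)) (ConcreteCategory.congr_hom (NatTrans.congr_app eX.inv_hom_id (op T)) _)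
  obtain ⟨P, iP, eP, hiP, -⟩ := exists_attr_representableBy aU N
  let p : W' ⟶ W := Yoneda.fullyFaithful.preimage
    (e'.toIso.hom ≫ eqvHom.postcomp (subAct S M Z.toAddSubmonoid) f hf ≫ es.toIso.inv)
  let q : P ⟶ W' := Yoneda.fullyFaithful.preimage (eP.toIso.hom ≫ attrFace aU hF ≫ e'.toIso.inv)
  have hp : yoneda.map p = e'.toIso.hom ≫ eqvHom.postcomp (subAct S M Z.toAddSubmonoid) f hf ≫ es.toIso.inv :=
    Yoneda.fullyFaithful.map_preimage _
  have hq : yoneda.map q = eP.toIso.hom ≫ attrFace aU hF ≫ e'.toIso.inv := Yoneda.fullyFaithful.map_preimage _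
  have sqZ : IsPullback (yoneda.map p) (yoneda.map i') (yoneda.map i) (yoneda.map f) :=
    (isPullback_subgroup hf Z hfZ hfpr).of_iso e'.toIso.symm es.toIso.symm (Iso.refl _) (Iso.refl _)
      (by simp [hp])
      (by
        rw [Iso.refl_hom, Category.comp_id, Iso.symm_hom, Iso.eq_inv_comp]
        ext T z
        exact he' (unop T) z)
      (by
        rw [Iso.refl_hom, Category.comp_id, Iso.symm_hom, Iso.eq_inv_comp]
        ext T z
        exact hes (unop T) z)
      (by simp)
  have sqS := (sqZ.of_map_of_faithful yoneda).map (Over.forget S)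
  have : Etale p.left := MorphismProperty.of_isPullback sqS.flip (inferInstanceAs (Etale f.left))
  have : Surjective p.left := MorphismProperty.of_isPullback sqS.flip (inferInstanceAs (Surjective f.left))
  have : IsAffineHom q.left := by
    have hW : IsAffineHom W'.hom := by rw [← Over.w i']; infer_instance
    have hP : IsAffineHom P.hom := by rw [← Over.w iP]; infer_instance
    have : IsAffineHom (q.left ≫ W'.hom) := by rw [Over.w q]; exact hP
    exact IsAffineHom.of_comp q.left W'.hom
  obtain ⟨Y, eY, j, hj, hjeq⟩ := RepDescent.exists_representableBy_isAffineHom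
    (isSheaf_eqvHom (fun Z => GrothendieckTopology.Subcanonical.isSheaf_of_isRepresentable _) (subAct S M N) aX)
    (attrFace aX hF ≫ es.toIso.inv) p q (eP.toIso.hom ≫ eqvHom.postcomp (subAct S M N) f hf)
    (hface.of_iso eP.toIso.symm (Iso.refl _) e'.toIso.symm es.toIso.symm (by simp) (by simp [hq]) (by simp)
      (by simp [hp]))
  refine ⟨Y, W, eY, es, i, j, hi, hj, hes, fun T z => ?_⟩
  rw [← hjeq T z]
  exact ConcreteCategory.congr_hom (NatTrans.congr_app es.toIso.inv_hom_id (op T)) _

end Groth.Agent.MagnetLib
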