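import Groth.Agent.MagnetLib.Formal
import Groth.Prelude.Def_Magnet2
import Groth.Agent.GITLib.HMLimit

/-!
# Density of `A(M)` in `A(N)` and monomorphy of attractors
-/

set_option autoImplicit false
set_option backward.isDefEq.respectTransparency false

universe u

noncomputable section

open CategoryTheory CategoryTheory.Limits MonoidalCategory CartesianMonoidalCategory MonObj AlgebraicGeometry Opposite

namespace Groth.Agent.MagnetLib

open Magnet Magnet.MonAct

variable {S : Scheme.{u}} {M N : Type} [AddCommMonoid M] [AddCommMonoid N]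

/-- The structure map to the spectrum of the integers. -/
abbrev toZ (T : Scheme.{u}) : T ⟶ Spec (CommRingCat.of (ULift.{u} ℤ)) := IsTerminal.from specULiftZIsTerminal T

variable (M) in
theorem isPullback_tensor (T : Over S) :
    IsPullback (pullback.fst (AMonS S M).hom T.hom ≫ pullback.fst (AMon (ULift.{u} ℤ) M).hom (toZ S))
      (pullback.snd (AMonS S M).hom T.hom) (AMon (ULift.{u} ℤ) M).hom (toZ T.left) := by
  have h := (IsPullback.of_hasPullback (AMonS S M).hom T.hom).paste_horiz
    (IsPullback.of_hasPullback (AMon (ULift.{u} ℤ) M).hom (toZ S))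
  convert h using 1
  exact specULiftZIsTerminal.hom_ext _ _

variable (M) in
/-- `A(M)_S ×_S T = A(M)_T` as schemes. -/
def tensorLeftIso (T : Over S) : (AMonS S M ⊗ T).left ≅ (AMonS T.left M).left := (isPullback_tensor M T).isoPullback

theorem tensorLeftIso_fst (T : Over S) :
    (tensorLeftIso M T).hom ≫ pullback.fst (AMon (ULift.{u} ℤ) M).hom (toZ T.left) =
      pullback.fst (AMonS S M).hom T.hom ≫ pullback.fst (AMon (ULift.{u} ℤ) M).hom (toZ S) :=
  (isPullback_tensor M T).isoPullback_hom_fst

theorem tensorLeftIso_snd (T : Over S) :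
    (tensorLeftIso M T).hom ≫ pullback.snd (AMon (ULift.{u} ℤ) M).hom (toZ T.left) =
      pullback.snd (AMonS S M).hom T.hom :=
  (isPullback_tensor M T).isoPullback_hom_snd

theorem map_left_fst (T : Scheme.{u}) (f : N →+ M) :
    (AMonS.map T f).left ≫ pullback.fst (AMon (ULift.{u} ℤ) N).hom (toZ T) =
      pullback.fst (AMon (ULift.{u} ℤ) M).hom (toZ T) ≫ (AMon.map (ULift.{u} ℤ) f).left :=
  pullback.lift_fst _ _ _

theorem map_left_snd (T : Scheme.{u}) (f : N →+ M) :
    (AMonS.map T f).left ≫ pullback.snd (AMon (ULift.{u} ℤ) N).hom (toZ T) =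
      pullback.snd (AMon (ULift.{u} ℤ) M).hom (toZ T) :=
  pullback.lift_snd _ _ _

theorem tensorLeftIso_map (f : N →+ M) (T : Over S) :
    (AMonS.map S f ▷ T).left ≫ (tensorLeftIso N T).hom = (tensorLeftIso M T).hom ≫ (AMonS.map T.left f).left := by
  refine pullback.hom_ext ?_ ?_
  · refine ((Category.assoc _ _ _).trans ((congrArg (_ ≫ ·) (tensorLeftIso_fst (M := N) T)).trans
      ((Category.assoc _ _ _).symm.trans ((congrArg (· ≫ _) (Over.whiskerRight_left_fst (AMonS.map S f))).trans
        ((Category.assoc _ _ _).trans (congrArg (_ ≫ ·) (map_left_fst S f))))))).trans ?_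
    exact ((Category.assoc _ _ _).symm.trans ((congrArg (· ≫ _) (tensorLeftIso_fst (M := M) T)).symm.trans
      ((Category.assoc _ _ _).trans ((congrArg (_ ≫ ·) (map_left_fst T.left f).symm).trans
        (Category.assoc _ _ _).symm))))
  · exact ((Category.assoc _ _ _).trans ((congrArg (_ ≫ ·) (tensorLeftIso_snd (M := N) T)).trans
      (Over.whiskerRight_left_snd (AMonS.map S f)))).trans
      ((Category.assoc _ _ _).trans ((congrArg (_ ≫ ·) (map_left_snd T.left f)).trans
        (tensorLeftIso_snd (M := M) T))).symm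

theorem isSchemeTheoreticallyDominant_whiskerRight {R : Type u} [CommRing R] (g : Spec (CommRingCat.of R) ⟶ S)
    (f : N →+ M) (hf : Function.Injective f) :
    IsSchemeTheoreticallyDominant (AMonS.map S f ▷ Over.mk g).left := by
  have e := tensorLeftIso_map f (Over.mk g)
  rw [← Iso.eq_comp_inv] at e
  rw [e]
  have : IsSchemeTheoreticallyDominant (AMonS.map (Over.mk g).left f).left :=
    GITLib.HM.isSchemeTheoreticallyDominant_map R f hf
  infer_instance

variable {X : Over S} [IsSeparated X.hom]

/-- Morphisms out of `A(N) × T` into a separated scheme are determined on `A(M) × T`. -/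
theorem hom_ext_amon (f : N →+ M) (hf : Function.Injective f) (T : Over S) {a b : AMonS S N ⊗ T ⟶ X}
    (h : (AMonS.map S f ▷ T) ≫ a = (AMonS.map S f ▷ T) ≫ b) : a = b := by
  refine Over.OverMorphism.ext (Scheme.Cover.hom_ext
    (T.left.affineCover.pullback₁ (pullback.snd (AMonS S N).hom T.hom)) _ _ fun i => ?_)
  let g := T.left.affineCover.f i
  let Ti : Over S := Over.mk (g ≫ T.hom)
  let j : Ti ⟶ T := Over.homMk g rfl
  let π₀ : pullback (pullback.snd (AMonS S N).hom T.hom) g ⟶ pullback (AMonS S N).hom Ti.hom :=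
    pullback.lift (pullback.fst _ _ ≫ pullback.fst _ _) (pullback.snd _ _) (by
      change _ = _ ≫ g ≫ T.hom
      rw [Category.assoc, pullback.condition, ← Category.assoc, pullback.condition, Category.assoc])
  have hk : π₀ ≫ (AMonS S N ◁ j).left = pullback.fst (pullback.snd (AMonS S N).hom T.hom) g := by
    refine pullback.hom_ext ?_ ?_
    · rw [Category.assoc, Over.whiskerLeft_left_fst, pullback.lift_fst]
    · rw [Category.assoc, Over.whiskerLeft_left_snd, pullback.lift_snd_assoc]
      exact pullback.condition.symm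
  have key : (AMonS S N ◁ j) ≫ a = (AMonS S N ◁ j) ≫ b := by
    have := isSchemeTheoreticallyDominant_whiskerRight (S := S) (g ≫ T.hom) f hf
    refine Over.OverMorphism.ext (GrpScheme.Ext.ext_of_schematicallyDominant
      (AMonS.map S f ▷ Ti).left X.hom ?_ ?_)
    · rw [Over.w, Over.w]
    · rw [← Over.comp_left, ← Over.comp_left, ← whisker_exchange_assoc, ← whisker_exchange_assoc, h]
  have e : ∀ (c : AMonS S N ⊗ T ⟶ X), pullback.fst (pullback.snd (AMonS S N).hom T.hom) g ≫ c.left =
      π₀ ≫ ((AMonS S N ◁ j) ≫ c).left := fun c =>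
    (congrArg (· ≫ c.left) hk).symm.trans (Category.assoc _ _ _)
  exact ((e a).trans (congrArg (π₀ ≫ ·) (congrArg CommaMorphism.left key))).trans (e b).symm

theorem attrToX_injective {M : Type} [AddCommMonoid M] (a : MonAct (AMonS S M) X) (N : AddSubmonoid M) (T : Over S) :
    Function.Injective (fun φ => (attrToX a N).app (op T) φ) := fun e e' h =>
  Subtype.ext (hom_ext_amon N.subtype Subtype.val_injective T
    ((eqvHom_whiskerRight (AMonS.map S N.subtype) a (op T) e).trans
      ((congrArg (fun x => lift (fst (AMonS S M) T) (snd (AMonS S M) T ≫ x) ≫ a.act) h).trans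
        (eqvHom_whiskerRight (AMonS.map S N.subtype) a (op T) e').symm)))

theorem attrMap_injective {M : Type} [AddCommMonoid M] (a : MonAct (AMonS S M) X) {N L : AddSubmonoid M} (h : N ≤ L)
    (T : Over S) : Function.Injective (fun φ => (attrMap a h).app (op T) φ) := fun e e' hh => by
  refine attrToX_injective a N T ?_
  have k : ∀ e : (attr a N).obj (op T), (attrToX a L).app (op T) ((attrMap a h).app (op T) e) =
      (attrToX a N).app (op T) e := fun e => by
    change CartesianMonoidalCategory.lift (toUnit T ≫ η[AMonS S L]) (𝟙 T) ≫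
        (AMonS.map S (AddSubmonoid.inclusion h) ▷ T) ≫ e.1 = _
    rw [lift_whiskerRight_assoc, Category.assoc, IsMonHom.one_hom]
    rfl
  have hh' : (attrMap a h).app (op T) e = (attrMap a h).app (op T) e' := hh
  change (attrToX a N).app (op T) e = (attrToX a N).app (op T) e'
  rw [← k, ← k, hh']

end Groth.Agent.MagnetLib
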