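import Groth.Agent.MagnetLib.AvgSch
import Groth.Agent.MagnetLib.Dom
import Mathlib.AlgebraicGeometry.AffineTransitionLimit
import Mathlib.CategoryTheory.Limits.Types.Filtered
import Mathlib.Algebra.Category.Ring.FilteredColimits
import Mathlib.CategoryTheory.Filtered.Basic

/-!
# Attractors of directed unions of magnets
-/

set_option autoImplicit false
set_option backward.isDefEq.respectTransparency false

universe u

noncomputable section

open CategoryTheory CategoryTheory.Limits MonoidalCategory CartesianMonoidalCategory MonObj AlgebraicGeometry Opposite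

namespace Groth.Agent.MagnetLib.Union

open Magnet Magnet.MonAct Avg

variable {S : Scheme.{u}} {M : Type} [AddCommMonoid M] (A : Type u) [CommRing A]

/-- Functions along an inclusion of magnets. -/
def algInc {L N : AddSubmonoid M} (h : L ≤ N) : gRing L A →+* gRing N A :=
  MonoidAlgebra.mapDomainRingHom A (AddMonoidHom.toMultiplicative (AddSubmonoid.inclusion h))

theorem algInc_single {L N : AddSubmonoid M} (h : L ≤ N) (m : Multiplicative L) (c : A) :
    algInc A h (MonoidAlgebra.single m c) =
      MonoidAlgebra.single (Multiplicative.ofAdd (AddSubmonoid.inclusion h m.toAdd)) c :=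
  MonoidAlgebra.mapDomain_single ..

theorem algInc_incl {L N : AddSubmonoid M} (h : L ≤ N) (c : A) : algInc A h (incl L A c) = incl N A c := by
  change algInc A h (MonoidAlgebra.single 1 c) = MonoidAlgebra.single 1 c
  rw [algInc_single]
  simp

theorem algInc_injective {L N : AddSubmonoid M} (h : L ≤ N) : Function.Injective (algInc A h) := fun _ _ e =>
  MonoidAlgebra.mapDomain_injective (Multiplicative.ofAdd.injective.comp
    ((AddSubmonoid.inclusion_injective h).comp Multiplicative.toAdd.injective)) e

theorem algInc_comp {L N P : AddSubmonoid M} (h : L ≤ N) (h' : N ≤ P) :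
    (algInc A h').comp (algInc A h) = algInc A (h.trans h') := by
  refine MonoidAlgebra.ringHom_ext (fun r => ?_) fun m => ?_ <;>
    simp only [RingHom.comp_apply, algInc_single] <;> rfl

variable {A}
variable (str : Spec (CommRingCat.of A) ⟶ S)

/-- The restriction map on families over an affine. -/
def incMap {L N : AddSubmonoid M} (h : L ≤ N) : gOver N A str ⟶ gOver L A str :=
  Over.homMk (Spec.map (CommRingCat.ofHom (algInc A h))) (by
    change Spec.map _ ≫ Spec.map _ ≫ str = Spec.map _ ≫ str
    rw [← Category.assoc, ← Spec.map_comp, ← CommRingCat.ofHom_comp]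
    congr 3
    exact RingHom.ext (algInc_incl A h))

theorem incMap_gc {L N : AddSubmonoid M} (h : L ≤ N) :
    incMap str h ≫ gc L A str = gc N A str ≫ (AMonS.map S (AddSubmonoid.inclusion h) ▷ Over.mk str) := by
  refine CartesianMonoidalCategory.hom_ext _ _ (mFn_ext fun m => ?_) (Over.OverMorphism.ext ?_)
  · have e1 : (incMap str h ≫ gc L A str) ≫ fst (AMonS S L) (Over.mk str) =
        incMap str h ≫ gc L A str ≫ fst _ _ := Category.assoc (incMap str h) (gc L A str) (fst _ _)
    have e2 : (gc N A str ≫ (AMonS.map S (AddSubmonoid.inclusion h) ▷ Over.mk str)) ≫ fst (AMonS S L) (Over.mk str) =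
        (gc N A str ≫ fst _ _) ≫ AMonS.map S (AddSubmonoid.inclusion h) := by
      rw [Category.assoc, Category.assoc, whiskerRight_fst]
    rw [e1, e2, mFn_map, mFn_comp, mFn_gc_fst, mFn_gc_fst]
    refine (appTop_spec _ _).trans ?_
    rw [algInc_single]
    rfl
  · rw [Category.assoc, Category.assoc, whiskerRight_snd]
    change Spec.map _ ≫ (gc L A str ≫ snd _ _).left = (gc N A str ≫ snd _ _).left
    rw [gc_snd, gc_snd, ← Spec.map_comp, ← CommRingCat.ofHom_comp]
    congr 2
    exact RingHom.ext (algInc_incl A h)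

section Limit

variable (A) {J : Type} [Preorder J] (N : J → AddSubmonoid M) (hN : Monotone N)

/-- The system of monoid algebras. -/
def ringDiag : ULift.{u} J ⥤ CommRingCat.{u} where
  obj j := CommRingCat.of (gRing (N j.down) A)
  map {i j} f := CommRingCat.ofHom (algInc A (hN (show i.down ≤ j.down from (leOfHom f : i ≤ j))))
  map_id j := CommRingCat.hom_ext (MonoidAlgebra.ringHom_ext (fun r => algInc_single A _ 1 r) fun m => algInc_single A _ m 1)
  map_comp {i j k} f g := CommRingCat.hom_ext
    (algInc_comp A (hN (show i.down ≤ j.down from (leOfHom f : i ≤ j))) (hN (show j.down ≤ k.down from (leOfHom g : j ≤ k)))).symm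

/-- The monoid algebra of the union. -/
def ringCocone : Cocone (ringDiag A N hN) :=
  ⟨CommRingCat.of (gRing (⨆ i, N i : AddSubmonoid M) A),
    { app := fun j => CommRingCat.ofHom (algInc A (le_iSup N j.down))
      naturality := fun {i j} f =>
        CommRingCat.hom_ext (algInc_comp A (hN (show i.down ≤ j.down from (leOfHom f : i ≤ j))) (le_iSup N j.down)) }⟩

def ringCoconeIsColimit [IsDirected J (· ≤ ·)] [Nonempty J] : IsColimit (ringCocone A N hN) := by
  classical
  haveI : IsDirected (ULift.{u} J) (· ≤ ·) :=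
    ⟨fun a b => ⟨⟨(exists_ge_ge a.down b.down).choose⟩, (exists_ge_ge a.down b.down).choose_spec⟩⟩
  haveI : IsFiltered (ULift.{u} J) := isFiltered_of_directed_le_nonempty _
  haveI : PreservesColimit (ringDiag A N hN) (forget CommRingCat.{u}) := inferInstance
  haveI : ReflectsColimit (ringDiag A N hN) (forget CommRingCat.{u}) := reflectsColimit_of_reflectsIsomorphisms _ _
  refine isColimitOfReflects (forget CommRingCat.{u}) (Types.FilteredColimit.isColimitOf _ _ ?_ ?_)
  · intro x
    change ∃ (i : ULift.{u} J) (y : gRing (N i.down) A), x = algInc A (le_iSup N i.down) y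
    suffices h : ∀ z : gRing (⨆ i, N i : AddSubmonoid M) A, ∃ (i : ULift.{u} J) (y : gRing (N i.down) A),
        z = algInc A (le_iSup N i.down) y from h x
    intro z
    induction z using MonoidAlgebra.induction_linear with
    | zero =>
      obtain ⟨i⟩ := ‹Nonempty J›
      exact ⟨⟨i⟩, 0, (map_zero _).symm⟩
    | add a b ha hb =>
      obtain ⟨i, y, rfl⟩ := ha
      obtain ⟨j, z, rfl⟩ := hb
      obtain ⟨k, hik, hjk⟩ := exists_ge_ge i.down j.down
      refine ⟨⟨k⟩, algInc A (hN hik) y + algInc A (hN hjk) z, ?_⟩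
      rw [map_add, ← RingHom.comp_apply, ← RingHom.comp_apply (algInc A (le_iSup N k)), algInc_comp, algInc_comp]
    | single m c =>
      obtain ⟨i, hi⟩ := (AddSubmonoid.mem_iSup_of_directed hN.directed_le).1 m.toAdd.2
      exact ⟨⟨i⟩, MonoidAlgebra.single (Multiplicative.ofAdd ⟨_, hi⟩) c, by rw [algInc_single]; rfl⟩
  · intro i j xi xj h
    obtain ⟨k, hik, hjk⟩ := exists_ge_ge i.down j.down
    refine ⟨⟨k⟩, homOfLE (show i ≤ ⟨k⟩ from hik), homOfLE (show j ≤ ⟨k⟩ from hjk), ?_⟩
    apply algInc_injective A (le_iSup N k)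
    change (algInc A (le_iSup N k)).comp (algInc A (hN hik)) xi = (algInc A (le_iSup N k)).comp (algInc A (hN hjk)) xj
    rw [algInc_comp, algInc_comp]
    exact h

end Limit

variable {X : Over S}

/-- A family which is equivariant after restriction is equivariant. -/
theorem isEquivariant_of_restrict [IsSeparated X.hom] (a : MonAct (AMonS S M) X) {L N : AddSubmonoid M} (h : L ≤ N)
    (T : Over S) (ψ : AMonS S L ⊗ T ⟶ X)
    (hψ : IsEquivariant ((subAct S M N).prod (MonAct.trivial (AMonS S M) T)) a
      ((AMonS.map S (AddSubmonoid.inclusion h) ▷ T) ≫ ψ)) :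
    IsEquivariant ((subAct S M L).prod (MonAct.trivial (AMonS S M) T)) a ψ := by
  rw [mem_eqvHom_iff]
  intro T' g b t
  let G := AMonS S M
  let f := AddSubmonoid.inclusion h
  let P := G ⊗ T
  let u : AMonS S L ⊗ P ⟶ X :=
    CartesianMonoidalCategory.lift (CartesianMonoidalCategory.lift (snd _ _ ≫ fst G T) (fst _ _) ≫ (subAct S M L).act)
      (snd _ _ ≫ snd G T) ≫ ψ
  let v : AMonS S L ⊗ P ⟶ X :=
    CartesianMonoidalCategory.lift (snd _ _ ≫ fst G T)
      (CartesianMonoidalCategory.lift (fst _ _) (snd _ _ ≫ snd G T) ≫ ψ) ≫ a.act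
  have huv : u = v := by
    refine hom_ext_amon f (AddSubmonoid.inclusion_injective h) P ?_
    have he := (mem_eqvHom_iff _).1 hψ (AMonS S N ⊗ P) (snd _ _ ≫ fst G T) (fst _ _) (snd _ _ ≫ snd G T)
    rw [lift_whiskerRight_assoc, lift_whiskerRight_assoc, Category.assoc] at he
    simp only [u, v, comp_lift_assoc, comp_lift, whiskerRight_fst, whiskerRight_snd_assoc]
    refine Eq.trans ?_ he
    congr 2
    have hm : IsEquivariant (subAct S M N) (subAct S M L) (AMonS.map S f) :=
      isEquivariant_restrict_regular _ _ _ (by rw [← AMonS.map_comp]; rfl)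
    rw [(isEquivariant_iff _ _ _).1 hm]
  have key := congrArg (fun w => CartesianMonoidalCategory.lift b (CartesianMonoidalCategory.lift g t) ≫ w) huv
  simpa only [u, v, P, G, comp_lift_assoc, comp_lift, lift_fst, lift_snd, lift_snd_assoc, lift_fst_assoc] using key

/-- Families on the union of a directed system of magnets come from a member. -/
theorem exists_descent [IsSeparated X.hom] [LocallyOfFinitePresentation X.hom] (a : MonAct (AMonS S M) X)
    {J : Type} [Preorder J] [IsDirected J (· ≤ ·)] [Nonempty J] (N : J → AddSubmonoid M) (hN : Monotone N)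
    {B : Type u} [CommRing B] (c : Spec (CommRingCat.of B) ⟶ S)
    (φ : (attr a (⨆ i, N i)).obj (op (Over.mk c))) :
    ∃ (i : J) (ψ : (attr a (N i)).obj (op (Over.mk c))),
      (AMonS.map S (AddSubmonoid.inclusion (le_iSup N i)) ▷ Over.mk c) ≫ ψ.1 = φ.1 := by
  haveI : IsDirected (ULift.{u} J) (· ≤ ·) :=
    ⟨fun a b => ⟨⟨(exists_ge_ge a.down b.down).choose⟩, (exists_ge_ge a.down b.down).choose_spec⟩⟩
  let D : (ULift.{u} J)ᵒᵖ ⥤ Scheme.{u} := (ringDiag B N hN).op ⋙ Scheme.Spec
  let cone : Cone D := Scheme.Spec.mapCone (ringCocone B N hN).op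
  have hc : IsLimit cone := isLimitOfPreserves Scheme.Spec (ringCoconeIsColimit B N hN).op
  let t : D ⟶ (Functor.const _).obj S :=
    { app := fun j => Spec.map (CommRingCat.ofHom (incl (N j.unop.down) B)) ≫ c
      naturality := fun {i j} f => by
        change Spec.map _ ≫ Spec.map _ ≫ c = (Spec.map _ ≫ c) ≫ 𝟙 S
        rw [Category.comp_id, ← Category.assoc, ← Spec.map_comp]
        congr 2
        exact CommRingCat.hom_ext (RingHom.ext (algInc_incl B _)) }
  haveI : ∀ {i j} (f : i ⟶ j), IsAffineHom (D.map f) := fun {i j} f =>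
    inferInstanceAs (IsAffineHom (Spec.map _))
  haveI : ∀ i, CompactSpace (D.obj i) := fun i => inferInstanceAs (CompactSpace (Spec _))
  haveI : ∀ i, QuasiSeparatedSpace (D.obj i) := fun i => inferInstanceAs (QuasiSeparatedSpace (Spec _))
  obtain ⟨i, g, hg, hgf⟩ := Scheme.exists_π_app_comp_eq_of_locallyOfFinitePresentation D t X.hom cone hc
    (gc _ B c ≫ φ.1).left (by
      ext j : 2
      change Spec.map _ ≫ Spec.map _ ≫ c = (gc _ B c ≫ φ.1).left ≫ X.hom
      rw [Over.w, ← Category.assoc, ← Spec.map_comp]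
      congr 2
      exact CommRingCat.hom_ext (RingHom.ext (algInc_incl B _)))
  let g' : gOver (N i.unop.down) B c ⟶ X := Over.homMk g hgf
  have hg' : incMap c (le_iSup N i.unop.down) ≫ g' = gc _ B c ≫ φ.1 := Over.OverMorphism.ext hg
  let ψ := inv (gc (N i.unop.down) B c) ≫ g'
  have hψ : (AMonS.map S (AddSubmonoid.inclusion (le_iSup N i.unop.down)) ▷ Over.mk c) ≫ ψ = φ.1 := by
    rw [← cancel_epi (gc (⨆ i, N i : AddSubmonoid M) B c), ← Category.assoc, ← incMap_gc, Category.assoc, ← hg']
    simp only [ψ, IsIso.hom_inv_id_assoc]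
  exact ⟨i.unop.down, ⟨ψ, isEquivariant_of_restrict a _ _ ψ (hψ ▸ φ.2)⟩, hψ⟩

end Groth.Agent.MagnetLib.Union
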