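import Groth.Agent.MagnetLib.FaceGlue
import Groth.Agent.MagnetLib.Union
import Mathlib.AlgebraicGeometry.Morphisms.FinitePresentation

/-!
# Lifting along faces for arbitrary magnets, the target being separated and locally of finite presentation
-/

set_option autoImplicit false

universe u

noncomputable section

open CategoryTheory CategoryTheory.Limits MonoidalCategory CartesianMonoidalCategory MonObj AlgebraicGeometry Opposite

namespace Groth.Agent.MagnetLib

open Magnet Magnet.MonAct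

variable {S : Scheme.{u}} {M : Type} [AddCommMonoid M] {X : Over S}

theorem exists_fg_descent [IsSeparated X.hom] [LocallyOfFinitePresentation X.hom] (a : MonAct (AMonS S M) X)
    (N : AddSubmonoid M) {B : Type u} [CommRing B] (c : Spec (CommRingCat.of B) ⟶ S)
    (φ : (attr a N).obj (op (Over.mk c))) :
    ∃ (L : AddSubmonoid M) (h : L ≤ N) (ψ : (attr a L).obj (op (Over.mk c))), L.FG ∧
      (AMonS.map S (AddSubmonoid.inclusion h) ▷ Over.mk c) ≫ ψ.1 = φ.1 := by
  classical
  let Ns : Finset N → AddSubmonoid M := fun s => AddSubmonoid.closure (↑(s.image Subtype.val) : Set M)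
  have hmono : Monotone Ns := fun s t h => AddSubmonoid.closure_mono (Finset.coe_subset.2 (Finset.image_subset_image h))
  have heq : N = ⨆ s, Ns s := le_antisymm (fun (x : M) (hx : x ∈ N) =>
      AddSubmonoid.mem_iSup_of_mem (S := Ns) ({⟨x, hx⟩} : Finset N)
      (AddSubmonoid.subset_closure (by simp))) (iSup_le fun s => AddSubmonoid.closure_le.2 fun x hx => by
        obtain ⟨y, -, rfl⟩ := Finset.mem_image.1 hx
        exact y.2)
  have hfg : ∀ s, (Ns s).FG := fun s => ⟨_, rfl⟩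
  have key : ∀ {J : Type} [Preorder J] [IsDirected J (· ≤ ·)] [Nonempty J] (K : J → AddSubmonoid M) (_ : Monotone K)
      (_ : ∀ i, (K i).FG) (N' : AddSubmonoid M) (_ : N' = ⨆ i, K i) (φ' : (attr a N').obj (op (Over.mk c))),
      ∃ (L : AddSubmonoid M) (h : L ≤ N') (ψ : (attr a L).obj (op (Over.mk c))), L.FG ∧
        (AMonS.map S (AddSubmonoid.inclusion h) ▷ Over.mk c) ≫ ψ.1 = φ'.1 := by
    intro J _ _ _ K hK hKfg N' e φ'
    subst e
    obtain ⟨i, ψ, hψ⟩ := Union.exists_descent a K hK c φ'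
    exact ⟨K i, le_iSup K i, ψ, hKfg i, hψ⟩
  exact key Ns hmono hfg N heq φ

namespace Avg

variable {M : Type} [AddCommGroup M] {N F : AddSubmonoid M}

theorem faceMap_map {N' F' : AddSubmonoid M} (hF : IsFace N F) (hF' : IsFace N' F') (h : N' ≤ N) (hl : F' ≤ F)
    (hmem : ∀ n ∈ N', n ∈ F → n ∈ F') :
    AMonS.faceMap S hF ≫ AMonS.map S (AddSubmonoid.inclusion h) =
      AMonS.map S (AddSubmonoid.inclusion hl) ≫ AMonS.faceMap S hF' := by
  refine mFn_ext fun n => ?_
  rw [← Category.id_comp (AMonS.faceMap S hF), mFn_map, mFn_faceMap, mFn_faceMap]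
  by_cases hn : (n : M) ∈ F'
  · rw [dif_pos hn, dif_pos (show (AddSubmonoid.inclusion h n : M) ∈ F from hl hn),
      ← Category.id_comp (AMonS.map S (AddSubmonoid.inclusion hl)), mFn_map]
    rfl
  · rw [dif_neg hn,
      dif_neg (show ¬((AddSubmonoid.inclusion h n : N) : M) ∈ F from fun h' => hn (hmem _ n.2 h'))]

variable {U X : Over S} {aU : MonAct (AMonS S M) U} {aX : MonAct (AMonS S M) X} {f : U ⟶ X}

theorem isPullback_postcomp_of_lfp [AddGroup.FG M] [IsAffineHom U.hom] [Etale f.left] [IsSeparated X.hom]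
    [LocallyOfFinitePresentation X.hom] (hf : IsEquivariant aU aX f) (hF : IsFace N F) :
    IsPullback (eqvHom.postcomp (subAct S M N) f hf) (attrFace aU hF) (attrFace aX hF)
      (eqvHom.postcomp (subAct S M F) f hf) := by
  have : LocallyOfFinitePresentation U.hom := by
    rw [← Over.w f]
    infer_instance
  refine isPullback_postcomp_of_lifts hf hF fun A _ str x y h => ?_
  obtain ⟨L, hL, x₀, hLfg, hx₀⟩ := exists_fg_descent aX N str x
  obtain ⟨K, hK, y₀, hKfg, hy₀⟩ := exists_fg_descent aU F str y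
  let N' := L ⊔ K
  let F' := N' ⊓ F
  have hN' : N' ≤ N := sup_le hL (hK.trans hF.le)
  have hF' : IsFace N' F' := ⟨inf_le_left, fun a ha b hb hab =>
    ⟨⟨ha, (hF.mem_of_add_mem a (hN' ha) b (hN' hb) hab.2).1⟩,
      ⟨hb, (hF.mem_of_add_mem a (hN' ha) b (hN' hb) hab.2).2⟩⟩⟩
  have hKF : K ≤ F' := le_inf le_sup_right hK
  have hF'F : F' ≤ F := inf_le_right
  let x' : (attr aX N').obj (op (Over.mk str)) := (attrMap aX (le_sup_left : L ≤ N')).app _ x₀
  let y' : (attr aU F').obj (op (Over.mk str)) := (attrMap aU hKF).app _ y₀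
  have hx' : (AMonS.map S (AddSubmonoid.inclusion hN') ▷ Over.mk str) ≫ x'.1 = x.1 := by
    refine Eq.trans ?_ hx₀
    change _ ≫ (_ ▷ _) ≫ x₀.1 = _
    rw [← comp_whiskerRight_assoc, ← AMonS.map_comp]
    rfl
  have hy' : (AMonS.map S (AddSubmonoid.inclusion hF'F) ▷ Over.mk str) ≫ y'.1 = y.1 := by
    refine Eq.trans ?_ hy₀
    change _ ≫ (_ ▷ _) ≫ y₀.1 = _
    rw [← comp_whiskerRight_assoc, ← AMonS.map_comp]
    rfl
  have hcomm : (AMonS.faceMap S hF ▷ Over.mk str) ≫ (AMonS.map S (AddSubmonoid.inclusion hN') ▷ Over.mk str) =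
      (AMonS.map S (AddSubmonoid.inclusion hF'F) ▷ Over.mk str) ≫ (AMonS.faceMap S hF' ▷ Over.mk str) := by
    rw [← comp_whiskerRight, ← comp_whiskerRight,
      faceMap_map hF hF' hN' hF'F fun n hn hnF => ⟨hn, hnF⟩]
  have hxy : y'.1 ≫ f = (AMonS.faceMap S hF' ▷ Over.mk str) ≫ x'.1 := by
    refine hom_ext_amon (AddSubmonoid.inclusion hF'F) (AddSubmonoid.inclusion_injective _) _ ?_
    rw [reassoc_of% hy', ← Category.assoc, ← hcomm, Category.assoc, hx', h]
  obtain ⟨φ, hφ⟩ := exists_faceWeightHom (hLfg.sup hKfg) hF'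
  obtain ⟨z, hz1, hz2⟩ := exists_face_lift_affine hf hF' φ hφ x' y' hxy
  refine ⟨(attrMap aU hN').app _ z, ?_, ?_⟩
  · change (_ ≫ z.1) ≫ f = x.1
    rw [Category.assoc, hz1, hx']
  · change _ ≫ _ ≫ z.1 = y.1
    rw [reassoc_of% hcomm, hz2, hy']

end Avg

end Groth.Agent.MagnetLib
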