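import Groth.Agent.MagnetLib.OpenPostcomp
import Groth.Agent.MagnetLib.AtlasFG
import Groth.Agent.MagnetLib.FaceFinite

/-!
# Attractors near a point
-/

set_option autoImplicit false
set_option backward.isDefEq.respectTransparency false

universe u

noncomputable section

open CategoryTheory CategoryTheory.Limits MonoidalCategory CartesianMonoidalCategory MonObj AlgebraicGeometry Opposite

namespace Groth.Agent.MagnetLib

open Magnet Magnet.MonAct

variable {S : Scheme.{u}} {M : Type} [AddCommGroup M] {N F : AddSubmonoid M} {X Y : Over S}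

theorem unitFace_unitFace (N : AddSubmonoid M) : unitFace (unitFace N) = unitFace N :=
  le_antisymm (unitFace_le _) fun x hx => by
    obtain ⟨hx', y, hy, e⟩ := hx
    exact ⟨⟨hx', y, hy, e⟩, y, ⟨hy, x, hx', by rw [add_comm, e]⟩, e⟩

/-- For a group the base point of the unit face is the unit. -/
theorem unitPt_eq (hF : ∀ m ∈ F, m ∈ unitFace F) (T : Over S) :
    Avg.unitPt F T = CartesianMonoidalCategory.lift (toUnit T ≫ η[AMonS S F]) (𝟙 T) := by
  rw [Avg.unitPt, lift_whiskerRight]
  congr 1
  refine mFn_ext fun m => ?_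
  rw [mFn_one, mFn_faceMap, dif_pos (hF m m.2), mFn_one]

/-- A family whose base point lies in an open stable subscheme lies in it. -/
theorem exists_lift_of_unitPt [AddGroup.FG M] (aX : MonAct (AMonS S M) X) (aY : MonAct (AMonS S M) Y) (f : X ⟶ Y)
    (hf : IsEquivariant aX aY f) [IsOpenImmersion f.left] (T : Over S) (v : (attr aY N).obj (op T))
    (h : ∀ t, (Avg.unitPt N T ≫ v.1).left t ∈ Set.range f.left) :
    ∃ l : (attr aX N).obj (op T), (eqvHom.postcomp (subAct S M N) f hf).app (op T) l = v := by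
  have : Mono f := (Over.forget _).mono_of_mono_map (inferInstanceAs (Mono f.left))
  have hv : v.1.left ⁻¹ᵁ f.left.opensRange = ⊤ :=
    Avg.eq_top_of_unitPt _ (preimage_le_of_equivariant aY aX _ f hf v.1 v.2) fun t => by
      change v.1.left ((Avg.unitPt N T).left t) ∈ Set.range f.left
      rw [← Scheme.Hom.comp_apply, ← Over.comp_left]
      exact h t
  have hr : Set.range v.1.left ⊆ Set.range f.left := by
    rintro _ ⟨p, rfl⟩
    exact (SetLike.ext_iff.1 hv p).2 trivial
  let l : AMonS S N ⊗ T ⟶ X := Over.homMk (IsOpenImmersion.lift f.left v.1.left hr) (by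
    rw [← Over.w f, IsOpenImmersion.lift_fac_assoc, Over.w v.1])
  have hl : l ≫ f = v.1 := Over.OverMorphism.ext (IsOpenImmersion.lift_fac _ _ _)
  have hlmem : IsEquivariant (Avg.actN N T) aX l := by
    have he := v.2
    have hf' := hf
    unfold IsEquivariant at he hf' ⊢
    rw [← cancel_mono f, Category.assoc, hl, he, Category.assoc, hf', ← MonoidalCategory.whiskerLeft_comp_assoc, hl]
  exact ⟨⟨l, hlmem⟩, Subtype.ext hl⟩

theorem range_subset_of_degrees [IsSeparated X.hom] (a : MonAct (AMonS S M) X) {W : S.Opens} (N L : AddSubmonoid M)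
    (hD : ∀ (C : Type u) [CommRing C] (c : Spec (CommRingCat.of C) ⟶ S), Set.range c ⊆ (W : Set S) →
        ∀ x : Over.mk c ⟶ X, x ∈ Set.range (fun φ => (attrToX a N).app (op (Over.mk c)) φ) →
          x ∈ Set.range (fun φ => (attrToX a L).app (op (Over.mk c)) φ))
    (T : Over S) (hT : ∀ t, T.hom t ∈ W) :
    Set.range (fun φ => (attrToX a N).app (op T) φ) ⊆ Set.range (fun φ => (attrToX a L).app (op T) φ) := by
  classical
  rintro x ⟨φ, rfl⟩
  choose U hU htU _ using fun t : T.left => exists_isAffineOpen_mem_and_subset (x := t) (U := ⊤) trivial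
  have : ∀ t, IsOpenImmersion (hU t).fromSpec := fun t => IsAffineOpen.isOpenImmersion_fromSpec _
  let 𝒰 : T.left.OpenCover := Scheme.Cover.mkOfCovers T.left (fun t => Spec Γ(T.left, U t))
    (fun t => (hU t).fromSpec) (fun t => ⟨t, (hU t).range_fromSpec.ge (htU t)⟩) this
  let x : T ⟶ X := (attrToX a N).app (op T) φ
  let R : Sieve T :=
    { arrows := fun V k => k ≫ x ∈ Set.range (fun ψ => (attrToX a L).app (op V) ψ)
      downward_closed := fun {V V' k} hk g => by
        obtain ⟨ψ, hψ⟩ := hk
        refine ⟨(attr a L).map g.op ψ, ?_⟩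
        change (attrToX a L).app (op V') ((attr a L).map g.op ψ) = (g ≫ k) ≫ x
        rw [Category.assoc, ← hψ, Pure.attrToX_map] }
  refine Pure.mem_range_of_local a (J := Scheme.zariskiTopology.over S)
    (fun Z => GrothendieckTopology.Subcanonical.isSheaf_of_isRepresentable _) L x R ?_ fun V k hk => hk
  rw [GrothendieckTopology.mem_over_iff]
  refine GrothendieckTopology.superset_covering _ ?_ 𝒰.mem_grothendieckTopology
  rw [Sieve.ofArrows, Sieve.generate_le_iff]
  rintro _ _ ⟨t⟩
  refine (Sieve.overEquiv_iff R (hU t).fromSpec).2 ?_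
  let k : Over.mk ((hU t).fromSpec ≫ T.hom) ⟶ T := Over.homMk (hU t).fromSpec rfl
  refine hD _ _ ?_ (k ≫ x) ?_
  · rintro _ ⟨z, rfl⟩
    exact hT _
  · exact ⟨(attr a N).map k.op φ, Pure.attrToX_map a N k φ⟩

/-- Over an affine open of the base an attractor is the attractor of a finitely generated magnet with the same units. -/
theorem exists_fg_magnet_local [AddGroup.FG M] [IsAffineHom X.hom] [LocallyOfFinitePresentation X.hom]
    (a : MonAct (AMonS S M) X) (N : AddSubmonoid M) {W : S.Opens} (hW : IsAffineOpen W) :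
    ∃ (L : AddSubmonoid M) (hLN : L ≤ N), L.FG ∧ IsFace L (unitFace N) ∧ ∀ (T : Over S), (∀ t, T.hom t ∈ W) →
      Function.Surjective (fun φ => (attrMap a hLN).app (op T) φ) := by
  classical
  have : Module.Finite ℤ M := Module.Finite.iff_addGroup_fg.2 inferInstance
  have : IsNoetherian ℤ M := isNoetherian_of_isNoetherianRing_of_finite ℤ M
  let Z := Avg.unitGrp N
  obtain ⟨s, hs⟩ := IsNoetherian.noetherian (AddSubgroup.toIntSubmodule Z)
  have hsZ : AddSubgroup.closure (s : Set M) = Z := by
    have := congrArg Submodule.toAddSubgroup hs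
    rwa [Submodule.span_int_eq_addSubgroupClosure, AddSubgroup.toIntSubmodule_toAddSubgroup] at this
  obtain ⟨D, hD⟩ := Pure.exists_degrees a hW
  let gen : Finset M := s ∪ s.image (fun m => -m) ∪ D.filter (fun m => m ∈ N)
  let L := AddSubmonoid.closure (gen : Set M)
  have hsF : ∀ m ∈ s, m ∈ Z := fun m hm => hsZ ▸ AddSubgroup.subset_closure hm
  have hle : L ≤ N := AddSubmonoid.closure_le.2 fun m hm => by
    simp only [gen, Finset.coe_union, Set.mem_union, Finset.mem_coe, Finset.mem_image, Finset.mem_filter] at hm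
    rcases hm with (hm | ⟨x, hx, rfl⟩) | hm
    · exact unitFace_le N (hsF m hm)
    · exact unitFace_le N (Z.neg_mem (hsF x hx))
    · exact hm.2
  have hF : unitFace N ≤ L := fun m hm => by
    have hm : m ∈ Z := hm
    rw [← hsZ, ← AddSubgroup.mem_toAddSubmonoid, AddSubgroup.closure_toAddSubmonoid] at hm
    refine AddSubmonoid.closure_mono (fun y hy => ?_) hm
    simp only [gen, Finset.coe_union, Set.mem_union, Finset.coe_image, Set.mem_image]
    rcases hy with hy | hy
    · exact Or.inl (Or.inl hy)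
    · exact Or.inl (Or.inr ⟨-y, hy, neg_neg y⟩)
  refine ⟨L, hle, ⟨gen, rfl⟩, ⟨hF, fun x hx y hy h => (isFace_unitFace N).mem_of_add_mem x (hle hx) y (hle hy) h⟩,
    fun T hT φ => ?_⟩
  obtain ⟨ψ, hψ⟩ := range_subset_of_degrees a N L (fun C _ c => hD N L (fun m hm hmN => AddSubmonoid.subset_closure
    (Finset.mem_coe.2 (Finset.mem_union_right _ (Finset.mem_filter.2 ⟨hm, hmN⟩)))) C c) T hT ⟨φ, rfl⟩
  exact ⟨ψ, attrToX_injective a N T ((attrToX_attrMap a hle T ψ).trans hψ)⟩

end Groth.Agent.MagnetLib
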