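import Groth.Agent.MagnetLib.Homotopy
import Groth.Agent.MagnetLib.A1Iso

/-!
# Translations of attractors

Points of `A(N)` translate the attractor `X^N`.  An additive weight on `N` hence makes a representing scheme a scheme
with an action of the affine line, contracting it to the attractor of the face of weight zero.
-/

set_option autoImplicit false
set_option backward.isDefEq.respectTransparency false
set_option maxHeartbeats 400000

universe u

noncomputable section

open CategoryTheory CategoryTheory.Limits MonoidalCategory CartesianMonoidalCategory MonObj AlgebraicGeometry Opposite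

namespace Groth.Agent.MagnetLib

open Magnet Magnet.MonAct

variable {S : Scheme.{u}} {M : Type} [AddCommMonoid M] {N F : AddSubmonoid M} {X : Over S}
  (a : MonAct (AMonS S M) X) {T : Over S}

/-- The translation of `A(N) ⊗ T` by a point `p` of `A(N)`. -/
def shiftMap (p : T ⟶ AMonS S N) : AMonS S N ⊗ T ⟶ AMonS S N ⊗ T :=
  CartesianMonoidalCategory.lift (fst _ _ * (snd _ _ ≫ p)) (snd _ _)

theorem lift_shiftMap {W Y : Over S} (p : T ⟶ AMonS S N) (n : W ⟶ AMonS S N) (t : W ⟶ T) (φ : _ ⟶ Y) :
    CartesianMonoidalCategory.lift n t ≫ shiftMap p ≫ φ = CartesianMonoidalCategory.lift (n * (t ≫ p)) t ≫ φ := by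
  simp only [shiftMap, comp_lift_assoc, MonObj.comp_mul, lift_fst, lift_snd, lift_snd_assoc]

attribute [local irreducible] shiftMap

theorem shift_mem (p : T ⟶ AMonS S N) (x : (attr a N).obj (op T)) :
    MonAct.IsEquivariant ((subAct S M N).prod (MonAct.trivial (AMonS S M) T)) a (shiftMap (T := T) p ≫ x.1) := by
  rw [mem_eqvHom_iff]
  intro W g n t
  refine (lift_shiftMap (T := T) p _ t x.1).trans (Eq.trans ?_
    (congrArg (fun m => CartesianMonoidalCategory.lift g m ≫ a.act) (lift_shiftMap (T := T) p n t x.1)).symm)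
  refine Eq.trans ?_ ((mem_eqvHom_iff x.1).1 x.2 W g (n * (t ≫ p)) t)
  congr 2
  have ha : ∀ m : W ⟶ AMonS S N, CartesianMonoidalCategory.lift g m ≫ (subAct S M N).act =
      (g ≫ AMonS.map S N.subtype) * m := fun m =>
    (lift_restrict_act (AMonS.map S N.subtype) (regular (AMonS S N)) g m).trans (lift_regular_act _ _)
  rw [ha, ha]
  exact _root_.mul_assoc _ _ _

/-- The translation of a point of the attractor. -/
def shift (p : T ⟶ AMonS S N) (x : (attr a N).obj (op T)) : (attr a N).obj (op T) :=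
  ⟨shiftMap p ≫ x.1, shift_mem a p x⟩

theorem shift_one (x : (attr a N).obj (op T)) : shift a (toUnit T ≫ η[AMonS S N]) x = x :=
  Subtype.ext (Magnet.hom_ext_lift₂ fun W n s => by
    change CartesianMonoidalCategory.lift n s ≫ shiftMap _ ≫ x.1 = _
    rw [lift_shiftMap]
    congr 2
    refine mFn_ext fun m => ?_
    rw [mFn_mul, mFn_comp, mFn_one, map_one, _root_.mul_one])

theorem shift_mul (p q : T ⟶ AMonS S N) (x : (attr a N).obj (op T)) : shift a (p * q) x = shift a p (shift a q x) :=
  Subtype.ext (Magnet.hom_ext_lift₂ fun W n s => by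
    change CartesianMonoidalCategory.lift n s ≫ shiftMap _ ≫ x.1 =
      CartesianMonoidalCategory.lift n s ≫ shiftMap p ≫ shiftMap q ≫ x.1
    rw [lift_shiftMap, lift_shiftMap, lift_shiftMap, MonObj.comp_mul]
    congr 2
    exact (_root_.mul_assoc _ _ _).symm)

theorem shift_natural {T' : Over S} (t : T' ⟶ T) (p : T ⟶ AMonS S N) (x : (attr a N).obj (op T)) :
    shift a (t ≫ p) ((attr a N).map t.op x) = (attr a N).map t.op (shift a p x) :=
  Subtype.ext (Magnet.hom_ext_lift₂ fun W n s => by
    change CartesianMonoidalCategory.lift n s ≫ shiftMap _ ≫ (AMonS S N ◁ t) ≫ x.1 =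
      CartesianMonoidalCategory.lift n s ≫ (AMonS S N ◁ t) ≫ shiftMap p ≫ x.1
    rw [lift_shiftMap, lift_whiskerLeft_assoc, lift_whiskerLeft_assoc, lift_shiftMap, Category.assoc])

/-- A translation which is one on the face does not move the projection to the face. -/
theorem attrFace_shift (hF : IsFace N F) (p : T ⟶ AMonS S N) (hp : ∀ m : N, (m : M) ∈ F → mFn p m = 1)
    (x : (attr a N).obj (op T)) :
    (attrFace a hF).app (op T) (shift a p x) = (attrFace a hF).app (op T) x :=
  Subtype.ext (Magnet.hom_ext_lift₂ fun W n s => by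
    change CartesianMonoidalCategory.lift n s ≫ (AMonS.faceMap S hF ▷ T) ≫ shiftMap p ≫ x.1 =
      CartesianMonoidalCategory.lift n s ≫ (AMonS.faceMap S hF ▷ T) ≫ x.1
    rw [lift_whiskerRight_assoc, lift_whiskerRight_assoc, lift_shiftMap]
    congr 2
    refine mFn_ext fun m => ?_
    rw [mFn_mul, mFn_faceMap, mFn_comp]
    by_cases h : (m : M) ∈ F
    · rw [hp m h, map_one, _root_.mul_one]
    · rw [dif_neg h, zero_mul])

/-- Translation by the characteristic function of the face is the projection to the face. -/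
theorem shift_indicator (hF : IsFace N F) (p : T ⟶ AMonS S N) (hp : ∀ m : N, (m : M) ∈ F → mFn p m = 1)
    (hp0 : ∀ m : N, (m : M) ∉ F → mFn p m = 0) (x : (attr a N).obj (op T)) :
    shift a p x = (attrMap a hF.le).app (op T) ((attrFace a hF).app (op T) x) :=
  Subtype.ext (Magnet.hom_ext_lift₂ fun W n s => by
    change CartesianMonoidalCategory.lift n s ≫ shiftMap p ≫ x.1 = CartesianMonoidalCategory.lift n s ≫
      (AMonS.map S (AddSubmonoid.inclusion hF.le) ▷ T) ≫ (AMonS.faceMap S hF ▷ T) ≫ x.1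
    rw [lift_shiftMap, lift_whiskerRight_assoc, lift_whiskerRight_assoc]
    congr 2
    refine mFn_ext fun m => ?_
    rw [mFn_mul, mFn_comp, mFn_faceMap]
    by_cases h : (m : M) ∈ F
    · rw [dif_pos h, hp m h, map_one, _root_.mul_one, mFn_map]
      rfl
    · rw [dif_neg h, hp0 m h, map_zero, mul_zero])

section Act

variable {Z : Over S} (eN : (attr a N).RepresentableBy Z) (e : N →+ ℕ)

/-- The action of the affine line on an attractor along a weight. -/
theorem exists_attrAct :
    ∃ A : MonAct (AMonS S ℕ) Z, ∀ (W : Over S) (g : W ⟶ AMonS S ℕ) (x : W ⟶ Z),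
      eN.homEquiv (CartesianMonoidalCategory.lift g x ≫ A.act) = shift a (g ≫ AMonS.map S e) (eN.homEquiv x) := by
  let act : AMonS S ℕ ⊗ Z ⟶ Z := eN.homEquiv.symm
    (shift a (fst _ _ ≫ AMonS.map S e) (eN.homEquiv (snd (AMonS S ℕ) Z)))
  have hact : ∀ (W : Over S) (g : W ⟶ AMonS S ℕ) (x : W ⟶ Z),
      eN.homEquiv (CartesianMonoidalCategory.lift g x ≫ act) = shift a (g ≫ AMonS.map S e) (eN.homEquiv x) := by
    intro W g x
    rw [eN.homEquiv_comp, Equiv.apply_symm_apply, ← shift_natural, ← eN.homEquiv_comp, lift_snd, ← Category.assoc, lift_fst]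
  refine ⟨MonAct.mk' act (fun W x => eN.homEquiv.injective ?_) (fun W g h x => eN.homEquiv.injective ?_), hact⟩
  · rw [hact, Hom.one_def, Category.assoc, IsMonHom.one_hom, shift_one]
  · rw [hact, hact, hact, MonObj.mul_comp, shift_mul]

variable {e} (hF : IsFace N F) (he : ∀ n : N, e n = 0 ↔ (n : M) ∈ F)

include he in
theorem exists_contraction {ZF : Over S} (eF : (attr a F).RepresentableBy ZF) (j : Z ⟶ ZF)
    (hj : ∀ (W : Over S) (z : W ⟶ Z), eF.homEquiv (z ≫ j) = (attrFace a hF).app (op W) (eN.homEquiv z)) :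
    ∃ (A : MonAct (AMonS S ℕ) Z) (σ : ZF ⟶ Z), σ ≫ j = 𝟙 ZF ∧ A1.retr A = j ≫ σ ∧ A.act ≫ j = snd _ _ ≫ j := by
  obtain ⟨A, hA⟩ := exists_attrAct a eN e
  let σ : ZF ⟶ Z := eN.homEquiv.symm ((attrMap a hF.le).app (op ZF) (eF.homEquiv (𝟙 ZF)))
  have hσ : ∀ (W : Over S) (w : W ⟶ ZF), eN.homEquiv (w ≫ σ) = (attrMap a hF.le).app (op W) (eF.homEquiv w) := by
    intro W w
    rw [eN.homEquiv_comp, Equiv.apply_symm_apply]
    conv_rhs => rw [← Category.comp_id w, eF.homEquiv_comp]
    exact (ConcreteCategory.congr_hom ((attrMap a hF.le).naturality w.op) _).symm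
  refine ⟨A, σ, eF.homEquiv.injective ?_, eN.homEquiv.injective ?_, eF.homEquiv.injective ?_⟩
  · have h : eN.homEquiv σ = (attrMap a hF.le).app (op ZF) (eF.homEquiv (𝟙 ZF)) := by
      rw [← hσ ZF (𝟙 ZF), Category.id_comp]
    rw [hj, h]
    exact ConcreteCategory.congr_hom (congrArg (fun ζ => ζ.app (op ZF)) (attrMap_comp_attrFace a hF)) _
  · rw [hσ Z j]
    have h : eF.homEquiv j = (attrFace a hF).app (op Z) (eN.homEquiv (𝟙 Z)) := by
      rw [← hj, Category.id_comp]
    rw [h, A1.retr, hA]
    refine shift_indicator a hF _ (fun m hm => ?_) (fun m hm => ?_) _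
    · rw [mFn_map, A1.mFn_zPt, (he m).2 hm, pow_zero]
    · rw [mFn_map, A1.mFn_zPt, zero_pow fun h0 => hm ((he m).1 h0)]
  · rw [hj, hj]
    have h : eN.homEquiv A.act = shift a (fst _ _ ≫ AMonS.map S e) (eN.homEquiv (snd (AMonS S ℕ) Z)) := by
      have := hA _ (fst (AMonS S ℕ) Z) (snd (AMonS S ℕ) Z)
      rwa [lift_fst_snd, Category.id_comp] at this
    rw [h]
    refine attrFace_shift a hF _ (fun m hm => ?_) _
    rw [mFn_map, (he m).2 hm, mFn_zero]

end Act

end Groth.Agent.MagnetLib
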