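import Groth.Agent.FlatMisc.SpecPushout

/-!
# Averaging a family of maps that is constant modulo a square-zero ideal

`C → R` has a `C`-linear retraction `r`, `J ⊆ C` has square zero and `F : Spec R → X` is constant modulo `J`, equal
to `x : Spec (C/J) → X`. Then `r` restricted to the subring `C + JR` is a ring map and `F` descends to it; composing
gives the average `Spec C → X`.
-/

set_option autoImplicit false

universe u

open CategoryTheory AlgebraicGeometry Limits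

noncomputable section

namespace Groth.Agent.MagnetLib.Avg

variable {C R : Type u} [CommRing C] [CommRing R] (ι₀ : C →+* R) (J : Ideal C)

/-- The spectrum of a fibre product along a surjection, in terms of ring maps. -/
theorem isPushout_of_surjective {D B A' A : Type u} [CommRing D] [CommRing B] [CommRing A'] [CommRing A]
    (β : B →+* A) (α : A' →+* A) (p : D →+* B) (q : D →+* A') (hα : Function.Surjective α)
    (hw : β.comp p = α.comp q) (h : ∀ b a', β b = α a' → ∃! d, p d = b ∧ q d = a') :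
    IsPushout (Spec.map (CommRingCat.ofHom β)) (Spec.map (CommRingCat.ofHom α))
      (Spec.map (CommRingCat.ofHom p)) (Spec.map (CommRingCat.ofHom q)) := by
  let _ : Algebra D B := p.toAlgebra
  let _ : Algebra D A' := q.toAlgebra
  let _ : Algebra B A := β.toAlgebra
  let _ : Algebra A' A := α.toAlgebra
  let _ : Algebra D A := (α.comp q).toAlgebra
  have : IsScalarTower D A' A := .of_algebraMap_eq fun _ => rfl
  have : IsScalarTower D B A := .of_algebraMap_eq fun a => (RingHom.congr_fun hw a).symm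
  exact FlatMisc.SpecPushout.isPushout (B' := D) (B := B) (A' := A') (A := A) ⟨hα, h⟩

/-- The map `C/J → R/JR`. -/
abbrev quotMap : C ⧸ J →+* R ⧸ J.map ι₀ := Ideal.quotientMap _ ι₀ Ideal.le_comap_map

/-- The subring of elements congruent to constants. -/
def almostConst : Subring R :=
  Subring.comap (Ideal.Quotient.mk (J.map ι₀)) (quotMap ι₀ J).range

variable {ι₀ J}

theorem mem_almostConst {h : R} : h ∈ almostConst ι₀ J ↔ ∃ c, h - ι₀ c ∈ J.map ι₀ := by
  simp only [almostConst, Subring.mem_comap, RingHom.mem_range]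
  constructor
  · rintro ⟨c', hc⟩
    obtain ⟨c, rfl⟩ := Ideal.Quotient.mk_surjective c'
    rw [Ideal.quotientMap_mk] at hc
    exact ⟨c, Ideal.Quotient.eq.1 hc.symm⟩
  · rintro ⟨c, hc⟩
    exact ⟨Ideal.Quotient.mk J c, by rw [Ideal.quotientMap_mk]; exact (Ideal.Quotient.eq.2 hc).symm⟩

variable (r : R →+ C) (hr1 : ∀ c x, r (ι₀ c * x) = c * r x) (hrι : ∀ c, r (ι₀ c) = c)

include hr1 in
theorem retr_mem {x : R} (hx : x ∈ J.map ι₀) : r x ∈ J := by
  obtain ⟨hx⟩ : Nonempty (x ∈ Ideal.span (ι₀ '' (J : Set C))) := ⟨hx⟩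
  refine (Submodule.span_induction (p := fun x _ => ∀ y, r (x * y) ∈ J) ?_ ?_ ?_ ?_ hx) 1 |> fun h => by simpa using h
  · rintro _ ⟨c, hc, rfl⟩ y
    rw [hr1]
    exact J.mul_mem_right _ hc
  · intro y; simp
  · intro a b _ _ ha hb y
    rw [add_mul, map_add]
    exact add_mem (ha y) (hb y)
  · intro a b _ hb y
    rw [smul_eq_mul, mul_comm a b, mul_assoc]
    exact hb _

include hr1 hrι in
theorem map_mul_almostConst (hJ : J ^ 2 = ⊥) (a b : almostConst ι₀ J) :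
    r ((a : R) * b) = r a * r b := by
  obtain ⟨c, hc⟩ := mem_almostConst.1 a.2
  obtain ⟨d, hd⟩ := mem_almostConst.1 b.2
  have hjj : ∀ x ∈ J.map ι₀, ∀ y ∈ J.map ι₀, x * y = 0 := fun x hx y hy => by
    have := Ideal.mul_mem_mul hx hy
    rwa [← Ideal.map_mul, ← sq, hJ, Ideal.map_bot, Ideal.mem_bot] at this
  have hjj' : ∀ x ∈ J, ∀ y ∈ J, x * y = 0 := fun x hx y hy => by
    have := Ideal.mul_mem_mul hx hy
    rwa [← sq, hJ, Ideal.mem_bot] at this
  obtain ⟨j, hj, ha⟩ : ∃ j ∈ J.map ι₀, (a : R) = ι₀ c + j := ⟨_, hc, by ring⟩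
  obtain ⟨j', hj', hb⟩ : ∃ j ∈ J.map ι₀, (b : R) = ι₀ d + j := ⟨_, hd, by ring⟩
  have e : (ι₀ c + j) * (ι₀ d + j') = ι₀ (c * d) + ι₀ c * j' + ι₀ d * j := by
    rw [map_mul]
    linear_combination hjj j hj j' hj'
  rw [ha, hb, e]
  simp only [map_add, hr1, hrι]
  linear_combination -hjj' _ (retr_mem r hr1 hj) _ (retr_mem r hr1 hj')

variable (hJ : J ^ 2 = ⊥)

/-- The retraction as a ring map. -/
def retrHom : almostConst ι₀ J →+* C where
  toFun a := r a
  map_one' := by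
    show r (1 : R) = 1
    rw [← map_one ι₀, hrι]
  map_mul' := map_mul_almostConst r hr1 hrι hJ
  map_zero' := map_zero r
  map_add' _ _ := map_add r _ _

variable (ι₀ J) in
/-- The constants. -/
def const : C →+* almostConst ι₀ J :=
  ι₀.codRestrict _ fun c => mem_almostConst.2 ⟨c, by simp⟩

variable {X : Scheme.{u}}

/-- `ℓ` is the average of `F` with value `x` modulo `J`. -/
def IsAvg (F : Spec (CommRingCat.of R) ⟶ X) (x : Spec (CommRingCat.of (C ⧸ J)) ⟶ X)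
    (ℓ : Spec (CommRingCat.of C) ⟶ X) : Prop :=
  ∃ ψ : Spec (CommRingCat.of (almostConst ι₀ J)) ⟶ X,
    Spec.map (CommRingCat.ofHom (almostConst ι₀ J).subtype) ≫ ψ = F ∧
    Spec.map (CommRingCat.ofHom ((Ideal.Quotient.mk J).comp (retrHom r hr1 hrι hJ))) ≫ ψ = x ∧
    Spec.map (CommRingCat.ofHom (retrHom r hr1 hrι hJ)) ≫ ψ = ℓ

include hr1 hrι in
theorem quot_retr (a : almostConst ι₀ J) :
    quotMap ι₀ J (Ideal.Quotient.mk J (r a)) = Ideal.Quotient.mk (J.map ι₀) (a : R) := by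
  obtain ⟨c, hc⟩ := mem_almostConst.1 a.2
  obtain ⟨j, hj, ha⟩ : ∃ j ∈ J.map ι₀, (a : R) = ι₀ c + j := ⟨_, hc, by ring⟩
  rw [ha, map_add, hrι, map_add, Ideal.Quotient.eq_zero_iff_mem.2 (retr_mem r hr1 hj), add_zero,
    Ideal.quotientMap_mk, map_add, Ideal.Quotient.eq_zero_iff_mem.2 hj, add_zero]

include hr1 hrι in
theorem isPushout_almostConst :
    IsPushout (Spec.map (CommRingCat.ofHom (quotMap ι₀ J))) (Spec.map (CommRingCat.ofHom (Ideal.Quotient.mk (J.map ι₀))))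
      (Spec.map (CommRingCat.ofHom ((Ideal.Quotient.mk J).comp (retrHom r hr1 hrι hJ))))
      (Spec.map (CommRingCat.ofHom (almostConst ι₀ J).subtype)) := by
  refine isPushout_of_surjective _ _ _ _ Ideal.Quotient.mk_surjective
    (RingHom.ext fun a => quot_retr r hr1 hrι a) fun b a' h => ?_
  obtain ⟨c, rfl⟩ := Ideal.Quotient.mk_surjective b
  rw [Ideal.quotientMap_mk] at h
  have hj : a' - ι₀ c ∈ J.map ι₀ := Ideal.Quotient.eq.1 h.symm
  refine ⟨⟨a', mem_almostConst.2 ⟨c, hj⟩⟩, ⟨?_, rfl⟩, fun y hy => Subtype.ext hy.2⟩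
  change Ideal.Quotient.mk J (r a') = Ideal.Quotient.mk J c
  have := retr_mem r hr1 hj
  rw [map_sub, hrι] at this
  exact Ideal.Quotient.eq.2 this

theorem exists_isAvg {F : Spec (CommRingCat.of R) ⟶ X} {x : Spec (CommRingCat.of (C ⧸ J)) ⟶ X}
    (h : Spec.map (CommRingCat.ofHom (Ideal.Quotient.mk (J.map ι₀))) ≫ F =
      Spec.map (CommRingCat.ofHom (quotMap ι₀ J)) ≫ x) :
    ∃ ℓ, IsAvg r hr1 hrι hJ F x ℓ :=
  ⟨_, (isPushout_almostConst r hr1 hrι hJ).desc x F h.symm, IsPushout.inr_desc _ _ _ _,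
    IsPushout.inl_desc _ _ _ _, rfl⟩

variable {r hr1 hrι hJ} {F : Spec (CommRingCat.of R) ⟶ X} {x : Spec (CommRingCat.of (C ⧸ J)) ⟶ X}
  {ℓ : Spec (CommRingCat.of C) ⟶ X}

theorem IsAvg.unique {ℓ' : Spec (CommRingCat.of C) ⟶ X} (h : IsAvg r hr1 hrι hJ F x ℓ)
    (h' : IsAvg r hr1 hrι hJ F x ℓ') : ℓ = ℓ' := by
  obtain ⟨ψ, h1, h2, rfl⟩ := h
  obtain ⟨ψ', h1', h2', rfl⟩ := h'
  congr 1
  exact (isPushout_almostConst r hr1 hrι hJ).hom_ext (h2.trans h2'.symm) (h1.trans h1'.symm)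

theorem IsAvg.comp_quot (h : IsAvg r hr1 hrι hJ F x ℓ) :
    Spec.map (CommRingCat.ofHom (Ideal.Quotient.mk J)) ≫ ℓ = x := by
  obtain ⟨ψ, -, h2, rfl⟩ := h
  rw [← Category.assoc, ← Spec.map_comp, ← h2]
  rfl

theorem IsAvg.comp {Y : Scheme.{u}} (h : IsAvg r hr1 hrι hJ F x ℓ) (f : X ⟶ Y) :
    IsAvg r hr1 hrι hJ (F ≫ f) (x ≫ f) (ℓ ≫ f) := by
  obtain ⟨ψ, h1, h2, rfl⟩ := h
  exact ⟨ψ ≫ f, by rw [reassoc_of% h1], by rw [reassoc_of% h2], (Category.assoc _ _ _).symm⟩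

theorem isAvg_const (f : Spec (CommRingCat.of C) ⟶ X) :
    IsAvg r hr1 hrι hJ (Spec.map (CommRingCat.ofHom ι₀) ≫ f)
      (Spec.map (CommRingCat.ofHom (Ideal.Quotient.mk J)) ≫ f) f := by
  have e : (retrHom r hr1 hrι hJ).comp (const ι₀ J) = RingHom.id C := RingHom.ext hrι
  refine ⟨Spec.map (CommRingCat.ofHom (const ι₀ J)) ≫ f, ?_, ?_, ?_⟩
  · rw [← Category.assoc, ← Spec.map_comp]
    rfl
  · rw [← Category.assoc, ← Spec.map_comp, ← CommRingCat.ofHom_comp, RingHom.comp_assoc, e, RingHom.comp_id]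
  · rw [← Category.assoc, ← Spec.map_comp, ← CommRingCat.ofHom_comp, e]
    simp

variable {C' R' : Type u} [CommRing C'] [CommRing R'] {ι₀' : C' →+* R'} {J' : Ideal C'} {r' : R' →+ C'}
  {hr1' : ∀ c x, r' (ι₀' c * x) = c * r' x} {hrι' : ∀ c, r' (ι₀' c) = c} {hJ' : J' ^ 2 = ⊥}

/-- Averaging commutes with base change. -/
theorem IsAvg.map (h : IsAvg r hr1 hrι hJ F x ℓ) (φ : C →+* C') (φR : R →+* R')
    (hι : φR.comp ι₀ = ι₀'.comp φ) (hφ : J ≤ J'.comap φ) (hr : ∀ a, r' (φR a) = φ (r a)) :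
    IsAvg r' hr1' hrι' hJ' (Spec.map (CommRingCat.ofHom φR) ≫ F)
      (Spec.map (CommRingCat.ofHom (Ideal.quotientMap J' φ hφ)) ≫ x)
      (Spec.map (CommRingCat.ofHom φ) ≫ ℓ) := by
  obtain ⟨ψ, h1, h2, rfl⟩ := h
  have hmap : ∀ a : almostConst ι₀ J, φR a ∈ almostConst ι₀' J' := fun a => by
    obtain ⟨c, hc⟩ := mem_almostConst.1 a.2
    refine mem_almostConst.2 ⟨φ c, ?_⟩
    have e : ι₀' (φ c) = φR (ι₀ c) := (RingHom.congr_fun hι c).symm
    rw [e, ← map_sub]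
    have hle : (J.map ι₀).map φR ≤ J'.map ι₀' := by
      rw [Ideal.map_map, hι, ← Ideal.map_map]
      exact Ideal.map_mono (Ideal.map_le_iff_le_comap.2 hφ)
    exact hle (Ideal.mem_map_of_mem φR hc)
  let φD : almostConst ι₀ J →+* almostConst ι₀' J' := (φR.comp (almostConst ι₀ J).subtype).codRestrict _ hmap
  have e : (retrHom r' hr1' hrι' hJ').comp φD = φ.comp (retrHom r hr1 hrι hJ) := RingHom.ext fun a => hr a
  refine ⟨Spec.map (CommRingCat.ofHom φD) ≫ ψ, ?_, ?_, ?_⟩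
  · rw [← h1, ← Category.assoc, ← Category.assoc, ← Spec.map_comp, ← Spec.map_comp]
    rfl
  · rw [← h2, ← Category.assoc, ← Category.assoc, ← Spec.map_comp, ← Spec.map_comp, ← CommRingCat.ofHom_comp,
      ← CommRingCat.ofHom_comp, RingHom.comp_assoc, e, ← RingHom.comp_assoc, ← RingHom.comp_assoc,
      Ideal.quotientMap_comp_mk]
  · rw [← Category.assoc, ← Category.assoc, ← Spec.map_comp, ← Spec.map_comp, ← CommRingCat.ofHom_comp,
      ← CommRingCat.ofHom_comp, e]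

end Groth.Agent.MagnetLib.Avg
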