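import Groth.Agent.MagnetLib.AvgSch

/-!
# Equivariant lifts along square-zero thickenings
-/

set_option autoImplicit false
set_option backward.isDefEq.respectTransparency false

universe u

noncomputable section

open CategoryTheory CategoryTheory.Limits MonoidalCategory CartesianMonoidalCategory MonObj AlgebraicGeometry Opposite

namespace Groth.Agent.MagnetLib.Avg

open Magnet Magnet.MonAct

variable {S : Scheme.{u}} {M : Type} [AddCommGroup M] {X Y W W' : Over S}

/-- The inverse of the group. -/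
abbrev ngv : AMonS S M ⟶ AMonS S M := AMonS.map S (-AddMonoidHom.id M)

theorem mFn_ngv (g : W ⟶ AMonS S M) (m : M) : mFn (g ≫ ngv) m = mFn g (-m) := mFn_map g _ m

theorem ngv_mul_cancel (g : W ⟶ AMonS S M) : (g ≫ ngv) * g = 1 :=
  mFn_ext fun m => by
    rw [mFn_mul, mFn_ngv, ← mFn_add, neg_add_cancel, mFn_zero, Hom.one_def, mFn_one]

theorem ngv_twist (g h : W ⟶ AMonS S M) : h * ((g * h) ≫ ngv) = g ≫ ngv :=
  mFn_ext fun m => by
    rw [mFn_mul, mFn_ngv, mFn_ngv, mFn_mul, mul_left_comm, ← mFn_add h, add_neg_cancel, mFn_zero, _root_.mul_one]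

theorem act_cancel (a : MonAct (AMonS S M) X) (g : W ⟶ AMonS S M) (x : W ⟶ X) :
    CartesianMonoidalCategory.lift (g ≫ ngv) (CartesianMonoidalCategory.lift g x ≫ a.act) ≫ a.act = x := by
  rw [← a.lift_mul_act, ngv_mul_cancel, a.lift_one_act]

/-- `(g, b) ↦ g⁻¹ • l(g • b)`. -/
def twist (w : MonAct (AMonS S M) W) (a : MonAct (AMonS S M) X) (l : W ⟶ X) : AMonS S M ⊗ W ⟶ X :=
  CartesianMonoidalCategory.lift (fst _ _ ≫ ngv) (w.act ≫ l) ≫ a.act

theorem lift_twist (w : MonAct (AMonS S M) W) (a : MonAct (AMonS S M) X) (l : W ⟶ X) (g : W' ⟶ AMonS S M)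
    (b : W' ⟶ W) :
    CartesianMonoidalCategory.lift g b ≫ twist w a l =
      CartesianMonoidalCategory.lift (g ≫ ngv) (CartesianMonoidalCategory.lift g b ≫ w.act ≫ l) ≫ a.act := by
  simp only [twist, comp_lift_assoc, lift_fst_assoc]

theorem twist_eq {Z : Over S} (v : MonAct (AMonS S M) Z) (w : MonAct (AMonS S M) W) (a : MonAct (AMonS S M) X)
    (l : W ⟶ X) (t : Z ⟶ W) (ht : IsEquivariant v w t) (hl : IsEquivariant v a (t ≫ l)) :
    (AMonS S M ◁ t) ≫ twist w a l = snd _ _ ≫ t ≫ l := by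
  refine Magnet.hom_ext_lift₂ fun T g z => ?_
  rw [lift_whiskerLeft_assoc, lift_twist, lift_snd_assoc]
  have e : CartesianMonoidalCategory.lift g (z ≫ t) ≫ w.act ≫ l = CartesianMonoidalCategory.lift g (z ≫ t ≫ l) ≫ a.act := by
    rw [← Category.assoc, ← (isEquivariant_iff v w t).1 ht T g z, Category.assoc, ← Category.assoc,
      Category.assoc]
    exact (isEquivariant_iff v a (t ≫ l)).1 hl T g z
  rw [e, act_cancel]

theorem twist_comp (w : MonAct (AMonS S M) W) (a : MonAct (AMonS S M) X) (b : MonAct (AMonS S M) Y) (l : W ⟶ X)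
    (f : X ⟶ Y) (hf : IsEquivariant a b f) (hl : IsEquivariant w b (l ≫ f)) :
    twist w a l ≫ f = snd _ _ ≫ l ≫ f := by
  refine Magnet.hom_ext_lift₂ fun T g z => ?_
  rw [← Category.assoc, lift_twist, lift_snd_assoc, Category.assoc, (isEquivariant_iff a b f).1 hf]
  simp only [Category.assoc]
  rw [← Category.assoc z, (isEquivariant_iff w b (l ≫ f)).1 hl T g z, act_cancel, Category.assoc]

variable {C : Type u} [CommRing C] {c : Spec (CommRingCat.of C) ⟶ S}

/-- The closed subscheme of the thickening. -/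
abbrev quotι (J : Ideal C) : Over.mk (Spec.map (CommRingCat.ofHom (Ideal.Quotient.mk J)) ≫ c) ⟶ Over.mk c :=
  Over.homMk (Spec.map (CommRingCat.ofHom (Ideal.Quotient.mk J))) rfl

theorem exists_equivariant_lift (w : MonAct (AMonS S M) (Over.mk c)) (a : MonAct (AMonS S M) X) (J : Ideal C)
    (hJ : J ^ 2 = ⊥) (l : Over.mk c ⟶ X)
    (hstab : ∀ (T : Over S) (g : T ⟶ AMonS S M) (b : T ⟶ Over.mk (Spec.map (CommRingCat.ofHom (Ideal.Quotient.mk J)) ≫ c)),
      ∃ b', b' ≫ quotι J = CartesianMonoidalCategory.lift g (b ≫ quotι J) ≫ w.act)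
    (hx : ∀ (T : Over S) (g : T ⟶ AMonS S M) (b : T ⟶ Over.mk (Spec.map (CommRingCat.ofHom (Ideal.Quotient.mk J)) ≫ c)),
      CartesianMonoidalCategory.lift g (b ≫ quotι J) ≫ w.act ≫ l =
        CartesianMonoidalCategory.lift g (b ≫ quotι J ≫ l) ≫ a.act) :
    ∃ ℓ : Over.mk c ⟶ X, IsEquivariant w a ℓ ∧ quotι J ≫ ℓ = quotι J ≫ l ∧
      (∀ (Y : Over S) (b : MonAct (AMonS S M) Y) (f : X ⟶ Y), IsEquivariant a b f → IsEquivariant w b (l ≫ f) →
        ℓ ≫ f = l ≫ f) ∧
      (∀ (C₁ : Type u) [CommRing C₁] (c₁ : Spec (CommRingCat.of C₁) ⟶ S) (φ : C →+* C₁) (t : Over.mk c₁ ⟶ Over.mk c),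
        t.left = Spec.map (CommRingCat.ofHom φ) → ∀ v : MonAct (AMonS S M) (Over.mk c₁),
        IsEquivariant v w t → IsEquivariant v a (t ≫ l) → t ≫ ℓ = t ≫ l) := by
  have hJ' : (J.map (incl M C)) ^ 2 = ⊥ := by rw [← Ideal.map_pow, hJ, Ideal.map_bot]
  let bb : gOver M C c ⟶ Over.mk c := gc M C c ≫ snd _ _
  let h : gOver M C c ⟶ AMonS S M := gc M C c ≫ fst _ _
  have hgc : gc M C c = CartesianMonoidalCategory.lift h bb := (lift_comp_fst_snd _).symm
  let iQ : Over.mk (Spec.map (CommRingCat.ofHom (Ideal.Quotient.mk (J.map (incl M C)))) ≫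
      Spec.map (CommRingCat.ofHom (incl M C)) ≫ c) ⟶ gOver M C c := quotι (J.map (incl M C))
  let bQ : Over.mk (Spec.map (CommRingCat.ofHom (Ideal.Quotient.mk (J.map (incl M C)))) ≫
      Spec.map (CommRingCat.ofHom (incl M C)) ≫ c) ⟶
      Over.mk (Spec.map (CommRingCat.ofHom (Ideal.Quotient.mk J)) ≫ c) :=
    Over.homMk (Spec.map (CommRingCat.ofHom (quotMap (incl M C) J))) (by
      change Spec.map _ ≫ Spec.map _ ≫ c = Spec.map _ ≫ Spec.map _ ≫ c
      rw [← Category.assoc, ← Category.assoc, ← Spec.map_comp, ← Spec.map_comp, ← CommRingCat.ofHom_comp,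
        ← CommRingCat.ofHom_comp, Ideal.quotientMap_comp_mk])
  have hbQ : bQ ≫ quotι J = iQ ≫ bb := by
    refine Over.OverMorphism.ext ?_
    rw [Over.comp_left, Over.comp_left, gc_snd]
    change Spec.map _ ≫ Spec.map _ = Spec.map _ ≫ Spec.map _
    rw [← Spec.map_comp, ← Spec.map_comp, ← CommRingCat.ofHom_comp, ← CommRingCat.ofHom_comp,
      Ideal.quotientMap_comp_mk]
  have hlQ : iQ ≫ gc M C c = CartesianMonoidalCategory.lift (iQ ≫ h) (bQ ≫ quotι J) := by
    rw [hgc, comp_lift, hbQ]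
  have hF : ConstMod J (twist w a l) := by
    refine ⟨(quotι J ≫ l).left, ?_⟩
    suffices iQ ≫ gc M C c ≫ twist w a l = bQ ≫ quotι J ≫ l from congrArg CommaMorphism.left this
    rw [← Category.assoc iQ, hlQ, lift_twist, hx, act_cancel]
  obtain ⟨ℓ, hℓ⟩ := exists_av hJ hF
  let e : gOver M C c ⟶ Over.mk c := gc M C c ≫ w.act
  let φe : C →+* gRing M C := (Spec.preimage e.left).hom
  have hφe : e.left = Spec.map (CommRingCat.ofHom φe) := (Spec.map_preimage _).symm
  have hφ : J ≤ (J.map (incl M C)).comap φe := by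
    obtain ⟨b', hb'⟩ := hstab _ (iQ ≫ h) bQ
    rw [← hlQ, Category.assoc] at hb'
    have h1 : (Spec.preimage b'.left) = Spec.preimage b'.left := rfl
    have h2 : CommRingCat.ofHom φe ≫ CommRingCat.ofHom (Ideal.Quotient.mk (J.map (incl M C))) =
        CommRingCat.ofHom (Ideal.Quotient.mk J) ≫ Spec.preimage b'.left := by
      apply Spec.map_injective
      rw [Spec.map_comp, Spec.map_comp, Spec.map_preimage, ← hφe]
      exact (congrArg CommaMorphism.left hb').symm
    intro j hj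
    rw [Ideal.mem_comap, ← Ideal.Quotient.eq_zero_iff_mem]
    refine (congr(($h2).hom j)).trans ?_
    change (Spec.preimage b'.left).hom (Ideal.Quotient.mk J j) = 0
    rw [Ideal.Quotient.eq_zero_iff_mem.2 hj, map_zero]
  refine ⟨ℓ, ?_, ?_, fun Y b f hf hlf => ?_, fun C₁ _ c₁ φ t ht v hv hvl => ?_⟩
  · unfold IsEquivariant
    rw [← cancel_epi (gc M C c), ← Category.assoc]
    have h1 := av_map (hJ' := hJ') hJ hℓ φe hφ e hφe
    have h2 : Av (M := M) hJ' ((AMonS S M ◁ bb) ≫ twist w a l) (bb ≫ ℓ) :=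
      av_map hJ hℓ (incl M C) Ideal.le_comap_map bb (gc_snd M C c)
    have h3 := av_comp hJ' (av_lift hJ' (av_const (M := M) hJ' h) (av_translate hJ' h2 h)) a.act
    have e' : (AMonS S M ◁ e) ≫ twist w a l = CartesianMonoidalCategory.lift (snd _ _ ≫ h)
        (CartesianMonoidalCategory.lift (fst _ _ * (snd _ _ ≫ h)) (snd _ _) ≫ (AMonS S M ◁ bb) ≫ twist w a l) ≫ a.act := by
      refine Magnet.hom_ext_lift₂ fun T g z => ?_
      have hτ : CartesianMonoidalCategory.lift g z ≫ CartesianMonoidalCategory.lift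
          (fst _ _ * (snd _ _ ≫ h)) (snd _ _) = CartesianMonoidalCategory.lift (g * (z ≫ h)) z := by
        simp only [comp_lift, MonObj.comp_mul, lift_fst, lift_snd, lift_snd_assoc]
      rw [lift_whiskerLeft_assoc, lift_twist, comp_lift_assoc, lift_snd_assoc,
        ← Category.assoc (CartesianMonoidalCategory.lift g z), hτ, lift_whiskerLeft_assoc, lift_twist]
      rw [← a.lift_mul_act, ngv_twist]
      have : z ≫ e = CartesianMonoidalCategory.lift (z ≫ h) (z ≫ bb) ≫ w.act := by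
        rw [← comp_lift, Category.assoc, ← hgc]
      rw [this, ← Category.assoc (CartesianMonoidalCategory.lift g _), ← w.lift_mul_act, Category.assoc]
    rw [e'] at h1
    rw [show (gc M C c ≫ w.act) ≫ ℓ = CartesianMonoidalCategory.lift h (bb ≫ ℓ) ≫ a.act from av_unique hJ' h1 h3,
      hgc, lift_whiskerLeft_assoc]
  · refine Over.OverMorphism.ext ?_
    have h1 := av_comp_quot hJ hℓ
    have hu : J.map (incl M C) ≤ J.comap (unitEval M C) := by
      rw [Ideal.map_le_iff_le_comap, Ideal.comap_comap, unitEval_incl, Ideal.comap_id]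
    have hs : (Ideal.quotientMap J (unitEval M C) hu).comp (quotMap (incl M C) J) = RingHom.id _ := by
      refine Ideal.Quotient.ringHom_ext ?_
      rw [RingHom.comp_assoc, Ideal.quotientMap_comp_mk, ← RingHom.comp_assoc, Ideal.quotientMap_comp_mk,
        RingHom.comp_assoc, unitEval_incl, RingHom.comp_id, RingHom.id_comp]
    have : IsSplitEpi (Spec.map (CommRingCat.ofHom (quotMap (incl M C) J))) :=
      ⟨⟨⟨Spec.map (CommRingCat.ofHom (Ideal.quotientMap J (unitEval M C) hu)), by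
        rw [← Spec.map_comp, ← CommRingCat.ofHom_comp, hs]; exact Spec.map_id _⟩⟩⟩
    rw [← cancel_epi (Spec.map (CommRingCat.ofHom (quotMap (incl M C) J)))]
    refine h1.symm.trans ?_
    have h2 : iQ ≫ gc M C c ≫ twist w a l = bQ ≫ quotι J ≫ l := by
      rw [← Category.assoc iQ, hlQ, lift_twist, hx, act_cancel]
    exact congrArg CommaMorphism.left h2
  · exact av_unique (M := M) hJ (av_comp hJ hℓ f) (twist_comp w a b l f hf hlf ▸ av_const hJ (l ≫ f))
  · have hJ₁ : (J.map φ) ^ 2 = ⊥ := by rw [← Ideal.map_pow, hJ, Ideal.map_bot]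
    exact av_unique (M := M) hJ₁ (av_map hJ hℓ φ Ideal.le_comap_map t ht)
      (twist_eq v w a l t hv hvl ▸ av_const hJ₁ (t ≫ l))

end Groth.Agent.MagnetLib.Avg
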