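import Groth.Agent.GrpScheme.ClosedRepProd
import Mathlib.AlgebraicGeometry.Sites.BigZariski
import Mathlib.CategoryTheory.Sites.SubcanonicalOver
import Mathlib.CategoryTheory.Monoidal.Cartesian.Over
import Mathlib.LinearAlgebra.TensorProduct.Tower

/-!
# The locus where a family extends along `Spec P' → Spec P` is closed

`k` a ring, `S` over `Spec k`, `α : P → P'` a split injection of `k`-algebras with `P'` free, and
`o : (Spec P' ×_k S) ×_S X → X` with `X` affine over `S`.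
-/

set_option autoImplicit false
set_option backward.isDefEq.respectTransparency false

universe u

noncomputable section

open CategoryTheory CategoryTheory.Limits MonoidalCategory CartesianMonoidalCategory AlgebraicGeometry Opposite
open scoped TensorProduct

namespace Groth.Agent.MagnetLib.Extend

variable {k : Type u} [CommRing k] {S : Scheme.{u}} (g : S ⟶ Spec (CommRingCat.of k))

/-- `Spec P ×_k S`. -/
abbrev Bo (P : Type u) [CommRing P] [Algebra k P] : Over S :=
  Over.mk (pullback.snd (Spec.map (CommRingCat.ofHom (algebraMap k P))) g)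

section Coord

variable (P : Type u) [CommRing P] [Algebra k P] {C : Type u} [CommRing C] [Algebra k C]
  (c : Spec (CommRingCat.of C) ⟶ S) (hc : Spec.map (CommRingCat.ofHom (algebraMap k C)) = c ≫ g)

/-- `Spec (C ⊗ P) → (Spec P ×_k S) ×_S Spec C`. -/
def chart : Spec (CommRingCat.of (C ⊗[k] P)) ⟶ (Bo g P ⊗ Over.mk c).left :=
  pullback.lift
    (pullback.lift (Spec.map (CommRingCat.ofHom Algebra.TensorProduct.includeRight.toRingHom))
      (Spec.map (CommRingCat.ofHom Algebra.TensorProduct.includeLeftRingHom) ≫ c) (by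
        rw [Category.assoc, ← hc]
        exact (isPullback_SpecMap_of_isPushout _ _ _ _
          (CommRingCat.isPushout_tensorProduct k C P)).w.symm))
    (Spec.map (CommRingCat.ofHom Algebra.TensorProduct.includeLeftRingHom)) (pullback.lift_snd _ _ _)

theorem chart_fst_fst :
    chart g P c hc ≫ pullback.fst _ _ ≫ pullback.fst _ _ =
      Spec.map (CommRingCat.ofHom Algebra.TensorProduct.includeRight.toRingHom) :=
  (pullback.lift_fst_assoc _ _ _ _).trans (pullback.lift_fst _ _ _)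

theorem chart_snd :
    chart g P c hc ≫ (snd (Bo g P) (Over.mk c)).left =
      Spec.map (CommRingCat.ofHom Algebra.TensorProduct.includeLeftRingHom) :=
  pullback.lift_snd _ _ _

theorem isPullback_bo :
    IsPullback ((fst (Bo g P) (Over.mk c)).left ≫ pullback.fst _ _) (snd (Bo g P) (Over.mk c)).left
      (Spec.map (CommRingCat.ofHom (algebraMap k P))) (c ≫ g) :=
  (IsPullback.of_hasPullback (Bo g P).hom c).paste_horiz
    (IsPullback.of_hasPullback (Spec.map (CommRingCat.ofHom (algebraMap k P))) g)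

theorem isIso_chart : IsIso (chart g P c hc) := by
  have h := (isPullback_SpecMap_of_isPushout _ _ _ _ (CommRingCat.isPushout_tensorProduct k C P)).flip
  rw [hc] at h
  have e : chart g P c hc = (h.isoIsPullback _ _ (isPullback_bo g P c)).hom := by
    refine (isPullback_bo g P c).hom_ext ?_ ?_
    · rw [IsPullback.isoIsPullback_hom_fst]
      exact chart_fst_fst g P c hc
    · exact (chart_snd g P c hc).trans (IsPullback.isoIsPullback_hom_snd _ _ _ _).symm
  rw [e]
  infer_instance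

theorem chart_w :
    chart g P c hc ≫ (Bo g P ⊗ Over.mk c).hom =
      Spec.map (CommRingCat.ofHom Algebra.TensorProduct.includeLeftRingHom) ≫ c := by
  rw [← Over.w (snd (Bo g P) (Over.mk c)), ← Category.assoc, chart_snd]
  rfl

end Coord

variable {P P' : Type u} [CommRing P] [Algebra k P] [CommRing P'] [Algebra k P']

theorem chart_whiskerRight (α : P →ₐ[k] P') (m : Bo g P' ⟶ Bo g P)
    (hm : m.left ≫ pullback.fst _ _ = pullback.fst _ _ ≫ Spec.map (CommRingCat.ofHom α.toRingHom))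
    {C : Type u} [CommRing C] [Algebra k C] (c : Spec (CommRingCat.of C) ⟶ S)
    (hc : Spec.map (CommRingCat.ofHom (algebraMap k C)) = c ≫ g) :
    chart g P' c hc ≫ (m ▷ Over.mk c).left =
      Spec.map (CommRingCat.ofHom (Algebra.TensorProduct.map (AlgHom.id k C) α).toRingHom) ≫ chart g P c hc := by
  refine (isPullback_bo g P c).hom_ext ?_ ?_
  · have e : (m ▷ Over.mk c).left ≫ (fst (Bo g P) (Over.mk c)).left = (fst (Bo g P') (Over.mk c)).left ≫ m.left :=
      Over.whiskerRight_left_fst m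
    rw [Category.assoc, reassoc_of% e, hm, Category.assoc]
    erw [chart_fst_fst g P c hc]
    rw [← Category.assoc, ← Category.assoc]
    erw [Category.assoc (chart g P' c hc), chart_fst_fst g P' c hc]
    rw [← Spec.map_comp, ← Spec.map_comp]
    congr 1
  · rw [Category.assoc, ← Over.comp_left, whiskerRight_snd, chart_snd, Category.assoc, chart_snd, ← Spec.map_comp]
    congr 1
    ext x
    exact ((Algebra.TensorProduct.map_tmul _ _ x (1 : P)).trans (by simp)).symm

theorem chart_whiskerLeft (P : Type u) [CommRing P] [Algebra k P]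
    {C D : Type u} [CommRing C] [Algebra k C] [CommRing D] [Algebra k D] (φ : D →ₐ[k] C)
    (c : Spec (CommRingCat.of C) ⟶ S) (hc : Spec.map (CommRingCat.ofHom (algebraMap k C)) = c ≫ g)
    (d : Spec (CommRingCat.of D) ⟶ S) (hd : Spec.map (CommRingCat.ofHom (algebraMap k D)) = d ≫ g)
    (h : Spec.map (CommRingCat.ofHom φ.toRingHom) ≫ d = c) :
    chart g P c hc ≫ (Bo g P ◁ (Over.homMk (Spec.map (CommRingCat.ofHom φ.toRingHom)) h :
        Over.mk c ⟶ Over.mk d)).left =
      Spec.map (CommRingCat.ofHom (Algebra.TensorProduct.map φ (AlgHom.id k P)).toRingHom) ≫ chart g P d hd := by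
  refine (isPullback_bo g P d).hom_ext ?_ ?_
  · rw [Category.assoc, ← Category.assoc (Bo g P ◁ _).left, ← Over.comp_left, whiskerLeft_fst]
    erw [chart_fst_fst g P c hc]
    rw [Category.assoc]
    erw [chart_fst_fst g P d hd]
    rw [← Spec.map_comp]
    congr 1
    ext x
    exact ((Algebra.TensorProduct.map_tmul _ _ (1 : D) x).trans (by simp)).symm
  · rw [Category.assoc, ← Over.comp_left, whiskerLeft_snd, Over.comp_left,
      ← Category.assoc, chart_snd, Category.assoc, chart_snd]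
    change _ ≫ Spec.map (CommRingCat.ofHom φ.toRingHom) = _
    rw [← Spec.map_comp, ← Spec.map_comp]
    congr 1

section Locus

variable {g} {X : Over S} (m : Bo g P' ⟶ Bo g P) (o : Bo g P' ⊗ X ⟶ X)

/-- The family `o(x)` extends along `m`. -/
def Cond ⦃T : Scheme.{u}⦄ (x : T ⟶ X.left) : Prop :=
  ∃ l : Bo g P ⊗ Over.mk (x ≫ X.hom) ⟶ X,
    (m ▷ Over.mk (x ≫ X.hom)) ≫ l = (Bo g P' ◁ (Over.homMk x rfl : Over.mk (x ≫ X.hom) ⟶ X)) ≫ o

theorem cond_iff {T : Over S} (x : T ⟶ X) :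
    Cond m o x.left ↔ ∃ l : Bo g P ⊗ T ⟶ X, (m ▷ T) ≫ l = (Bo g P' ◁ x) ≫ o := by
  let e : Over.mk (x.left ≫ X.hom) ⟶ T := Over.homMk (𝟙 T.left) (by
    change 𝟙 T.left ≫ T.hom = x.left ≫ X.hom
    rw [Category.id_comp, Over.w x])
  let e' : T ⟶ Over.mk (x.left ≫ X.hom) := Over.homMk (𝟙 T.left) (by
    change 𝟙 T.left ≫ x.left ≫ X.hom = T.hom
    rw [Category.id_comp, Over.w x])
  have he : e ≫ x = (Over.homMk x.left rfl : Over.mk (x.left ≫ X.hom) ⟶ X) :=
    Over.OverMorphism.ext (Category.id_comp _)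
  have he' : e' ≫ (Over.homMk x.left rfl : Over.mk (x.left ≫ X.hom) ⟶ X) = x :=
    Over.OverMorphism.ext (Category.id_comp _)
  constructor
  · rintro ⟨l, hl⟩
    exact ⟨(Bo g P ◁ e') ≫ l, by rw [← whisker_exchange_assoc, hl, ← MonoidalCategory.whiskerLeft_comp_assoc, he']⟩
  · rintro ⟨l, hl⟩
    exact ⟨(Bo g P ◁ e) ≫ l, by rw [← whisker_exchange_assoc, hl, ← MonoidalCategory.whiskerLeft_comp_assoc, he]⟩

theorem cond_comp {T T' : Scheme.{u}} (t : T' ⟶ T) (x : T ⟶ X.left) (hx : Cond m o x) : Cond m o (t ≫ x) := by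
  obtain ⟨l, hl⟩ := hx
  let t' : Over.mk ((t ≫ x) ≫ X.hom) ⟶ Over.mk (x ≫ X.hom) := Over.homMk t (Category.assoc _ _ _).symm
  refine (cond_iff m o (t' ≫ (Over.homMk x rfl : Over.mk (x ≫ X.hom) ⟶ X))).2 ⟨(Bo g P ◁ t') ≫ l, ?_⟩
  rw [← whisker_exchange_assoc, hl, ← MonoidalCategory.whiskerLeft_comp_assoc]

variable (hext : ∀ (T : Over S) (a b : Bo g P ⊗ T ⟶ X), (m ▷ T) ≫ a = (m ▷ T) ≫ b → a = b)

include hext in
theorem isGood : GrpScheme.ClosedRep.IsGood (Cond m o) where
  comp := fun t x hx => cond_comp m o t x hx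
  glue {T} 𝒰 x hx := by
    let T₀ : Over S := Over.mk (x ≫ X.hom)
    let x₀ : T₀ ⟶ X := Over.homMk x rfl
    let J := Scheme.zariskiTopology.over S
    let R : Sieve T₀ := (Sieve.overEquiv T₀).symm (Sieve.ofArrows 𝒰.X 𝒰.f)
    have hR : R ∈ J T₀ := by
      rw [GrothendieckTopology.mem_over_iff]
      change (Sieve.overEquiv T₀) ((Sieve.overEquiv T₀).symm (Sieve.ofArrows 𝒰.X 𝒰.f)) ∈ _
      rw [OrderIso.apply_symm_apply]
      exact Precoverage.generate_mem_toGrothendieck 𝒰.mem₀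
    have hl : ∀ {W : Over S} (h : W ⟶ T₀), R.arrows h →
        ∃ l : Bo g P ⊗ W ⟶ X, (m ▷ W) ≫ l = (Bo g P' ◁ (h ≫ x₀)) ≫ o := by
      intro W h hh
      rw [Sieve.overEquiv_symm_iff, Sieve.mem_ofArrows_iff] at hh
      obtain ⟨i, q, hq⟩ := hh
      obtain ⟨l, hl⟩ := hx i
      let w : W ⟶ Over.mk ((𝒰.f i ≫ x) ≫ X.hom) := Over.homMk q (by
        change q ≫ (𝒰.f i ≫ x) ≫ X.hom = W.hom
        rw [← Category.assoc, ← Category.assoc, ← hq, Category.assoc]
        exact Over.w h)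
      have e : w ≫ Over.homMk (𝒰.f i ≫ x) rfl = h ≫ x₀ :=
        Over.OverMorphism.ext ((Category.assoc _ _ _).symm.trans (congrArg (· ≫ x) hq.symm))
      exact ⟨(Bo g P ◁ w) ≫ l, by rw [← whisker_exchange_assoc, hl, ← MonoidalCategory.whiskerLeft_comp_assoc, e]⟩
    choose l hl using @hl
    have hcomp : ∀ {V W : Over S} (h : W ⟶ T₀) (hh : R.arrows h) (q : V ⟶ W) {h' : V ⟶ T₀}
        (hh' : R.arrows h'), h' = q ≫ h → l h' hh' = (Bo g P ◁ q) ≫ l h hh := fun h hh q h' hh' e => by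
      refine hext _ _ _ ?_
      rw [hl, ← whisker_exchange_assoc, hl, ← MonoidalCategory.whiskerLeft_comp_assoc, e, Category.assoc]
    have hY : Presieve.IsSheaf J (yoneda.obj X) :=
      GrothendieckTopology.Subcanonical.isSheaf_of_isRepresentable _
    let R' := R.pullback (snd (Bo g P) T₀)
    let y : Presieve.FamilyOfElements (yoneda.obj X) R'.arrows := fun W q hq =>
      CartesianMonoidalCategory.lift (q ≫ fst _ _) (𝟙 W) ≫ l (q ≫ snd _ _) hq
    have hy : y.Compatible := by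
      rw [Presieve.compatible_iff_sieveCompatible]
      intro W V q h hq
      change CartesianMonoidalCategory.lift ((h ≫ q) ≫ fst _ _) (𝟙 V) ≫ l ((h ≫ q) ≫ snd _ _) _ =
        h ≫ CartesianMonoidalCategory.lift (q ≫ fst _ _) (𝟙 W) ≫ _
      rw [hcomp _ hq h _ (Category.assoc _ _ _), lift_whiskerLeft_assoc, Category.id_comp, Category.assoc]
      exact (congrArg (· ≫ _) ((comp_lift h _ _).trans (by rw [Category.comp_id]))).symm.trans (Category.assoc _ _ _)
    obtain ⟨L, hL, -⟩ := hY R' (J.pullback_stable _ hR) y hy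
    refine ⟨L, ?_⟩
    refine (hY (R.pullback (snd (Bo g P') T₀)) (J.pullback_stable _ hR)).isSeparatedFor.ext fun W q hq => ?_
    change q ≫ _ = q ≫ _
    have hq' : R'.arrows (q ≫ (m ▷ T₀)) := by
      change R.arrows ((q ≫ (m ▷ T₀)) ≫ snd _ _)
      rw [Category.assoc, whiskerRight_snd]
      exact hq
    have e1 : q ≫ (m ▷ T₀) ≫ L = y (q ≫ (m ▷ T₀)) hq' := (Category.assoc _ _ _).symm.trans (hL _ hq')
    refine e1.trans ?_
    change CartesianMonoidalCategory.lift ((q ≫ (m ▷ T₀)) ≫ fst _ _) (𝟙 W) ≫ l _ hq' = _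
    rw [hcomp (q ≫ snd _ _) hq (𝟙 W) hq' (by rw [Category.id_comp, Category.assoc, whiskerRight_snd])]
    rw [lift_whiskerLeft_assoc, Category.comp_id, Category.assoc, whiskerRight_fst, ← Category.assoc q,
      ← lift_whiskerRight_assoc, hl, lift_whiskerLeft_assoc, Category.id_comp]
    rw [show q ≫ (Bo g P' ◁ Over.homMk x rfl) ≫ o = (q ≫ (Bo g P' ◁ x₀)) ≫ o from (Category.assoc _ _ _).symm]
    refine congrArg (· ≫ o) ?_
    apply CartesianMonoidalCategory.hom_ext <;> simp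

variable (α : P →ₐ[k] P') (r : P' →ₗ[k] P) (hr : ∀ a, r (α a) = a) [Module.Free k P']
  (hm : m.left ≫ pullback.fst _ _ = pullback.fst _ _ ≫ Spec.map (CommRingCat.ofHom α.toRingHom))

theorem exists_spec_factor {D : Type u} [CommRing D] {W : Scheme.{u}} {V : W.Opens} (hV : IsAffineOpen V)
    (y : Spec (CommRingCat.of D) ⟶ W) (hy : ∀ z, y z ∈ V) :
    ∃ θ : Γ(W, V) ⟶ CommRingCat.of D, Spec.map θ ≫ hV.fromSpec = y := by
  have : IsOpenImmersion hV.fromSpec := IsAffineOpen.isOpenImmersion_fromSpec _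
  have hrange : Set.range y ⊆ Set.range hV.fromSpec := by
    rintro _ ⟨z, rfl⟩
    rw [hV.range_fromSpec]
    exact hy z
  exact ⟨Spec.preimage (IsOpenImmersion.lift hV.fromSpec y hrange), by
    rw [Spec.map_preimage, IsOpenImmersion.lift_fac]⟩

include hr hm in
omit [Module.Free k P'] in
/-- On an affine chart the extension condition is a condition on coefficients. -/
theorem cond_affine_iff [IsAffineHom X.hom] (W : S.affineOpens) {C : Type u} [CommRing C] [Algebra k C]
    (y : Spec (CommRingCat.of C) ⟶ X.left)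
    (hc : Spec.map (CommRingCat.ofHom (algebraMap k C)) = (y ≫ X.hom) ≫ g)
    (hyW : ∀ z, y z ∈ X.hom ⁻¹ᵁ W.1)
    (θ' : Γ(X.left, X.hom ⁻¹ᵁ W.1) ⟶ CommRingCat.of (C ⊗[k] P'))
    (hθ' : chart g P' (y ≫ X.hom) hc ≫ ((Bo g P' ◁ (Over.homMk y rfl : Over.mk (y ≫ X.hom) ⟶ X)) ≫ o).left =
      Spec.map θ' ≫ (W.2.preimage X.hom).fromSpec) :
    Cond m o y ↔ ∀ b, θ'.hom b =
      Algebra.TensorProduct.map (AlgHom.id k C) α (r.lTensor C (θ'.hom b)) := by
  have hXW : IsAffineOpen (X.hom ⁻¹ᵁ W.1) := W.2.preimage X.hom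
  have : IsOpenImmersion hXW.fromSpec := IsAffineOpen.isOpenImmersion_fromSpec _
  have : IsOpenImmersion W.2.fromSpec := IsAffineOpen.isOpenImmersion_fromSpec _
  let c : Spec (CommRingCat.of C) ⟶ S := y ≫ X.hom
  let F := Algebra.TensorProduct.map (AlgHom.id k C) α
  have hFr : ∀ z : C ⊗[k] P, r.lTensor C (F z) = z := fun z => by
    change r.lTensor C (α.toLinearMap.lTensor C z) = z
    rw [← LinearMap.lTensor_comp_apply, (LinearMap.ext hr : r ∘ₗ α.toLinearMap = LinearMap.id),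
      LinearMap.lTensor_id, LinearMap.id_apply]
  have hFinj : Function.Injective F := Function.LeftInverse.injective hFr
  constructor
  · rintro ⟨l, hl⟩ b
    obtain ⟨β, hβ⟩ := exists_spec_factor hXW (chart g P c hc ≫ l.left) fun z => by
      change X.hom ((chart g P c hc ≫ l.left) z) ∈ W.1
      rw [← Scheme.Hom.comp_apply, Category.assoc]
      erw [Over.w l, chart_w g P c hc]
      exact hyW _
    have hl' : (m ▷ Over.mk c).left ≫ l.left =
        ((Bo g P' ◁ (Over.homMk y rfl : Over.mk (y ≫ X.hom) ⟶ X)) ≫ o).left :=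
      congrArg CommaMorphism.left hl
    have e : Spec.map (β ≫ CommRingCat.ofHom F.toRingHom) = Spec.map θ' := by
      rw [← cancel_mono hXW.fromSpec, ← hθ', ← hl', ← Category.assoc, chart_whiskerRight g α m hm c hc,
        Category.assoc, ← hβ, ← Category.assoc, ← Spec.map_comp]
    have e' := congr(($(Spec.map_injective e)).hom b)
    change F (β.hom b) = θ'.hom b at e'
    rw [← e', hFr]
  · intro h
    let β₀ : Γ(X.left, X.hom ⁻¹ᵁ W.1) →+* C ⊗[k] P :=
      { toFun := fun b => r.lTensor C (θ'.hom b)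
        map_one' := hFinj (by rw [← h, map_one, map_one])
        map_mul' := fun a b => hFinj (by rw [← h, map_mul, map_mul, ← h, ← h])
        map_zero' := by rw [map_zero, map_zero]
        map_add' := fun a b => by rw [map_add, map_add] }
    have hβ₀ : Spec.map (CommRingCat.ofHom F.toRingHom) ≫ Spec.map (CommRingCat.ofHom β₀) ≫ hXW.fromSpec =
        Spec.map θ' ≫ hXW.fromSpec := by
      rw [← Category.assoc, ← Spec.map_comp]
      congr 2
      exact CommRingCat.hom_ext (RingHom.ext fun b => (h b).symm)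
    have hcW : ∀ z : Spec (CommRingCat.of C), c z ∈ W.1 := fun z => hyW z
    obtain ⟨γ, hγ⟩ := exists_spec_factor W.2 c hcW
    have hπ : hXW.fromSpec ≫ X.hom = Spec.map (X.hom.appLE W.1 _ le_rfl) ≫ W.2.fromSpec :=
      (W.2.SpecMap_appLE_fromSpec X.hom hXW le_rfl).symm
    have hover : (Spec.map (CommRingCat.ofHom β₀) ≫ hXW.fromSpec) ≫ X.hom = chart g P c hc ≫ (Bo g P ⊗ Over.mk c).hom := by
      rw [chart_w, ← hγ, Category.assoc, hπ, ← Category.assoc, ← Spec.map_comp, ← Category.assoc, ← Spec.map_comp]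
      congr 2
      refine CommRingCat.hom_ext (RingHom.ext fun w => hFinj ?_)
      have e : Spec.map ((X.hom.appLE W.1 _ le_rfl ≫ θ')) =
          Spec.map ((γ ≫ CommRingCat.ofHom Algebra.TensorProduct.includeLeftRingHom) ≫ CommRingCat.ofHom F.toRingHom) := by
        rw [← cancel_mono W.2.fromSpec, Spec.map_comp, Category.assoc, ← hπ, ← Category.assoc, ← hθ',
          Category.assoc, Over.w]
        erw [chart_w g P' c hc]
        rw [← hγ, ← Category.assoc, ← Spec.map_comp, Category.assoc]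
        congr 2
        refine congrArg (γ ≫ ·) (CommRingCat.hom_ext (RingHom.ext fun x => ?_))
        exact ((Algebra.TensorProduct.map_tmul (AlgHom.id k C) α x 1).trans (by simp)).symm
      exact (h _).symm.trans congr(($(Spec.map_injective e)).hom w)
    have := isIso_chart g P c hc
    let l : Bo g P ⊗ Over.mk c ⟶ X :=
      Over.homMk (inv (chart g P c hc) ≫ Spec.map (CommRingCat.ofHom β₀) ≫ hXW.fromSpec) (by
        rw [Category.assoc, hover, IsIso.inv_hom_id_assoc])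
    refine ⟨l, Over.OverMorphism.ext ?_⟩
    have := isIso_chart g P' c hc
    rw [← cancel_epi (chart g P' c hc)]
    refine Eq.trans ?_ hθ'.symm
    rw [Over.comp_left, ← Category.assoc, chart_whiskerRight g α m hm c hc, Category.assoc]
    change Spec.map _ ≫ chart g P c hc ≫ inv (chart g P c hc) ≫ _ = _
    rw [IsIso.hom_inv_id_assoc, hβ₀]

include hr hm in
theorem isRep [IsAffineHom X.hom] (U : X.left.affineOpens) (W : S.affineOpens) (hUW : U.1 ≤ X.hom ⁻¹ᵁ W.1) :
    GrpScheme.ClosedRep.IsRep (Cond m o) U := by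
  have hXW : IsAffineOpen (X.hom ⁻¹ᵁ W.1) := W.2.preimage X.hom
  have : IsOpenImmersion hXW.fromSpec := IsAffineOpen.isOpenImmersion_fromSpec _
  have : IsOpenImmersion W.2.fromSpec := IsAffineOpen.isOpenImmersion_fromSpec _
  let A : Type u := Γ(X.left, U.1)
  let uhom : Spec (CommRingCat.of A) ⟶ S := U.2.fromSpec ≫ X.hom
  letI : Algebra k A := (Spec.preimage (uhom ≫ g)).hom.toAlgebra
  have hu : Spec.map (CommRingCat.ofHom (algebraMap k A)) = uhom ≫ g := Spec.map_preimage _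
  let xU : Over.mk uhom ⟶ X := Over.homMk U.2.fromSpec rfl
  obtain ⟨θ, hθ⟩ := exists_spec_factor hXW (chart g P' uhom hu ≫ ((Bo g P' ◁ xU) ≫ o).left) fun z => by
    change X.hom ((chart g P' uhom hu ≫ ((Bo g P' ◁ xU) ≫ o).left) z) ∈ W.1
    rw [← Scheme.Hom.comp_apply, Category.assoc, Over.w, chart_w, Scheme.Hom.comp_apply, Scheme.Hom.comp_apply]
    refine hUW ?_
    change U.2.fromSpec _ ∈ (U.1 : Set X.left)
    rw [← U.2.range_fromSpec]
    exact ⟨_, rfl⟩
  let p : P' →ₗ[k] P' := LinearMap.id - α.toLinearMap ∘ₗ r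
  obtain ⟨I, hI⟩ := GrpScheme.ClosedRepProd.exists_coeff_ideal k A P'
    (Set.range fun b => p.lTensor A (θ.hom b))
  refine ⟨I, fun C φ => ?_⟩
  letI : Algebra k C := (φ.hom.comp (algebraMap k A)).toAlgebra
  let f : A →ₐ[k] C := { φ.hom with commutes' := fun _ => rfl }
  let c : Spec (CommRingCat.of C) ⟶ S := (Spec.map φ ≫ U.2.fromSpec) ≫ X.hom
  have hc : Spec.map (CommRingCat.ofHom (algebraMap k C)) = c ≫ g := by
    change Spec.map (CommRingCat.ofHom (algebraMap k A) ≫ φ) = _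
    rw [Spec.map_comp, hu]
    simp [c, uhom]
  let θ' : Γ(X.left, X.hom ⁻¹ᵁ W.1) ⟶ CommRingCat.of (C ⊗[k] P') :=
    θ ≫ CommRingCat.ofHom (Algebra.TensorProduct.map f (AlgHom.id k P')).toRingHom
  have hθ' : chart g P' c hc ≫ ((Bo g P' ◁ (Over.homMk (Spec.map φ ≫ U.2.fromSpec) rfl : Over.mk c ⟶ X)) ≫ o).left =
      Spec.map θ' ≫ hXW.fromSpec := by
    have hw : Spec.map (CommRingCat.ofHom f.toRingHom) ≫ uhom = c := (Category.assoc _ _ _).symm
    have e : (Over.homMk (Spec.map φ ≫ U.2.fromSpec) rfl : Over.mk c ⟶ X) =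
        (Over.homMk (Spec.map (CommRingCat.ofHom f.toRingHom)) hw : Over.mk c ⟶ Over.mk uhom) ≫ xU :=
      Over.OverMorphism.ext rfl
    rw [e, MonoidalCategory.whiskerLeft_comp, Category.assoc, Over.comp_left, ← Category.assoc,
      chart_whiskerLeft g P' f c hc uhom hu hw, Category.assoc, ← hθ, ← Category.assoc, ← Spec.map_comp]
  let F := Algebra.TensorProduct.map (AlgHom.id k C) α
  have hFr : ∀ z : C ⊗[k] P, r.lTensor C (F z) = z := fun z => by
    change r.lTensor C (α.toLinearMap.lTensor C z) = z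
    rw [← LinearMap.lTensor_comp_apply, (LinearMap.ext hr : r ∘ₗ α.toLinearMap = LinearMap.id),
      LinearMap.lTensor_id, LinearMap.id_apply]
  have hFinj : Function.Injective F := Function.LeftInverse.injective hFr
  have hJ : (∀ z ∈ Set.range (fun b => p.lTensor A (θ.hom b)),
      Algebra.TensorProduct.map f (AlgHom.id k P') z = 0) ↔ ∀ b, θ'.hom b = F (r.lTensor C (θ'.hom b)) := by
    rw [Set.forall_mem_range]
    refine forall_congr' fun b => ?_
    have e : Algebra.TensorProduct.map f (AlgHom.id k P') (p.lTensor A (θ.hom b)) = p.lTensor C (θ'.hom b) := by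
      change f.toLinearMap.rTensor P' (p.lTensor A _) = p.lTensor C (f.toLinearMap.rTensor P' _)
      rw [← LinearMap.comp_apply, ← LinearMap.comp_apply, LinearMap.rTensor_comp_lTensor,
        LinearMap.lTensor_comp_rTensor]
      rfl
    rw [e]
    change (LinearMap.lTensor C (LinearMap.id - α.toLinearMap ∘ₗ r)) _ = 0 ↔ _
    rw [LinearMap.lTensor_sub, LinearMap.sub_apply, LinearMap.lTensor_id, LinearMap.id_apply,
      LinearMap.lTensor_comp_apply, sub_eq_zero]
    rfl
  refine Iff.trans ?_ ((hJ.symm).trans (hI C f))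
  refine cond_affine_iff m o α r hr hm W (Spec.map φ ≫ U.2.fromSpec) hc (fun z => hUW ?_) θ' hθ'
  change U.2.fromSpec _ ∈ (U.1 : Set X.left)
  rw [← U.2.range_fromSpec]
  exact ⟨_, rfl⟩

include hext hr hm in
/-- The extension locus is represented by a closed subscheme. -/
theorem exists_closed [IsAffineHom X.hom] :
    ∃ (Z : Over S) (i : Z ⟶ X), IsClosedImmersion i.left ∧ ∀ (T : Over S) (x : T ⟶ X),
      (∃ l : Bo g P ⊗ T ⟶ X, (m ▷ T) ≫ l = (Bo g P' ◁ x) ≫ o) ↔ ∃ z : T ⟶ Z, z ≫ i = x := by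
  obtain ⟨Z, i, hi, hZ⟩ := GrpScheme.ClosedRep.exists_closed (isGood m o hext) fun U x hx => by
    obtain ⟨_, ⟨W, hW, rfl⟩, hxW, -⟩ :=
      S.isBasis_affineOpens.exists_subset_of_mem_open (Set.mem_univ (X.hom x)) isOpen_univ
    obtain ⟨f, hf, hxf⟩ := U.2.exists_basicOpen_le (V := X.hom ⁻¹ᵁ W) ⟨x, hxW⟩ hx
    exact ⟨f, hxf, isRep m o α r hr hm _ ⟨W, hW⟩ hf⟩
  refine ⟨Over.mk (i ≫ X.hom), Over.homMk i rfl, hi, fun T x => ?_⟩
  rw [← cond_iff m o x, hZ]
  exact ⟨fun ⟨z, hz⟩ => ⟨Over.homMk z (by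
      change z ≫ i ≫ X.hom = T.hom
      rw [reassoc_of% hz, Over.w x]), Over.OverMorphism.ext hz⟩,
    fun ⟨z, hz⟩ => ⟨z.left, congrArg CommaMorphism.left hz⟩⟩

variable {Q Q' : Type u} [CommRing Q] [Algebra k Q] [CommRing Q'] [Algebra k Q']
  (m₂ : Bo g Q' ⟶ Bo g Q) (mJ : Bo g Q' ⟶ Bo g P')

include hext hr hm in
omit [Module.Free k P'] in
/-- An extension along `Spec Q' → Spec Q` gives one along `Spec P' → Spec P`. -/
theorem cond_of_cond [IsAffineHom X.hom] (α₂ : Q →ₐ[k] Q') (r₂ : Q' →ₗ[k] Q) (hr₂ : ∀ a, r₂ (α₂ a) = a)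
    (hm₂ : m₂.left ≫ pullback.fst _ _ = pullback.fst _ _ ≫ Spec.map (CommRingCat.ofHom α₂.toRingHom))
    (J : P' →ₐ[k] Q') (hmJ : mJ.left ≫ pullback.fst _ _ = pullback.fst _ _ ≫ Spec.map (CommRingCat.ofHom J.toRingHom))
    (R₀ : Q' →ₗ[k] P') (hR₀ : ∀ a, R₀ (J a) = a) (hp : ∀ a, R₀ (α₂ (r₂ (J a))) = α (r a))
    {T : Scheme.{u}} (x : T ⟶ X.left) (hx : Cond m₂ ((mJ ▷ X) ≫ o) x) : Cond m o x := by
  have hW : ∀ t : T, ∃ (W : S.affineOpens) (V : T.Opens), IsAffineOpen V ∧ t ∈ V ∧ V ≤ (x ≫ X.hom) ⁻¹ᵁ W.1 := by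
    intro t
    obtain ⟨_, ⟨W, hW, rfl⟩, htW, -⟩ :=
      S.isBasis_affineOpens.exists_subset_of_mem_open (Set.mem_univ ((x ≫ X.hom) t)) isOpen_univ
    obtain ⟨_, ⟨V, hV, rfl⟩, htV, hVW⟩ :=
      T.isBasis_affineOpens.exists_subset_of_mem_open (show t ∈ ((x ≫ X.hom) ⁻¹ᵁ W : T.Opens) from htW)
        ((x ≫ X.hom) ⁻¹ᵁ W).isOpen
    exact ⟨⟨W, hW⟩, V, hV, htV, hVW⟩
  choose W V hV htV hVW using hW
  let 𝒰 : T.OpenCover := Scheme.Cover.mkOfCovers T (fun t => Spec Γ(T, V t)) (fun t => (hV t).fromSpec)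
    (fun t => by
      refine ⟨t, ?_⟩
      have h : t ∈ Set.range (hV t).fromSpec := by rw [(hV t).range_fromSpec]; exact htV t
      exact h)
    (fun t => IsAffineOpen.isOpenImmersion_fromSpec _)
  refine (isGood m o hext).glue 𝒰 x fun t => ?_
  let C : Type u := Γ(T, V t)
  let y : Spec (CommRingCat.of C) ⟶ X.left := (hV t).fromSpec ≫ x
  letI : Algebra k C := (Spec.preimage ((y ≫ X.hom) ≫ g)).hom.toAlgebra
  have hc : Spec.map (CommRingCat.ofHom (algebraMap k C)) = (y ≫ X.hom) ≫ g := Spec.map_preimage _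
  have hyW : ∀ z, y z ∈ X.hom ⁻¹ᵁ (W t).1 := fun z => by
    refine hVW t ?_
    change (hV t).fromSpec z ∈ (V t : Set T)
    rw [← (hV t).range_fromSpec]
    exact ⟨z, rfl⟩
  have hXW : IsAffineOpen (X.hom ⁻¹ᵁ (W t).1) := (W t).2.preimage X.hom
  let xy : Over.mk (y ≫ X.hom) ⟶ X := Over.homMk y rfl
  obtain ⟨θ, hθ⟩ := exists_spec_factor hXW (chart g P' (y ≫ X.hom) hc ≫ ((Bo g P' ◁ xy) ≫ o).left) fun z => by
    change X.hom ((chart g P' (y ≫ X.hom) hc ≫ ((Bo g P' ◁ xy) ≫ o).left) z) ∈ (W t).1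
    rw [← Scheme.Hom.comp_apply, Category.assoc, Over.w]
    erw [chart_w g P' (y ≫ X.hom) hc]
    exact hyW _
  have hJ : chart g Q' (y ≫ X.hom) hc ≫ ((Bo g Q' ◁ xy) ≫ (mJ ▷ X) ≫ o).left =
      Spec.map (θ ≫ CommRingCat.ofHom (Algebra.TensorProduct.map (AlgHom.id k C) J).toRingHom) ≫ hXW.fromSpec := by
    rw [whisker_exchange_assoc, Over.comp_left, ← Category.assoc, chart_whiskerRight g J mJ hmJ (y ≫ X.hom) hc,
      Category.assoc, ← hθ, ← Category.assoc, ← Spec.map_comp]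
  refine (cond_affine_iff m o α r hr hm (W t) y hc hyW θ hθ.symm).2 fun b => ?_
  have h := (cond_affine_iff m₂ ((mJ ▷ X) ≫ o) α₂ r₂ hr₂ hm₂ (W t) y hc hyW _ hJ).1
    (cond_comp m₂ _ (hV t).fromSpec x hx) b
  change J.toLinearMap.lTensor C (θ.hom b) =
    α₂.toLinearMap.lTensor C (r₂.lTensor C (J.toLinearMap.lTensor C (θ.hom b))) at h
  change θ.hom b = α.toLinearMap.lTensor C (r.lTensor C (θ.hom b))
  have h' := congrArg (R₀.lTensor C) h
  simp only [← LinearMap.lTensor_comp_apply] at h' ⊢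
  rw [(LinearMap.ext hR₀ : R₀ ∘ₗ J.toLinearMap = LinearMap.id), LinearMap.lTensor_id, LinearMap.id_apply] at h'
  refine h'.trans ?_
  congr 2
  exact LinearMap.ext hp

end Locus

end Groth.Agent.MagnetLib.Extend
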