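import Groth.Agent.MagnetLib.ComapIso

/-!
# Points of `A(M)_S` as characters of `M`
-/

set_option autoImplicit false
set_option backward.isDefEq.respectTransparency false

universe u

noncomputable section

open CategoryTheory CategoryTheory.Limits MonoidalCategory CartesianMonoidalCategory MonObj AlgebraicGeometry Opposite

namespace Groth.Agent.MagnetLib

open Magnet Magnet.MonAct

variable {S : Scheme.{u}} {M N : Type} [AddCommMonoid M] [AddCommMonoid N] {W W' : Over S}

/-- The monoid algebra over the integers. -/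
abbrev zAlg (M : Type) [AddCommMonoid M] : Type u := MonoidAlgebra (ULift.{u} ℤ) (Multiplicative M)

/-- A point as a ring map. -/
def mPt (x : W ⟶ AMonS S M) : zAlg.{u} M →+* Γ(W.left, ⊤) :=
  ((Scheme.ΓSpecIso (CommRingCat.of (zAlg.{u} M))).inv ≫
    (x.left ≫ pullback.fst (AMon (ULift.{u} ℤ) M).hom (toZ S)).appTop).hom

theorem eq_toSpecΓ_map {X : Scheme.{u}} {A : Type u} [CommRing A] (g : X ⟶ Spec (CommRingCat.of A)) :
    g = X.toSpecΓ ≫ Spec.map ((Scheme.ΓSpecIso (CommRingCat.of A)).inv ≫ g.appTop) := by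
  rw [Spec.map_comp]
  simp [← Scheme.toSpecΓ_naturality_assoc]

theorem mPt_injective : Function.Injective (mPt (S := S) (M := M) (W := W)) := fun x y h => by
  have h' : CommRingCat.ofHom (mPt x) = CommRingCat.ofHom (mPt y) := congrArg _ h
  simp only [mPt, CommRingCat.ofHom_hom] at h'
  refine Over.OverMorphism.ext (pullback.hom_ext ?_ ((Over.w x).trans (Over.w y).symm))
  exact (eq_toSpecΓ_map _).trans ((congrArg (fun m => W.left.toSpecΓ ≫ Spec.map m) h').trans
    (eq_toSpecΓ_map _).symm)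

theorem mPt_surjective : Function.Surjective (mPt (S := S) (M := M) (W := W)) := fun φ => by
  let g : W.left ⟶ Spec (CommRingCat.of (zAlg.{u} M)) := W.left.toSpecΓ ≫ Spec.map (CommRingCat.ofHom φ)
  refine ⟨Over.homMk (pullback.lift g W.hom (specULiftZIsTerminal.hom_ext _ _)) (pullback.lift_snd _ _ _), ?_⟩
  refine RingHom.ext fun a => ?_
  have h : (Scheme.ΓSpecIso (CommRingCat.of (zAlg.{u} M))).inv ≫ g.appTop = CommRingCat.ofHom φ := by
    simp only [g, Scheme.Hom.comp_appTop, ← Scheme.ΓSpecIso_inv_naturality_assoc, Scheme.toSpecΓ_appTop]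
    simp
  have e : pullback.lift g W.hom (specULiftZIsTerminal.hom_ext _ (W.hom ≫ toZ S)) ≫
      pullback.fst (AMon (ULift.{u} ℤ) M).hom (toZ S) = g := pullback.lift_fst _ _ _
  exact (congr(($e).appTop _)).trans congr($h a)

/-- The character of a point. -/
def mFn (x : W ⟶ AMonS S M) (m : M) : Γ(W.left, ⊤) :=
  mPt x (MonoidAlgebra.single (Multiplicative.ofAdd m) 1)

theorem mFn_ext {x y : W ⟶ AMonS S M} (h : ∀ m, mFn x m = mFn y m) : x = y := by
  refine mPt_injective (MonoidAlgebra.ringHom_ext (fun r => ?_) fun m => h m.toAdd)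
  have := RingHom.ext_int
    (((mPt x).comp MonoidAlgebra.singleOneRingHom).comp ULift.ringEquiv.symm.toRingHom)
    (((mPt y).comp MonoidAlgebra.singleOneRingHom).comp ULift.ringEquiv.symm.toRingHom)
  exact congr($this r.down)

theorem mFn_surjective (φ : Multiplicative M →* Γ(W.left, ⊤)) :
    ∃ x : W ⟶ AMonS S M, ∀ m, mFn x m = φ (Multiplicative.ofAdd m) := by
  letI : Algebra (ULift.{u} ℤ) Γ(W.left, ⊤) := ((Int.castRingHom _).comp ULift.ringEquiv.toRingHom).toAlgebra
  obtain ⟨x, hx⟩ := mPt_surjective (S := S) (W := W)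
    (MonoidAlgebra.lift (ULift.{u} ℤ) Γ(W.left, ⊤) (Multiplicative M) φ).toRingHom
  refine ⟨x, fun m => ?_⟩
  rw [mFn, hx]
  simp
  exact (Algebra.smul_def _ _).trans (by rw [map_one]; exact _root_.one_mul _)

theorem mFn_comp (t : W' ⟶ W) (x : W ⟶ AMonS S M) (m : M) : mFn (t ≫ x) m = t.left.appTop (mFn x m) := rfl

theorem mFn_add (x : W ⟶ AMonS S M) (m n : M) : mFn x (m + n) = mFn x m * mFn x n := by
  rw [mFn, mFn, mFn, ← map_mul, MonoidAlgebra.single_mul_single, _root_.mul_one, ofAdd_add]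

theorem mFn_zero (x : W ⟶ AMonS S M) : mFn x 0 = 1 := by
  rw [mFn, ofAdd_zero, ← MonoidAlgebra.one_def, map_one]

theorem mFn_map (x : W ⟶ AMonS S M) (f : N →+ M) (n : N) : mFn (x ≫ AMonS.map S f) n = mFn x (f n) := by
  have e : (x ≫ AMonS.map S f).left ≫ pullback.fst (AMon (ULift.{u} ℤ) N).hom (toZ S) =
      (x.left ≫ pullback.fst (AMon (ULift.{u} ℤ) M).hom (toZ S)) ≫
        Spec.map (CommRingCat.ofHom (algMap.{u} f).toRingHom) :=
    (Category.assoc _ _ _).trans ((congrArg (x.left ≫ ·) (amons_map_hm f)).trans (Category.assoc _ _ _).symm)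
  rw [mFn, mPt, CommRingCat.hom_comp, RingHom.comp_apply, e]
  refine (congr($(Scheme.Hom.comp_appTop _ _) _)).trans ?_
  refine congrArg (fun a => (x.left ≫ pullback.fst _ _).appTop a) ?_
  refine (congr($(Scheme.ΓSpecIso_inv_naturality (CommRingCat.ofHom (algMap.{u} f).toRingHom))
    (MonoidAlgebra.single (Multiplicative.ofAdd n) 1))).symm.trans ?_
  exact congrArg (fun a => (Scheme.ΓSpecIso (CommRingCat.of (zAlg.{u} M))).inv a)
    (MonoidAlgebra.mapDomain_single ..)

theorem mFn_mul (x y : W ⟶ AMonS S M) (m : M) : mFn (x * y) m = mFn x m * mFn y m := by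
  obtain ⟨z, hz⟩ := mFn_surjective (S := S) (W := W) (M := M × M)
    { toFun := fun p => mFn x p.toAdd.1 * mFn y p.toAdd.2
      map_one' := by simp [mFn_zero]
      map_mul' := fun p q => by
        simp [mFn_add]
        ring }
  have hx : z ≫ AMonS.map S (AddMonoidHom.inl M M) = x := mFn_ext fun n => by
    rw [mFn_map, hz]
    simp [mFn_zero]
  have hy : z ≫ AMonS.map S (AddMonoidHom.inr M M) = y := mFn_ext fun n => by
    rw [mFn_map, hz]
    simp [mFn_zero]
  conv_lhs => rw [← hx, ← hy, ← MonObj.comp_mul, ← amons_map_add, mFn_map, hz]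
  simp

theorem mFn_one (m : M) : mFn (toUnit W ≫ η[AMonS S M]) m = 1 := by
  obtain ⟨z, hz⟩ := mFn_surjective (S := S) (W := W) (M := M) 1
  letI : Monoid (W ⟶ AMonS S M) := Hom.monoid
  have h : z = toUnit W ≫ η[AMonS S M] := by
    have h₂ : z * (toUnit W ≫ η[AMonS S M]) = toUnit W ≫ η[AMonS S M] := by
      refine mFn_ext fun n => ?_
      rw [mFn_mul, hz]
      simp
    exact (_root_.mul_one z).symm.trans h₂
  rw [← h, hz]
  rfl

end Groth.Agent.MagnetLib
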