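import Groth.Agent.MagnetLib.Avg
import Groth.Agent.MagnetLib.Points
import Groth.Agent.MagnetLib.Extend
import Mathlib.RingTheory.TensorProduct.MonoidAlgebra

/-!
# Averaging over a diagonalizable group scheme
-/

set_option autoImplicit false
set_option backward.isDefEq.respectTransparency false

universe u

noncomputable section

open CategoryTheory CategoryTheory.Limits MonoidalCategory CartesianMonoidalCategory MonObj AlgebraicGeometry Opposite
open scoped TensorProduct

namespace Groth.Agent.MagnetLib.Avg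

open Magnet Magnet.MonAct

variable {S : Scheme.{u}} (M : Type) [AddCommMonoid M]
variable (C : Type u) [CommRing C] (c : Spec (CommRingCat.of C) ⟶ S)

/-- Functions on the group over `C`. -/
abbrev gRing : Type u := MonoidAlgebra C (Multiplicative M)

/-- The constants. -/
abbrev incl : C →+* gRing M C := MonoidAlgebra.singleOneRingHom

/-- The monomial of degree `m`. -/
abbrev mono (m : M) : gRing M C := MonoidAlgebra.single (Multiplicative.ofAdd m) 1

/-- `Spec C[M]` over `S`. -/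
abbrev gOver : Over S := Over.mk (Spec.map (CommRingCat.ofHom (incl M C)) ≫ c)

section Chart

attribute [local instance] ULift.algebra'

/-- `C ⊗ ℤ[M] = C[M]`. -/
def tensorIso : CommRingCat.of (C ⊗[ULift.{u} ℤ] zAlg.{u} M) ≅ CommRingCat.of (gRing M C) :=
  (MonoidAlgebra.scalarTensorEquiv (ULift.{u} ℤ) C (M := Multiplicative M)).toRingEquiv.toCommRingCatIso

theorem tensorIso_left :
    CommRingCat.ofHom Algebra.TensorProduct.includeLeftRingHom ≫ (tensorIso M C).hom =
      CommRingCat.ofHom (incl M C) := by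
  refine CommRingCat.hom_ext (RingHom.ext fun x => ?_)
  change MonoidAlgebra.scalarTensorEquiv (ULift.{u} ℤ) C (x ⊗ₜ[ULift.{u} ℤ] (1 : zAlg.{u} M)) = _
  rw [MonoidAlgebra.scalarTensorEquiv_tmul, map_one, ← Algebra.algebraMap_eq_smul_one]
  rfl

theorem tensorIso_right (m : M) :
    (tensorIso M C).hom ((Algebra.TensorProduct.includeRight : zAlg.{u} M →ₐ[ULift.{u} ℤ] _)
      (MonoidAlgebra.single (Multiplicative.ofAdd m) 1)) = mono M C m := by
  change MonoidAlgebra.scalarTensorEquiv (ULift.{u} ℤ) C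
    ((1 : C) ⊗ₜ[ULift.{u} ℤ] (MonoidAlgebra.single (Multiplicative.ofAdd m) 1 : zAlg.{u} M)) = _
  rw [MonoidAlgebra.scalarTensorEquiv_tmul, one_smul]
  simp

theorem chart_hc : Spec.map (CommRingCat.ofHom (algebraMap (ULift.{u} ℤ) C)) = c ≫ toZ S :=
  specULiftZIsTerminal.hom_ext _ _

/-- The coordinates on the group over an affine. -/
def gc : gOver M C c ⟶ AMonS S M ⊗ Over.mk c :=
  Over.homMk (Spec.map (tensorIso M C).hom ≫ Extend.chart (toZ S) (zAlg.{u} M) c (chart_hc C c)) (by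
    erw [Category.assoc, Extend.chart_w (toZ S) (zAlg.{u} M) c (chart_hc C c)]
    rw [← Category.assoc, ← Spec.map_comp, tensorIso_left]
    rfl)

instance : IsIso (gc M C c) :=
  haveI : IsIso ((Over.forget S).map (gc M C c)) := by
    have := Extend.isIso_chart (toZ S) (zAlg.{u} M) c (chart_hc C c)
    exact IsIso.comp_isIso' inferInstance this
  isIso_of_reflects_iso _ (Over.forget S)

theorem gc_snd : (gc M C c ≫ snd _ _).left = Spec.map (CommRingCat.ofHom (incl M C)) := by
  rw [← tensorIso_left, Spec.map_comp, ← Extend.chart_snd (toZ S) (zAlg.{u} M) c (chart_hc C c)]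
  exact Category.assoc _ _ _

theorem mFn_gc_fst (m : M) :
    mFn (gc M C c ≫ fst _ _) m = (Scheme.ΓSpecIso (CommRingCat.of (gRing M C))).inv (mono M C m) := by
  let φ : CommRingCat.of (zAlg.{u} M) ⟶ CommRingCat.of (gRing M C) :=
    CommRingCat.ofHom (Algebra.TensorProduct.includeRight :
      zAlg.{u} M →ₐ[ULift.{u} ℤ] C ⊗[ULift.{u} ℤ] zAlg.{u} M).toRingHom ≫ (tensorIso M C).hom
  have e : (gc M C c ≫ fst _ _).left ≫ pullback.fst (AMon (ULift.{u} ℤ) M).hom (toZ S) = Spec.map φ := by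
    rw [Spec.map_comp]
    refine (Category.assoc _ _ _).trans ((Category.assoc _ _ _).trans ?_)
    exact congrArg (_ ≫ ·) (Extend.chart_fst_fst (toZ S) (zAlg.{u} M) c (chart_hc C c))
  rw [mFn, mPt, CommRingCat.hom_comp, RingHom.comp_apply, e, ← tensorIso_right M C m]
  exact congr($(Scheme.ΓSpecIso_inv_naturality φ) (MonoidAlgebra.single (Multiplicative.ofAdd m) 1)).symm

end Chart

variable {M C c}

/-- The degree-zero coefficient. -/
def retr0 : gRing M C →+ C :=
  (Finsupp.applyAddHom (1 : Multiplicative M)).comp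
    (MonoidAlgebra.coeffLinearEquiv C).toLinearMap.toAddMonoidHom

theorem retr0_incl (x : C) : retr0 (incl M C x) = x := by
  simp [retr0]

theorem retr0_incl_mul (x : C) (z : gRing M C) : retr0 (incl M C x * z) = x * retr0 z := by
  change (MonoidAlgebra.single (1 : Multiplicative M) x * z).coeff 1 = x * z.coeff 1
  rw [MonoidAlgebra.coeff_single_one_mul]

variable (M C) in
/-- Evaluation at the unit of the group. -/
def unitEval : gRing M C →+* C :=
  (MonoidAlgebra.lift C C (Multiplicative M) 1).toRingHom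

theorem unitEval_incl : (unitEval M C).comp (incl M C) = RingHom.id C := RingHom.ext fun x => by
  change MonoidAlgebra.lift C C (Multiplicative M) 1 (MonoidAlgebra.single 1 x) = x
  simp

variable {J : Ideal C} (hJ : J ^ 2 = ⊥) {X Y : Over S}

/-- `ℓ` is the average of `F`. -/
def Av (F : AMonS S M ⊗ Over.mk c ⟶ X) (ℓ : Over.mk c ⟶ X) : Prop :=
  ∃ x, IsAvg (ι₀ := incl M C) (J := J) retr0 retr0_incl_mul retr0_incl hJ (gc M C c ≫ F).left x ℓ.left

/-- `F` is constant modulo `J`. -/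
def ConstMod (J : Ideal C) (F : AMonS S M ⊗ Over.mk c ⟶ X) : Prop :=
  ∃ x : Spec (CommRingCat.of (C ⧸ J)) ⟶ X.left,
    Spec.map (CommRingCat.ofHom (Ideal.Quotient.mk (J.map (incl M C)))) ≫ (gc M C c ≫ F).left =
      Spec.map (CommRingCat.ofHom (quotMap (incl M C) J)) ≫ x

theorem isAvg_unique' {Z : Scheme.{u}} {F : Spec (CommRingCat.of (gRing M C)) ⟶ Z}
    {x x' : Spec (CommRingCat.of (C ⧸ J)) ⟶ Z} {ℓ ℓ' : Spec (CommRingCat.of C) ⟶ Z}
    (hx : IsAvg (ι₀ := incl M C) (J := J) retr0 retr0_incl_mul retr0_incl hJ F x ℓ)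
    (hx' : IsAvg (ι₀ := incl M C) (J := J) retr0 retr0_incl_mul retr0_incl hJ F x' ℓ') :
    ℓ = ℓ' := by
  obtain ⟨ψ, h1, h2, h3⟩ := id hx
  obtain ⟨ψ', h1', h2', h3'⟩ := id hx'
  have hq : ∀ (z : Spec (CommRingCat.of (almostConst (incl M C) J)) ⟶ Z),
      Spec.map (CommRingCat.ofHom (quotMap (incl M C) J)) ≫
          Spec.map (CommRingCat.ofHom ((Ideal.Quotient.mk J).comp
            (retrHom retr0 retr0_incl_mul retr0_incl hJ))) ≫ z =
        Spec.map (CommRingCat.ofHom (Ideal.Quotient.mk (J.map (incl M C)))) ≫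
          Spec.map (CommRingCat.ofHom (almostConst (incl M C) J).subtype) ≫ z := fun z => by
    rw [← Category.assoc, ← Category.assoc]
    exact congrArg (· ≫ z) (isPushout_almostConst _ _ _ hJ).w
  have hu : J.map (incl M C) ≤ J.comap (unitEval M C) := by
    rw [Ideal.map_le_iff_le_comap, Ideal.comap_comap, unitEval_incl, Ideal.comap_id]
  have hs : (Ideal.quotientMap J (unitEval M C) hu).comp (quotMap (incl M C) J) = RingHom.id _ := by
    refine Ideal.Quotient.ringHom_ext ?_
    rw [RingHom.comp_assoc, Ideal.quotientMap_comp_mk, ← RingHom.comp_assoc, Ideal.quotientMap_comp_mk,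
      RingHom.comp_assoc, unitEval_incl, RingHom.comp_id, RingHom.id_comp]
  have : IsSplitEpi (Spec.map (CommRingCat.ofHom (quotMap (incl M C) J))) :=
    ⟨⟨⟨Spec.map (CommRingCat.ofHom (Ideal.quotientMap J (unitEval M C) hu)), by
      rw [← Spec.map_comp, ← CommRingCat.ofHom_comp, hs]; exact Spec.map_id _⟩⟩⟩
  obtain rfl : x = x' := by
    have e := hq ψ
    have e' := hq ψ'
    rw [h1, h2] at e
    rw [h1', h2'] at e'
    exact (cancel_epi _).1 (e.trans e'.symm)
  exact hx.unique hx'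

theorem av_unique {F : AMonS S M ⊗ Over.mk c ⟶ X} {ℓ ℓ' : Over.mk c ⟶ X} (h : Av hJ F ℓ) (h' : Av hJ F ℓ') :
    ℓ = ℓ' := by
  obtain ⟨x, hx⟩ := h
  obtain ⟨x', hx'⟩ := h'
  exact Over.OverMorphism.ext (isAvg_unique' hJ hx hx')

theorem av_const (f : Over.mk c ⟶ X) : Av (M := M) hJ (snd _ _ ≫ f) f := by
  refine ⟨Spec.map (CommRingCat.ofHom (Ideal.Quotient.mk J)) ≫ f.left, ?_⟩
  rw [← Category.assoc (gc M C c), Over.comp_left, gc_snd]
  exact isAvg_const (hJ := hJ) f.left

theorem av_comp {F : AMonS S M ⊗ Over.mk c ⟶ X} {ℓ : Over.mk c ⟶ X} (h : Av hJ F ℓ) (f : X ⟶ Y) :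
    Av hJ (F ≫ f) (ℓ ≫ f) := by
  obtain ⟨x, hx⟩ := h
  exact ⟨x ≫ f.left, by rw [← Category.assoc (gc M C c), Over.comp_left]; exact hx.comp f.left⟩

theorem av_comp_quot {F : AMonS S M ⊗ Over.mk c ⟶ X} {ℓ : Over.mk c ⟶ X} (h : Av hJ F ℓ) :
    Spec.map (CommRingCat.ofHom (Ideal.Quotient.mk (J.map (incl M C)))) ≫ (gc M C c ≫ F).left =
      Spec.map (CommRingCat.ofHom (quotMap (incl M C) J)) ≫
        Spec.map (CommRingCat.ofHom (Ideal.Quotient.mk J)) ≫ ℓ.left := by
  obtain ⟨x, hx⟩ := h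
  rw [hx.comp_quot]
  obtain ⟨ψ, h1, h2, -⟩ := id hx
  rw [← h1, ← h2, ← Category.assoc, ← Category.assoc]
  exact congrArg (· ≫ ψ) (isPushout_almostConst _ _ _ hJ).w.symm

theorem exists_av {F : AMonS S M ⊗ Over.mk c ⟶ X} (h : ConstMod J F) :
    ∃ ℓ, Av hJ F ℓ := by
  obtain ⟨x, hx⟩ := h
  obtain ⟨ℓ, hℓ⟩ := exists_isAvg retr0 retr0_incl_mul retr0_incl hJ hx
  have hw : ℓ ≫ X.hom = c := by
    have h2 := hℓ.comp X.hom
    rw [Over.w (gc M C c ≫ F)] at h2
    exact isAvg_unique' hJ h2 (isAvg_const c)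
  exact ⟨Over.homMk ℓ hw, x, hℓ⟩

/-- Averages of pairs. -/
theorem av_lift {F : AMonS S M ⊗ Over.mk c ⟶ X} {ℓ : Over.mk c ⟶ X} {G : AMonS S M ⊗ Over.mk c ⟶ Y}
    {m : Over.mk c ⟶ Y} (h : Av hJ F ℓ) (h' : Av hJ G m) :
    Av hJ (CartesianMonoidalCategory.lift F G) (CartesianMonoidalCategory.lift ℓ m) := by
  obtain ⟨x, ψ, h1, h2, h3⟩ := h
  obtain ⟨x', ψ', h1', h2', h3'⟩ := h'
  have hp := isPushout_almostConst (ι₀ := incl M C) (J := J) retr0 retr0_incl_mul retr0_incl hJ
  have hb : ψ ≫ X.hom = ψ' ≫ Y.hom := by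
    refine hp.hom_ext ?_ ?_
    · rw [CommRingCat.ofHom_comp, Spec.map_comp, Category.assoc, Category.assoc]
      congr 1
      rw [reassoc_of% h3, reassoc_of% h3', Over.w ℓ, Over.w m]
    · rw [reassoc_of% h1, reassoc_of% h1', Over.w, Over.w]
  refine ⟨_, pullback.lift ψ ψ' hb, ?_, rfl, ?_⟩ <;> refine pullback.hom_ext ?_ ?_
  · rw [Category.assoc, pullback.lift_fst, h1]
    exact congrArg CommaMorphism.left ((Category.assoc _ _ _).trans (congrArg (gc M C c ≫ ·) (lift_fst F G))).symm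
  · rw [Category.assoc, pullback.lift_snd, h1']
    exact congrArg CommaMorphism.left ((Category.assoc _ _ _).trans (congrArg (gc M C c ≫ ·) (lift_snd F G))).symm
  · rw [Category.assoc, pullback.lift_fst, h3]
    exact congrArg CommaMorphism.left (lift_fst ℓ m).symm
  · rw [Category.assoc, pullback.lift_snd, h3']
    exact congrArg CommaMorphism.left (lift_snd ℓ m).symm

theorem appTop_spec {D E : Type u} [CommRing D] [CommRing E] (φ : D →+* E) (z : D) :
    (Spec.map (CommRingCat.ofHom φ)).appTop ((Scheme.ΓSpecIso (CommRingCat.of D)).inv z) =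
      (Scheme.ΓSpecIso (CommRingCat.of E)).inv (φ z) :=
  congr($(Scheme.ΓSpecIso_inv_naturality (CommRingCat.ofHom φ)) z).symm

theorem gc_comp_ext {T : Over S} {u v : gOver M C c ⟶ AMonS S M ⊗ T}
    (h₁ : ∀ m, mFn (u ≫ fst _ _) m = mFn (v ≫ fst _ _) m) (h₂ : u ≫ snd _ _ = v ≫ snd _ _) : u = v :=
  CartesianMonoidalCategory.hom_ext _ _ (mFn_ext h₁) h₂

variable {C' : Type u} [CommRing C'] {c' : Spec (CommRingCat.of C') ⟶ S} {J' : Ideal C'} {hJ' : J' ^ 2 = ⊥}

/-- Averaging commutes with base change. -/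
theorem av_map {F : AMonS S M ⊗ Over.mk c ⟶ X} {ℓ : Over.mk c ⟶ X} (h : Av hJ F ℓ) (φ : C →+* C')
    (hφ : J ≤ J'.comap φ) (t : Over.mk c' ⟶ Over.mk c) (ht : t.left = Spec.map (CommRingCat.ofHom φ)) :
    Av hJ' ((AMonS S M ◁ t) ≫ F) (t ≫ ℓ) := by
  obtain ⟨x, hx⟩ := h
  let φR : gRing M C →+* gRing M C' := MonoidAlgebra.mapRingHom (Multiplicative M) φ
  have hr : ∀ a, retr0 (φR a) = φ (retr0 a) := fun a => by simp [φR, retr0]
  have hι : φR.comp (incl M C) = (incl M C').comp φ := RingHom.ext fun a => by simp [φR]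
  have key : ((gc M C' c') ≫ (AMonS S M ◁ t)).left = Spec.map (CommRingCat.ofHom φR) ≫ (gc M C c).left := by
    let u : gOver M C' c' ⟶ gOver M C c := Over.homMk (Spec.map (CommRingCat.ofHom φR)) (by
      change Spec.map _ ≫ Spec.map _ ≫ c = _ ≫ c'
      have hc : Spec.map (CommRingCat.ofHom φ) ≫ c = c' := by rw [← ht]; exact Over.w t
      rw [← hc, ← Category.assoc, ← Category.assoc, ← Spec.map_comp, ← Spec.map_comp, ← CommRingCat.ofHom_comp,
        ← CommRingCat.ofHom_comp, hι])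
    suffices gc M C' c' ≫ (AMonS S M ◁ t) = u ≫ gc M C c from congrArg CommaMorphism.left this
    refine gc_comp_ext (fun m => ?_) ?_
    · rw [Category.assoc, whiskerLeft_fst, mFn_gc_fst, Category.assoc, mFn_comp, mFn_gc_fst]
      change _ = (Spec.map (CommRingCat.ofHom φR)).appTop _
      rw [appTop_spec]
      congr 1
      simp [φR]
    · refine Over.OverMorphism.ext ?_
      rw [Category.assoc, whiskerLeft_snd, Category.assoc u]
      change (gc M C' c' ≫ snd _ _).left ≫ t.left = u.left ≫ (gc M C c ≫ snd _ _).left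
      rw [gc_snd, gc_snd, ht]
      change Spec.map _ ≫ Spec.map _ = Spec.map _ ≫ Spec.map _
      rw [← Spec.map_comp, ← Spec.map_comp, ← CommRingCat.ofHom_comp, ← CommRingCat.ofHom_comp, hι]
  refine ⟨Spec.map (CommRingCat.ofHom (Ideal.quotientMap J' φ hφ)) ≫ x, ?_⟩
  have e : (gc M C' c' ≫ (AMonS S M ◁ t) ≫ F).left = Spec.map (CommRingCat.ofHom φR) ≫ (gc M C c ≫ F).left := by
    rw [← Category.assoc, Over.comp_left, key, Over.comp_left, Category.assoc]
  rw [e, show (t ≫ ℓ).left = t.left ≫ ℓ.left from rfl, ht]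
  exact hx.map (hr1' := retr0_incl_mul) (hrι' := retr0_incl) φ φR hι hφ hr

/-- Averages are invariant under translation. -/
theorem av_translate {F : AMonS S M ⊗ Over.mk c ⟶ X} {ℓ : Over.mk c ⟶ X} (h : Av hJ F ℓ)
    (p : Over.mk c ⟶ AMonS S M) :
    Av hJ (CartesianMonoidalCategory.lift (fst _ _ * (snd _ _ ≫ p)) (snd _ _) ≫ F) ℓ := by
  obtain ⟨x, hx⟩ := h
  let χ : Multiplicative M →* C :=
    { toFun := fun m => (Scheme.ΓSpecIso (CommRingCat.of C)).hom (mFn p m.toAdd)
      map_one' := by simp [mFn_zero]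
      map_mul' := fun a b => by simp [mFn_add] }
  let τ : gRing M C →ₐ[C] gRing M C := MonoidAlgebra.lift C (gRing M C) (Multiplicative M)
    { toFun := fun m => MonoidAlgebra.single m (χ m)
      map_one' := by simp [MonoidAlgebra.one_def]
      map_mul' := fun a b => by simp [MonoidAlgebra.single_mul_single] }
  have hτ : ∀ (m : Multiplicative M) (a : C), τ (MonoidAlgebra.single m a) = MonoidAlgebra.single m (a * χ m) :=
    fun m a => by simp [τ, MonoidAlgebra.smul_single]
  have hι : τ.toRingHom.comp (incl M C) = (incl M C).comp (RingHom.id C) := RingHom.ext fun a => by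
    change τ (MonoidAlgebra.single 1 a) = _
    rw [hτ]
    simp
  have hr : ∀ a, retr0 (τ.toRingHom a) = RingHom.id C (retr0 a) := fun a => by
    induction a using MonoidAlgebra.induction_linear with
    | zero => simp
    | add a b ha hb => simp only [map_add, ha, hb]
    | single m r =>
      change retr0 (τ (MonoidAlgebra.single m r)) = retr0 (MonoidAlgebra.single m r)
      rw [hτ]
      by_cases hm : m = 1
      · subst hm; simp
      · simp [retr0, Finsupp.single_eq_of_ne' hm]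
  let u : gOver M C c ⟶ gOver M C c := Over.homMk (Spec.map (CommRingCat.ofHom τ.toRingHom)) (by
    change Spec.map _ ≫ Spec.map _ ≫ c = _ ≫ c
    rw [← Category.assoc, ← Spec.map_comp, ← CommRingCat.ofHom_comp, hι, RingHom.comp_id])
  have key : gc M C c ≫ CartesianMonoidalCategory.lift (fst _ _ * (snd _ _ ≫ p)) (snd _ _) = u ≫ gc M C c := by
    refine gc_comp_ext (fun m => ?_) ?_
    · rw [Category.assoc, lift_fst, MonObj.comp_mul, mFn_mul, mFn_gc_fst, ← Category.assoc, mFn_comp, gc_snd,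
        Category.assoc, mFn_comp, mFn_gc_fst]
      change _ = (Spec.map (CommRingCat.ofHom τ.toRingHom)).appTop _
      have e : mFn p m = (Scheme.ΓSpecIso (CommRingCat.of C)).inv (χ (Multiplicative.ofAdd m)) :=
        ((Scheme.ΓSpecIso (CommRingCat.of C)).commRingCatIsoToRingEquiv.symm_apply_apply _).symm
      rw [e, appTop_spec]
      erw [appTop_spec (incl M C)]
      refine (map_mul (Scheme.ΓSpecIso (CommRingCat.of (gRing M C))).inv.hom _ _).symm.trans ?_
      refine congrArg _ ?_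
      refine Eq.trans ?_ (hτ (Multiplicative.ofAdd m) 1).symm
      exact (MonoidAlgebra.single_mul_single (Multiplicative.ofAdd m) 1 1 (χ (Multiplicative.ofAdd m))).trans (by rw [_root_.mul_one])
    · refine Over.OverMorphism.ext ?_
      rw [Category.assoc, lift_snd, Category.assoc u]
      change (gc M C c ≫ snd _ _).left = u.left ≫ (gc M C c ≫ snd _ _).left
      rw [gc_snd]
      change _ = Spec.map _ ≫ Spec.map _
      rw [← Spec.map_comp, ← CommRingCat.ofHom_comp, hι, RingHom.comp_id]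
  refine ⟨Spec.map (CommRingCat.ofHom (Ideal.quotientMap J (RingHom.id C) (Ideal.comap_id J).ge)) ≫ x, ?_⟩
  have e : (gc M C c ≫ CartesianMonoidalCategory.lift (fst _ _ * (snd _ _ ≫ p)) (snd _ _) ≫ F).left =
      Spec.map (CommRingCat.ofHom τ.toRingHom) ≫ (gc M C c ≫ F).left := by
    rw [← Category.assoc, key]
    exact Category.assoc _ _ _
  rw [e, show ℓ.left = Spec.map (CommRingCat.ofHom (RingHom.id C)) ≫ ℓ.left by simp]
  exact hx.map (hr1' := retr0_incl_mul) (hrι' := retr0_incl) (RingHom.id C) τ.toRingHom hι (Ideal.comap_id J).ge hr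

end Groth.Agent.MagnetLib.Avg
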