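import Groth.Agent.MagnetLib.Quot
import Mathlib.FieldTheory.RatFunc.Basic
import Mathlib.RingTheory.Spectrum.Prime.RingHom

/-!
# Equivariant families on the affine line are determined by their infinitesimal neighbourhoods of zero

Over an affine `Y = Spec B` two families agreeing modulo every power of the coordinate agree on an open neighbourhood
of the zero section; its translates by the torus cover the line.
-/

set_option autoImplicit false
set_option backward.isDefEq.respectTransparency false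

universe u

noncomputable section

open CategoryTheory CategoryTheory.Limits MonoidalCategory CartesianMonoidalCategory MonObj AlgebraicGeometry Opposite
open scoped Polynomial

namespace Groth.Agent.MagnetLib.BB

open Magnet Magnet.MonAct

section Ring

variable {B : Type u} [CommRing B]

theorem eq_zero_of_forall_dvd (b : B) (s₀ p : B[X])
    (hp : ∀ n, Polynomial.X ^ n ∣ p.map (algebraMap B (Localization.Away b))) :
    ∃ l : ℕ, (s₀ * Polynomial.C b) ^ l * p = 0 := by
  classical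
  have hc : ∀ i, ∃ l : ℕ, b ^ l * p.coeff i = 0 := fun i => by
    have h := Polynomial.X_pow_dvd_iff.1 (hp (i + 1)) i (Nat.lt_succ_self i)
    rw [Polynomial.coeff_map, IsLocalization.map_eq_zero_iff (Submonoid.powers b)] at h
    obtain ⟨⟨_, l, rfl⟩, hl⟩ := h
    exact ⟨l, hl⟩
  choose l hl using hc
  let m := p.support.sup l
  have h0 : Polynomial.C (b ^ m) * p = 0 := Polynomial.ext fun i => by
    rw [Polynomial.coeff_C_mul, Polynomial.coeff_zero]
    by_cases hi : i ∈ p.support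
    · obtain ⟨d, hd⟩ := Nat.exists_eq_add_of_le (Finset.le_sup (f := l) hi)
      change b ^ p.support.sup l * p.coeff i = 0
      rw [hd, pow_add, mul_right_comm, hl, zero_mul]
    · rw [Polynomial.notMem_support_iff.1 hi, mul_zero]
  refine ⟨m, ?_⟩
  rw [mul_pow, ← Polynomial.C_pow, _root_.mul_assoc, h0, mul_zero]

theorem exists_test {B' : Type u} [CommRing B'] (f : B →+* B') (s₀ : B[X]) (hb : IsUnit (f (s₀.coeff 0))) (n : ℕ) :
    ∃ (R : Type u) (_ : CommRing R) (φ : Localization.Away (s₀ * Polynomial.C (s₀.coeff 0)) →+* R)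
      (g' : B[X] ⧸ Ideal.span {(Polynomial.X : B[X]) ^ n} →+* R),
      φ.comp (algebraMap B[X] _) = g'.comp (Ideal.Quotient.mk _) ∧
      ∀ p : B[X], φ (algebraMap B[X] _ p) = 0 → Polynomial.X ^ n ∣ p.map f := by
  let J : Ideal B'[X] := Ideal.span {Polynomial.X ^ n}
  let g : B[X] →+* B'[X] ⧸ J := (Ideal.Quotient.mk J).comp (Polynomial.mapRingHom f)
  have hX : g (Polynomial.X ^ n) = 0 := by
    change Ideal.Quotient.mk J (Polynomial.map f (Polynomial.X ^ n)) = 0
    rw [Polynomial.map_pow, Polynomial.map_X]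
    exact Ideal.Quotient.eq_zero_iff_mem.2 (Ideal.mem_span_singleton_self _)
  have hC : IsUnit (g (Polynomial.C (s₀.coeff 0))) := by
    refine IsUnit.map (Ideal.Quotient.mk J) ?_
    rw [Polynomial.coe_mapRingHom, Polynomial.map_C]
    exact Polynomial.isUnit_C.2 hb
  have h₀ : g s₀ = g (Polynomial.C (s₀.coeff 0)) + g (Polynomial.X * s₀.divX) := by
    rw [← map_add, add_comm, Polynomial.X_mul_divX_add]
  have hu : IsUnit (g (s₀ * Polynomial.C (s₀.coeff 0))) := by
    rw [map_mul, h₀]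
    refine IsUnit.mul (IsNilpotent.isUnit_add_left_of_commute ⟨n, ?_⟩ hC (Commute.all _ _)) hC
    rw [← map_pow, mul_pow, map_mul, hX, zero_mul]
  refine ⟨B'[X] ⧸ J, inferInstance, IsLocalization.Away.lift _ hu, Ideal.Quotient.lift _ g fun x hx => ?_, ?_,
    fun p hp => ?_⟩
  · obtain ⟨y, rfl⟩ := Ideal.mem_span_singleton.1 hx
    rw [map_mul, hX, zero_mul]
  · rw [IsLocalization.Away.lift_comp]
    rfl
  · rw [IsLocalization.Away.lift_eq] at hp
    exact Ideal.mem_span_singleton.1 (Ideal.Quotient.eq_zero_iff_mem.1 hp)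

/-- Two maps agreeing modulo all powers of the coordinate agree near the zero section. -/
theorem exists_eq_near {X₀ : Scheme.{u}} (δ₁ δ₂ : Spec (CommRingCat.of B[X]) ⟶ X₀)
    (h : ∀ n : ℕ, Spec.map (CommRingCat.ofHom (Ideal.Quotient.mk (Ideal.span {(Polynomial.X : B[X]) ^ n}))) ≫ δ₁ =
      Spec.map (CommRingCat.ofHom (Ideal.Quotient.mk (Ideal.span {(Polynomial.X : B[X]) ^ n}))) ≫ δ₂)
    (q : PrimeSpectrum B[X]) (hq : Polynomial.X ∈ q.asIdeal) :
    ∃ s : B[X], s ∉ q.asIdeal ∧ Spec.map (CommRingCat.ofHom (algebraMap B[X] (Localization.Away s))) ≫ δ₁ =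
      Spec.map (CommRingCat.ofHom (algebraMap B[X] (Localization.Away s))) ≫ δ₂ := by
  obtain ⟨q', hq'⟩ : ∃ q', PrimeSpectrum.comap (Ideal.Quotient.mk (Ideal.span {(Polynomial.X : B[X]) ^ 1})) q' = q := by
    have hm : q ∈ Set.range (PrimeSpectrum.comap (Ideal.Quotient.mk (Ideal.span {(Polynomial.X : B[X]) ^ 1}))) := by
      rw [range_comap_of_surjective _ _ Ideal.Quotient.mk_surjective, Ideal.mk_ker]
      refine (PrimeSpectrum.mem_zeroLocus _ _).2 ?_
      exact Ideal.span_le.2 (Set.singleton_subset_iff.2 (by simpa using hq))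
    exact hm
  have hpt : δ₁ q = δ₂ q := by
    rw [← hq']
    exact congrArg (fun k : _ ⟶ X₀ => k q') (h 1)
  obtain ⟨W, hW, hqW, -⟩ := exists_isAffineOpen_mem_and_subset (x := δ₁ q) (U := ⊤) trivial
  obtain ⟨_, ⟨_, ⟨s₀, rfl⟩, rfl⟩, hqs, hsub⟩ := PrimeSpectrum.isBasis_basic_opens.exists_subset_of_mem_open
    (show q ∈ ((δ₁ ⁻¹' (W : Set X₀)) ∩ δ₂ ⁻¹' (W : Set X₀) : Set (PrimeSpectrum B[X])) from
      ⟨hqW, show δ₂ q ∈ W from hpt ▸ hqW⟩) ((W.2.preimage δ₁.continuous).inter (W.2.preimage δ₂.continuous))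
  let b := s₀.coeff 0
  let s := s₀ * Polynomial.C b
  have hs₀ : s₀ ∉ q.asIdeal := hqs
  have hb : Polynomial.C b ∉ q.asIdeal := fun hb => hs₀ (by
    rw [← Polynomial.X_mul_divX_add s₀]
    exact q.asIdeal.add_mem (Ideal.mul_mem_right _ _ hq) hb)
  refine ⟨s, fun hs => (q.isPrime.mem_or_mem hs).elim hs₀ hb, ?_⟩
  have hr : ∀ (z : Spec (CommRingCat.of (Localization.Away s))),
      Spec.map (CommRingCat.ofHom (algebraMap B[X] (Localization.Away s))) z ∈
        (PrimeSpectrum.basicOpen s₀ : Set (PrimeSpectrum B[X])) := fun z => by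
    have hz : Spec.map (CommRingCat.ofHom (algebraMap B[X] (Localization.Away s))) z ∈
        (PrimeSpectrum.basicOpen s : Set (PrimeSpectrum B[X])) := by
      rw [← PrimeSpectrum.localization_away_comap_range (Localization.Away s) s]
      exact ⟨z, rfl⟩
    exact PrimeSpectrum.basicOpen_mul_le_left _ _ hz
  obtain ⟨ρ₁, hρ₁⟩ := Extend.exists_spec_factor hW
    (Spec.map (CommRingCat.ofHom (algebraMap B[X] (Localization.Away s))) ≫ δ₁) fun z => (hsub (hr z)).1
  obtain ⟨ρ₂, hρ₂⟩ := Extend.exists_spec_factor hW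
    (Spec.map (CommRingCat.ofHom (algebraMap B[X] (Localization.Away s))) ≫ δ₂) fun z => (hsub (hr z)).2
  rw [← hρ₁, ← hρ₂]
  suffices e : ρ₁ = ρ₂ by rw [e]
  refine CommRingCat.hom_ext (RingHom.ext fun r => sub_eq_zero.1 ?_)
  obtain ⟨k, p, hp⟩ := IsLocalization.Away.surj s (ρ₁ r - ρ₂ r)
  have : IsOpenImmersion hW.fromSpec := IsAffineOpen.isOpenImmersion_fromSpec _
  have hdvd : ∀ n, Polynomial.X ^ n ∣ p.map (algebraMap B (Localization.Away b)) := by
    intro n
    obtain ⟨R, _, φ, g', hφ, hker⟩ := exists_test (algebraMap B (Localization.Away b)) s₀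
      (IsLocalization.Away.algebraMap_isUnit b) n
    have e : ρ₁ ≫ CommRingCat.ofHom φ = ρ₂ ≫ CommRingCat.ofHom φ := by
      apply Spec.map_injective
      rw [Spec.map_comp, Spec.map_comp, ← cancel_mono hW.fromSpec, Category.assoc, Category.assoc, hρ₁, hρ₂,
        ← Category.assoc, ← Category.assoc, ← Spec.map_comp, ← CommRingCat.ofHom_comp, hφ,
        CommRingCat.ofHom_comp, Spec.map_comp, Category.assoc, Category.assoc, h n]
    have e' : φ (ρ₁ r) = φ (ρ₂ r) := congr(($e).hom r)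
    have h0 := congrArg φ hp
    rw [map_mul, map_sub, e', sub_self, zero_mul] at h0
    exact hker p h0.symm
  obtain ⟨l, hl⟩ := eq_zero_of_forall_dvd b s₀ p hdvd
  have hp0 : algebraMap B[X] (Localization.Away s) p = 0 :=
    (IsLocalization.map_eq_zero_iff (Submonoid.powers s) _ _).2 ⟨⟨_, l, rfl⟩, hl⟩
  rw [hp0] at hp
  exact (IsUnit.mul_left_eq_zero ((IsLocalization.Away.algebraMap_isUnit s).pow k)).1 hp

end Ring

/-- The monoid of non-negative integers inside `ℤ`. -/
abbrev N1 : AddSubmonoid ℤ := AddSubmonoid.multiples 1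

/-- The generator. -/
def one1 : N1 := ⟨1, AddSubmonoid.mem_multiples 1⟩

theorem nonneg (n : N1) : 0 ≤ (n : ℤ) := by
  obtain ⟨k, hk⟩ := (AddSubmonoid.mem_multiples_iff _ _).1 n.2
  rw [← hk]
  simp

/-- An element as a natural number. -/
def deg : N1 →+ ℕ where
  toFun n := (n : ℤ).toNat
  map_zero' := rfl
  map_add' a b := Int.toNat_add (nonneg a) (nonneg b)

theorem eq_deg_smul (n : N1) : n = deg n • one1 := by
  refine Subtype.ext ?_
  simp [one1, deg, Int.toNat_of_nonneg (nonneg n)]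

theorem deg_one1 : deg one1 = 1 := rfl

/-- `n ↦ (n, n)`. -/
def diag : N1 →+ N1 × ℤ := (AddMonoidHom.id N1).prod N1.subtype

theorem isFreeOver_diag : IsFreeOver diag := by
  refine ⟨ℤ, ⟨0⟩, fun c => (0, c), ?_, ?_⟩
  · rintro ⟨c, n⟩ ⟨c', n'⟩ h
    have h₁ : (0 : N1) + n = 0 + n' := congrArg Prod.fst h
    have h₂ : c + (n : ℤ) = c' + (n' : ℤ) := congrArg Prod.snd h
    simp only [zero_add] at h₁
    subst h₁
    exact Prod.ext (add_right_cancel h₂) rfl
  · rintro ⟨n, j⟩
    exact ⟨(j - (n : ℤ), n), Prod.ext (zero_add n) (sub_add_cancel j (n : ℤ))⟩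

variable {S : Scheme.{u}} {W : Over S}

theorem mFn_deg (x : W ⟶ AMonS S N1) (n : N1) : mFn x n = mFn x one1 ^ deg n := by
  conv_lhs => rw [eq_deg_smul n]
  generalize deg n = k
  induction k with
  | zero => rw [zero_smul, mFn_zero, pow_zero]
  | succ k ih => rw [succ_nsmul, mFn_add, ih, pow_succ]

theorem ext_one1 {x y : W ⟶ AMonS S N1} (h : mFn x one1 = mFn y one1) : x = y :=
  mFn_ext fun n => by rw [mFn_deg x, mFn_deg y, h]

theorem exists_point (c : Γ(W.left, ⊤)) : ∃ x : W ⟶ AMonS S N1, mFn x one1 = c := by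
  obtain ⟨x, hx⟩ := mFn_surjective (S := S) (W := W) (M := N1)
    { toFun := fun n => c ^ deg n.toAdd
      map_one' := by simp
      map_mul' := fun a b => by simp [pow_add] }
  exact ⟨x, (hx one1).trans (by simp [deg_one1])⟩

theorem mFn_pow (x : W ⟶ AMonS S N1) (k : ℕ) (n : N1) : mFn (x ^ (k + 1)) n = mFn x n ^ (k + 1) := by
  induction k with
  | zero => simp
  | succ k ih => rw [pow_succ x, mFn_mul, ih, ← pow_succ]

theorem isNilpotent_point (x : W ⟶ AMonS S N1) (k : ℕ) (h : mFn x one1 ^ (k + 1) = 0) (m' : W ⟶ AMonS S N1) :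
    x ^ (k + 1) * m' = x ^ (k + 1) := by
  refine mFn_ext fun n => ?_
  rw [mFn_mul, mFn_pow]
  by_cases hd : deg n = 0
  · rw [mFn_deg m', hd, pow_zero, _root_.mul_one]
  · rw [mFn_deg x, ← pow_mul, Nat.mul_comm, pow_mul, h, zero_pow hd, zero_mul]

/-- The value on global functions of a map into an affine scheme. -/
theorem toSpecΓ_apply {Z : Scheme.{u}} {R : Type u} [CommRing R] (φ : R →+* Γ(Z, ⊤)) (r : R) :
    (Z.toSpecΓ ≫ Spec.map (CommRingCat.ofHom φ)).appTop ((Scheme.ΓSpecIso (CommRingCat.of R)).inv r) = φ r := by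
  have : (Scheme.ΓSpecIso (CommRingCat.of R)).inv ≫ (Z.toSpecΓ ≫ Spec.map (CommRingCat.ofHom φ)).appTop =
      CommRingCat.ofHom φ := by
    simp [Scheme.toSpecΓ_appTop]
  exact congr($this r)

theorem hom_ext_gamma {Z : Scheme.{u}} {R : Type u} [CommRing R] {f g : Z ⟶ Spec (CommRingCat.of R)}
    (h : ∀ r, f.appTop ((Scheme.ΓSpecIso (CommRingCat.of R)).inv r) =
      g.appTop ((Scheme.ΓSpecIso (CommRingCat.of R)).inv r)) : f = g := by
  rw [eq_toSpecΓ_map f, eq_toSpecΓ_map g]
  congr 2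
  exact CommRingCat.hom_ext (RingHom.ext h)

section Affine

variable {B : Type u} [CommRing B] (c : Spec (CommRingCat.of B) ⟶ S)

/-- The structure map of functions on `A¹ × Spec B`. -/
def bFn : B →+* Γ((AMonS S N1 ⊗ Over.mk c).left, ⊤) :=
  ((Scheme.ΓSpecIso (CommRingCat.of B)).inv ≫ (snd (AMonS S N1) (Over.mk c)).left.appTop).hom

/-- `A¹ × Spec B → Spec B[X]`. -/
def coordV : (AMonS S N1 ⊗ Over.mk c).left ⟶ Spec (CommRingCat.of B[X]) :=
  (AMonS S N1 ⊗ Over.mk c).left.toSpecΓ ≫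
    Spec.map (CommRingCat.ofHom (Polynomial.eval₂RingHom (bFn c) (mFn (fst (AMonS S N1) (Over.mk c)) one1)))

theorem coordV_C (b : B) :
    (coordV c).appTop ((Scheme.ΓSpecIso (CommRingCat.of B[X])).inv (Polynomial.C b)) = bFn c b :=
  (toSpecΓ_apply _ _).trans (Polynomial.eval₂_C _ _)

theorem coordV_X :
    (coordV c).appTop ((Scheme.ΓSpecIso (CommRingCat.of B[X])).inv Polynomial.X) =
      mFn (fst (AMonS S N1) (Over.mk c)) one1 :=
  (toSpecΓ_apply _ _).trans (Polynomial.eval₂_X _ _)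

theorem coordV_comp : coordV c ≫ Spec.map (CommRingCat.ofHom Polynomial.C) = (snd (AMonS S N1) (Over.mk c)).left := by
  refine hom_ext_gamma fun b => ?_
  rw [Scheme.Hom.comp_appTop, CommRingCat.comp_apply]
  have e := congr($(Scheme.ΓSpecIso_inv_naturality (CommRingCat.ofHom (Polynomial.C : B →+* B[X]))) b)
  exact (congrArg (coordV c).appTop e.symm).trans (coordV_C c b)

theorem exists_open {X : Over S} (γ₁ γ₂ : AMonS S N1 ⊗ Over.mk c ⟶ X)
    (h : ∀ (T : Over S) (m : T ⟶ AMonS S N1) (t : T ⟶ Over.mk c),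
      (∃ n : ℕ, ∀ m' : T ⟶ AMonS S N1, m ^ (n + 1) * m' = m ^ (n + 1)) →
      CartesianMonoidalCategory.lift m t ≫ γ₁ = CartesianMonoidalCategory.lift m t ≫ γ₂) :
    ∃ O : (AMonS S N1 ⊗ Over.mk c).left.Opens, O.ι ≫ γ₁.left = O.ι ≫ γ₂.left ∧
      ∀ (L : Type u) [Field L] (z : Spec (CommRingCat.of L) ⟶ (AMonS S N1 ⊗ Over.mk c).left),
        (∀ p : B[X], z.appTop (p.eval₂ (bFn c) (mFn (fst (AMonS S N1) (Over.mk c)) one1)) = 0 →
          z.appTop (bFn c (p.coeff 0)) = 0) → ∀ w, z w ∈ O := by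
  let U : Over S := Over.mk (Spec.map (CommRingCat.ofHom (Polynomial.C : B →+* B[X])) ≫ c)
  let tU : U ⟶ Over.mk c := Over.homMk (Spec.map (CommRingCat.ofHom (Polynomial.C : B →+* B[X]))) rfl
  obtain ⟨P, hP⟩ := exists_point (W := U) ((Scheme.ΓSpecIso (CommRingCat.of B[X])).inv Polynomial.X)
  let u : U ⟶ AMonS S N1 ⊗ Over.mk c := CartesianMonoidalCategory.lift P tU
  let v : AMonS S N1 ⊗ Over.mk c ⟶ U := Over.homMk (coordV c) (by
    change coordV c ≫ Spec.map _ ≫ c = _
    rw [← Category.assoc, coordV_comp]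
    exact Over.w (snd (AMonS S N1) (Over.mk c)))
  have hvu : v ≫ u = 𝟙 _ := by
    apply CartesianMonoidalCategory.hom_ext
    · rw [Category.assoc, lift_fst, Category.id_comp]
      refine ext_one1 ?_
      rw [mFn_comp, hP]
      exact coordV_X c
    · rw [Category.assoc, lift_snd, Category.id_comp]
      exact Over.OverMorphism.ext (coordV_comp c)
  let δ₁ := (u ≫ γ₁).left
  let δ₂ := (u ≫ γ₂).left
  have hγ : ∀ gam : AMonS S N1 ⊗ Over.mk c ⟶ X, coordV c ≫ (u ≫ gam).left = gam.left := fun gam =>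
    congrArg Over.Hom.left (show v ≫ u ≫ gam = gam by rw [← Category.assoc, hvu, Category.id_comp])
  have hδ : ∀ n : ℕ, Spec.map (CommRingCat.ofHom (Ideal.Quotient.mk (Ideal.span {(Polynomial.X : B[X]) ^ n}))) ≫ δ₁ =
      Spec.map (CommRingCat.ofHom (Ideal.Quotient.mk (Ideal.span {(Polynomial.X : B[X]) ^ n}))) ≫ δ₂ := by
    intro n
    let mk' := Ideal.Quotient.mk (Ideal.span {(Polynomial.X : B[X]) ^ n})
    let Q : Over S := Over.mk (Spec.map (CommRingCat.ofHom mk') ≫ U.hom)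
    let q : Q ⟶ U := Over.homMk (Spec.map (CommRingCat.ofHom mk')) rfl
    have hn : mFn (q ≫ P) one1 ^ (n + 1) = 0 := by
      rw [mFn_comp, hP, ← map_pow]
      refine (congrArg q.left.appTop (map_pow (Scheme.ΓSpecIso (CommRingCat.of B[X])).inv.hom _ _).symm).trans ?_
      have e := congr($(Scheme.ΓSpecIso_inv_naturality (CommRingCat.ofHom mk')) (Polynomial.X ^ (n + 1)))
      refine e.symm.trans ?_
      have h0 : mk' (Polynomial.X ^ (n + 1)) = 0 := Ideal.Quotient.eq_zero_iff_mem.2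
        (Ideal.mem_span_singleton.2 (pow_dvd_pow _ (Nat.le_succ n)))
      exact (congrArg (Scheme.ΓSpecIso (CommRingCat.of (B[X] ⧸ Ideal.span {(Polynomial.X : B[X]) ^ n}))).inv.hom h0).trans
        (map_zero _)
    have h' := h Q (q ≫ P) (q ≫ tU) ⟨n, isNilpotent_point _ n hn⟩
    rw [← comp_lift, Category.assoc, Category.assoc] at h'
    exact congrArg Over.Hom.left h'
  let Good : B[X] → Prop := fun s => Spec.map (CommRingCat.ofHom (algebraMap B[X] (Localization.Away s))) ≫ δ₁ =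
    Spec.map (CommRingCat.ofHom (algebraMap B[X] (Localization.Away s))) ≫ δ₂
  let V : {s // Good s} → (AMonS S N1 ⊗ Over.mk c).left.Opens := fun s =>
    coordV c ⁻¹ᵁ PrimeSpectrum.basicOpen s.1
  refine ⟨⨆ s, V s, ?_, ?_⟩
  · refine Scheme.Cover.hom_ext (Scheme.Opens.iSupOpenCover V) _ _ fun s => ?_
    change Scheme.homOfLE _ (le_iSup V s) ≫ _ = Scheme.homOfLE _ (le_iSup V s) ≫ _
    rw [Scheme.homOfLE_ι_assoc, Scheme.homOfLE_ι_assoc, ← hγ γ₁, ← hγ γ₂, ← Category.assoc, ← Category.assoc]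
    have : IsOpenImmersion (Spec.map (CommRingCat.ofHom (algebraMap B[X] (Localization.Away s.1)))) :=
      IsOpenImmersion.of_isLocalization s.1
    have hr : Set.range ((V s).ι ≫ coordV c) ⊆
        Set.range (Spec.map (CommRingCat.ofHom (algebraMap B[X] (Localization.Away s.1)))) := by
      rintro _ ⟨z, rfl⟩
      have hz : ((V s).ι ≫ coordV c) z ∈ (PrimeSpectrum.basicOpen s.1 : Set (PrimeSpectrum B[X])) := z.2
      rw [← PrimeSpectrum.localization_away_comap_range (Localization.Away s.1) s.1] at hz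
      exact hz
    rw [← IsOpenImmersion.lift_fac _ _ hr, Category.assoc, Category.assoc]
    exact congrArg (_ ≫ ·) s.2
  · intro L _ z hz w
    let f₀ : B →+* Γ(Spec (CommRingCat.of L), ⊤) := z.appTop.hom.comp (bFn c)
    let e := (Scheme.ΓSpecIso (CommRingCat.of L)).commRingCatIsoToRingEquiv
    have : IsDomain Γ(Spec (CommRingCat.of L), ⊤) := MulEquiv.isDomain L e.toMulEquiv
    let q : PrimeSpectrum B[X] :=
      ⟨RingHom.ker (Polynomial.eval₂RingHom f₀ 0), RingHom.ker_isPrime _⟩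
    obtain ⟨s, hsq, hs⟩ := exists_eq_near δ₁ δ₂ hδ q (RingHom.mem_ker.2 (Polynomial.eval₂_X _ _))
    refine TopologicalSpace.Opens.mem_iSup.2 ⟨⟨s, hs⟩, ?_⟩
    change z w ∈ coordV c ⁻¹ᵁ PrimeSpectrum.basicOpen s
    rw [coordV, Scheme.Hom.comp_preimage]
    have hne : z.appTop (s.eval₂ (bFn c) (mFn (fst (AMonS S N1) (Over.mk c)) one1)) ≠ 0 := fun h0 => hsq (by
      rw [RingHom.mem_ker, Polynomial.coe_eval₂RingHom, Polynomial.eval₂_at_zero]
      exact hz s h0)
    have hu : IsUnit (z.appTop (s.eval₂ (bFn c) (mFn (fst (AMonS S N1) (Over.mk c)) one1))) := by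
      rw [← e.symm_apply_apply (z.appTop _)]
      exact (isUnit_iff_ne_zero.2 ((map_ne_zero_iff _ e.injective).2 hne)).map e.symm
    change w ∈ z ⁻¹ᵁ ((AMonS S N1 ⊗ Over.mk c).left.toSpecΓ ⁻¹ᵁ PrimeSpectrum.basicOpen
      (Polynomial.eval₂RingHom (bFn c) (mFn (fst (AMonS S N1) (Over.mk c)) one1) s))
    rw [Scheme.toSpecΓ_preimage_basicOpen, Scheme.preimage_basicOpen]
    exact ((Spec (CommRingCat.of L)).basicOpen_of_isUnit hu).ge trivial

theorem unique_affine {X : Over S} (a : MonAct (AMonS S ℤ) X) (γ₁ γ₂ : (attr a N1).obj (op (Over.mk c)))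
    (h : ∀ (T : Over S) (m : T ⟶ AMonS S N1) (t : T ⟶ Over.mk c),
      (∃ n : ℕ, ∀ m' : T ⟶ AMonS S N1, m ^ (n + 1) * m' = m ^ (n + 1)) →
      CartesianMonoidalCategory.lift m t ≫ γ₁.1 = CartesianMonoidalCategory.lift m t ≫ γ₂.1) :
    γ₁.1 = γ₂.1 := by
  obtain ⟨O, hO, hmemO⟩ := exists_open c γ₁.1 γ₂.1 h
  let π := AMonS.map S (AddMonoidHom.inl N1 ℤ) ▷ Over.mk c
  let μ' := AMonS.map S diag ▷ Over.mk c
  let U := π.left ⁻¹ᵁ O
  have heq : U.ι ≫ (μ' ≫ γ₁.1).left = U.ι ≫ (μ' ≫ γ₂.1).left := by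
    let G : AMonS S (N1 × ℤ) ⊗ Over.mk c ⟶ AMonS S ℤ := fst _ _ ≫ AMonS.map S (AddMonoidHom.inr N1 ℤ)
    have hμ : ∀ gam : (attr a N1).obj (op (Over.mk c)),
        μ' ≫ gam.1 = CartesianMonoidalCategory.lift G (π ≫ gam.1) ≫ a.act := fun gam => by
      refine Magnet.hom_ext_lift₂ fun W P t => ?_
      have he := (mem_eqvHom_iff gam.1).1 gam.2 W (P ≫ AMonS.map S (AddMonoidHom.inr N1 ℤ))
        (P ≫ AMonS.map S (AddMonoidHom.inl N1 ℤ)) t
      have ha : CartesianMonoidalCategory.lift (P ≫ AMonS.map S (AddMonoidHom.inr N1 ℤ))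
          (P ≫ AMonS.map S (AddMonoidHom.inl N1 ℤ)) ≫ (subAct S ℤ N1).act = P ≫ AMonS.map S diag := by
        refine ((lift_restrict_act (AMonS.map S N1.subtype) (regular (AMonS S N1)) _ _).trans
          (lift_regular_act _ _)).trans (mFn_ext fun n => ?_)
        rw [mFn_mul, mFn_map, mFn_map, mFn_map, mFn_map, ← mFn_add]
        congr 1
        simp [diag]
      rw [ha] at he
      simp only [μ', π, G, comp_lift_assoc, lift_fst_assoc, lift_whiskerRight_assoc]
      exact he
    rw [hμ, hμ, Over.comp_left, Over.comp_left, ← Category.assoc, ← Category.assoc]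
    congr 1
    refine pullback.hom_ext ?_ ?_
    · rw [Category.assoc, Category.assoc]
      congr 1
      exact (congrArg Over.Hom.left (lift_fst G (π ≫ γ₁.1))).trans
        (congrArg Over.Hom.left (lift_fst G (π ≫ γ₂.1))).symm
    · rw [Category.assoc, Category.assoc]
      refine ((congrArg (U.ι ≫ ·) (congrArg Over.Hom.left (lift_snd G (π ≫ γ₁.1)))).trans ?_).trans
        (congrArg (U.ι ≫ ·) (congrArg Over.Hom.left (lift_snd G (π ≫ γ₂.1)))).symm
      have hr : Set.range (U.ι ≫ π.left) ⊆ Set.range O.ι := by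
        rw [Scheme.Opens.range_ι]
        rintro _ ⟨z, rfl⟩
        exact z.2
      rw [Over.comp_left, Over.comp_left, ← Category.assoc, ← Category.assoc, ← IsOpenImmersion.lift_fac O.ι _ hr,
        Category.assoc, Category.assoc, hO]
  obtain ⟨hf, -, -⟩ := flat_surjective_whisker (S := S) isFreeOver_diag (Over.mk c)
  have : Flat (U.ι ≫ μ'.left) := inferInstance
  have : Surjective (U.ι ≫ μ'.left) := by
    refine ⟨fun p => ?_⟩
    let P₀ := (AMonS S N1 ⊗ Over.mk c).left
    let K := P₀.residueField p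
    let pt := P₀.fromSpecResidueField p
    let L : Type u := RatFunc K
    let j : K →+* L := algebraMap K L
    let eL := Spec.map (CommRingCat.ofHom j)
    let W : Over S := Over.mk (eL ≫ pt ≫ (AMonS S N1 ⊗ Over.mk c).hom)
    let z₀ : W ⟶ AMonS S N1 ⊗ Over.mk c := Over.homMk (eL ≫ pt) (Category.assoc _ _ _)
    let γL := (Scheme.ΓSpecIso (CommRingCat.of L)).commRingCatIsoToRingEquiv
    let τ : Γ(W.left, ⊤) := γL.symm RatFunc.X
    have hτ : IsUnit τ := (isUnit_iff_ne_zero.2 RatFunc.X_ne_zero).map γL.symm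
    let m₀ := mFn (z₀ ≫ fst _ _) one1
    obtain ⟨P, hP⟩ := mFn_surjective (S := S) (W := W) (M := N1 × ℤ)
      { toFun := fun ij => (τ * m₀) ^ deg ij.toAdd.1 * ((hτ.unit⁻¹ ^ ij.toAdd.2 : (Γ(W.left, ⊤))ˣ) : Γ(W.left, ⊤))
        map_one' := by simp
        map_mul' := fun a b => by
          simp only [toAdd_mul, Prod.fst_add, Prod.snd_add, map_add, pow_add, zpow_add, Units.val_mul]
          ring }
    let t := z₀ ≫ snd _ _
    let q := CartesianMonoidalCategory.lift P t
    have hq : q ≫ μ' = z₀ := by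
      simp only [q, μ', lift_whiskerRight]
      apply CartesianMonoidalCategory.hom_ext
      · rw [lift_fst]
        refine ext_one1 ?_
        rw [mFn_map, hP]
        change (τ * m₀) ^ deg one1 * ((hτ.unit⁻¹ ^ ((one1 : N1) : ℤ) : (Γ(W.left, ⊤))ˣ) : Γ(W.left, ⊤)) = m₀
        rw [deg_one1, pow_one, show ((one1 : N1) : ℤ) = 1 from rfl, zpow_one, mul_right_comm,
          IsUnit.mul_val_inv, _root_.one_mul]
      · rw [lift_snd]
    obtain ⟨w⟩ : Nonempty (Spec (CommRingCat.of L)) := inferInstance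
    have hmem : q.left w ∈ U := by
      change (q ≫ π).left w ∈ O
      refine hmemO L (q ≫ π).left (fun p hp => ?_) w
      have hfst : (q ≫ π).left.appTop (mFn (fst (AMonS S N1) (Over.mk c)) one1) = τ * m₀ := by
        rw [← mFn_comp, Category.assoc, whiskerRight_fst, ← Category.assoc, lift_fst, mFn_map, hP]
        change (τ * m₀) ^ deg one1 * ((hτ.unit⁻¹ ^ (0 : ℤ) : (Γ(W.left, ⊤))ˣ) : Γ(W.left, ⊤)) = _
        rw [deg_one1, pow_one, zpow_zero, Units.val_one, _root_.mul_one]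
      let fK : B →+* K := ((Scheme.ΓSpecIso K).hom.hom.comp pt.appTop.hom).comp (bFn c)
      have hnat : ∀ y : Γ(Spec K, ⊤), γL (eL.appTop y) = j ((Scheme.ΓSpecIso K).hom y) := fun y =>
        congr($(Scheme.ΓSpecIso_naturality (CommRingCat.ofHom j)) y)
      have hb : ∀ b, γL ((q ≫ π).left.appTop (bFn c b)) = j (fK b) := fun b => by
        refine Eq.trans (congrArg γL ?_) (hnat (pt.appTop (bFn c b)))
        have e : (q ≫ π) ≫ snd _ _ = z₀ ≫ snd (AMonS S N1) (Over.mk c) := by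
          rw [Category.assoc, whiskerRight_snd, lift_snd]
        exact congr((Over.Hom.left $e).appTop ((Scheme.ΓSpecIso (CommRingCat.of B)).inv b))
      let mK := (Scheme.ΓSpecIso K).hom (pt.appTop (mFn (fst (AMonS S N1) (Over.mk c)) one1))
      have hm : γL m₀ = j mK := hnat (pt.appTop (mFn (fst (AMonS S N1) (Over.mk c)) one1))
      have hτX : γL τ = RatFunc.X := γL.apply_symm_apply _
      have key : algebraMap K[X] (RatFunc K) ((p.map fK).comp (Polynomial.X * Polynomial.C mK)) = 0 := by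
        have h1 := congrArg γL hp
        rw [map_zero, Polynomial.hom_eval₂] at h1
        have h2 : γL.toRingHom ((p.eval₂ ((q ≫ π).left.appTop.hom.comp (bFn c)) (τ * m₀))) = 0 :=
          (congrArg (fun x => γL (p.eval₂ ((q ≫ π).left.appTop.hom.comp (bFn c)) x)) hfst).symm.trans h1
        rw [Polynomial.hom_eval₂] at h2
        rw [← h2, Polynomial.comp, Polynomial.hom_eval₂, Polynomial.eval₂_map]
        congr 1
        · exact RingHom.ext fun b => (hb b).symm
        · simp only [RingEquiv.toRingHom_eq_coe, RingHom.coe_coe, map_mul, hτX, hm, RatFunc.algebraMap_X,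
            RatFunc.algebraMap_C]
          rfl
      have h0 := congrArg (Polynomial.coeff · 0) ((map_eq_zero_iff _ (RatFunc.algebraMap_injective K)).1 key)
      simp only [Polynomial.coeff_zero_eq_eval_zero, Polynomial.eval_comp, Polynomial.eval_mul, Polynomial.eval_X,
        zero_mul, Polynomial.eval_zero] at h0
      rw [← Polynomial.coeff_zero_eq_eval_zero, Polynomial.coeff_map] at h0
      apply γL.injective
      refine (hb _).trans ?_
      rw [h0, map_zero, map_zero]
    refine ⟨⟨q.left w, hmem⟩, ?_⟩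
    change μ'.left (q.left w) = p
    rw [← Scheme.Hom.comp_apply, ← Over.comp_left, hq]
    change pt (eL w) = p
    exact Scheme.fromSpecResidueField_apply p _
  have : Epi (U.ι ≫ μ'.left) := Flat.epi_of_flat_of_surjective _
  refine Over.OverMorphism.ext ((cancel_epi (U.ι ≫ μ'.left)).1 ?_)
  simpa only [Category.assoc, Over.comp_left] using heq

end Affine

theorem unique {X Y : Over S} (a : MonAct (AMonS S ℤ) X) (γ₁ γ₂ : (attr a N1).obj (op Y))
    (h : ∀ (T : Over S) (m : T ⟶ AMonS S N1) (t : T ⟶ Y),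
      (∃ n : ℕ, ∀ m' : T ⟶ AMonS S N1, m ^ (n + 1) * m' = m ^ (n + 1)) →
      CartesianMonoidalCategory.lift m t ≫ γ₁.1 = CartesianMonoidalCategory.lift m t ≫ γ₂.1) :
    γ₁ = γ₂ := by
  refine Subtype.ext (Over.OverMorphism.ext (Scheme.Cover.hom_ext
    (Y.left.affineCover.pullback₁ (pullback.snd (AMonS S N1).hom Y.hom)) _ _ fun i => ?_))
  let g := Y.left.affineCover.f i
  let Yi : Over S := Over.mk (g ≫ Y.hom)
  let j : Yi ⟶ Y := Over.homMk g rfl
  let π₀ : pullback (pullback.snd (AMonS S N1).hom Y.hom) g ⟶ pullback (AMonS S N1).hom Yi.hom :=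
    pullback.lift (pullback.fst _ _ ≫ pullback.fst _ _) (pullback.snd _ _) (by
      change _ = _ ≫ g ≫ Y.hom
      rw [Category.assoc, pullback.condition, ← Category.assoc, pullback.condition, Category.assoc])
  have hk : π₀ ≫ (AMonS S N1 ◁ j).left = pullback.fst (pullback.snd (AMonS S N1).hom Y.hom) g := by
    refine pullback.hom_ext ?_ ?_
    · rw [Category.assoc, Over.whiskerLeft_left_fst, pullback.lift_fst]
    · rw [Category.assoc, Over.whiskerLeft_left_snd, pullback.lift_snd_assoc]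
      exact pullback.condition.symm
  have key := unique_affine (g ≫ Y.hom) a ((attr a N1).map j.op γ₁) ((attr a N1).map j.op γ₂) fun T m t hm => by
    change CartesianMonoidalCategory.lift m t ≫ (AMonS S N1 ◁ j) ≫ γ₁.1 =
      CartesianMonoidalCategory.lift m t ≫ (AMonS S N1 ◁ j) ≫ γ₂.1
    rw [lift_whiskerLeft_assoc, lift_whiskerLeft_assoc]
    exact h T m _ hm
  have e : ∀ (c : AMonS S N1 ⊗ Y ⟶ X), pullback.fst (pullback.snd (AMonS S N1).hom Y.hom) g ≫ c.left =
      π₀ ≫ ((AMonS S N1 ◁ j) ≫ c).left := fun c =>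
    (congrArg (· ≫ c.left) hk).symm.trans (Category.assoc _ _ _)
  exact ((e γ₁.1).trans (congrArg (π₀ ≫ ·) (congrArg Over.Hom.left key))).trans (e γ₂.1).symm

end Groth.Agent.MagnetLib.BB
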