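import Groth.Prelude.Def_Magnet3
import Groth.Prelude.Def_ActBC

/-!
# Families of equivariant maps and base change
-/

set_option autoImplicit false
set_option backward.isDefEq.respectTransparency false

universe u

noncomputable section

open CategoryTheory CategoryTheory.Limits MonoidalCategory CartesianMonoidalCategory MonObj AlgebraicGeometry Opposite

namespace Groth.Agent.MagnetLib

open Magnet Magnet.MonAct

variable {S : Scheme.{u}} {A B X : Over S} (T : Over S) (T'' : Over T.left)

local notation "adj" => Over.mapPullbackAdj T.hom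

/-- A family over a `T`-scheme as a family of the base changes. -/
def downT (φ : B ⊗ (Over.map T.hom).obj T'' ⟶ X) : Red.bc T.hom B ⊗ T'' ⟶ Red.bc T.hom X :=
  (Over.mapPullbackAdj T.hom).homEquiv _ X
    (CartesianMonoidalCategory.lift (((Over.mapPullbackAdj T.hom).homEquiv _ B).symm (fst _ _))
      ((Over.map T.hom).map (snd _ _)) ≫ φ)

theorem lift_downT (φ : B ⊗ (Over.map T.hom).obj T'' ⟶ X) {W : Over T.left} (y : (Over.map T.hom).obj W ⟶ B)
    (t : W ⟶ T'') :
    CartesianMonoidalCategory.lift ((Over.mapPullbackAdj T.hom).homEquiv W B y) t ≫ downT T T'' φ =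
      (Over.mapPullbackAdj T.hom).homEquiv W X (CartesianMonoidalCategory.lift y ((Over.map T.hom).map t) ≫ φ) := by
  rw [downT, ← Adjunction.homEquiv_naturality_left, comp_lift_assoc,
    ← Adjunction.homEquiv_naturality_left_symm, lift_fst, Equiv.symm_apply_apply, ← Functor.map_comp, lift_snd]

/-- `W` over `T` through a map to `T''`. -/
def wIso {W : Over S} (t : W ⟶ (Over.map T.hom).obj T'') :
    (Over.map T.hom).obj (Over.mk (t.left ≫ T''.hom)) ≅ W :=
  Over.isoMk (Iso.refl _) (by
    change 𝟙 _ ≫ W.hom = (t.left ≫ T''.hom) ≫ T.hom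
    rw [Category.id_comp, Category.assoc]
    exact (Over.w t).symm)

theorem wIso_comp {W : Over S} (t : W ⟶ (Over.map T.hom).obj T'') :
    (wIso T T'' t).hom ≫ t = (Over.map T.hom).map (Over.homMk t.left rfl : Over.mk (t.left ≫ T''.hom) ⟶ T'') :=
  Over.OverMorphism.ext (Category.id_comp _)

theorem downT_injective : Function.Injective (downT (B := B) (X := X) T T'') := fun φ φ' h => by
  refine Magnet.hom_ext_lift₂ fun W b t => ?_
  let e := wIso T T'' t
  have h1 := congrArg (CartesianMonoidalCategory.lift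
    ((Over.mapPullbackAdj T.hom).homEquiv _ B (e.hom ≫ b)) (Over.homMk t.left rfl) ≫ ·) h
  simp only [lift_downT] at h1
  have h2 := ((Over.mapPullbackAdj T.hom).homEquiv _ X).injective h1
  rw [← wIso_comp, ← comp_lift, Category.assoc, Category.assoc] at h2
  exact (cancel_epi e.hom).1 h2

theorem downT_surjective : Function.Surjective (downT (B := B) (X := X) T T'') := fun χ => by
  let s := snd B ((Over.map T.hom).obj T'')
  let e := wIso T T'' s
  let P : Over T.left := Over.mk (s.left ≫ T''.hom)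
  refine ⟨e.inv ≫ ((Over.mapPullbackAdj T.hom).homEquiv P X).symm
    (CartesianMonoidalCategory.lift ((Over.mapPullbackAdj T.hom).homEquiv P B (e.hom ≫ fst _ _))
      (Over.homMk s.left rfl) ≫ χ), ?_⟩
  refine Magnet.hom_ext_lift₂ fun W y' t => ?_
  obtain ⟨y, rfl⟩ := ((Over.mapPullbackAdj T.hom).homEquiv W B).surjective y'
  rw [lift_downT]
  let p := CartesianMonoidalCategory.lift y ((Over.map T.hom).map t)
  let p' : W ⟶ P := Over.homMk p.left (by
    change p.left ≫ s.left ≫ T''.hom = W.hom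
    rw [← Category.assoc, ← Over.comp_left, lift_snd]
    exact Over.w t)
  have hp : (Over.map T.hom).map p' ≫ e.hom = p := Over.OverMorphism.ext (Category.comp_id _)
  conv_lhs => rw [show CartesianMonoidalCategory.lift y ((Over.map T.hom).map t) = (Over.map T.hom).map p' ≫ e.hom from hp.symm]
  rw [Category.assoc, Iso.hom_inv_id_assoc, Adjunction.homEquiv_naturality_left, Equiv.apply_symm_apply,
    comp_lift_assoc, ← Adjunction.homEquiv_naturality_left, ← Category.assoc, hp, lift_fst]
  congr 2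
  have hs := congrArg Over.Hom.left (lift_snd y ((Over.map T.hom).map t))
  exact Over.OverMorphism.ext hs

theorem downT_mem_iff [MonObj A] (ρ : MonAct A B) (a : MonAct A X) (φ : B ⊗ (Over.map T.hom).obj T'' ⟶ X) :
    IsEquivariant ((ρ.bc T.hom).prod (trivial _ T'')) (a.bc T.hom) (downT T T'' φ) ↔
      IsEquivariant (ρ.prod (trivial A _)) a φ := by
  rw [mem_eqvHom_iff, mem_eqvHom_iff]
  constructor
  · intro h W g b t
    let e := wIso T T'' t
    have h1 := h _ ((Over.mapPullbackAdj T.hom).homEquiv _ A (e.hom ≫ g))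
      ((Over.mapPullbackAdj T.hom).homEquiv _ B (e.hom ≫ b)) (Over.homMk t.left rfl)
    rw [lift_homEquiv_bc_act, lift_downT, lift_downT, lift_homEquiv_bc_act] at h1
    have h2 := ((Over.mapPullbackAdj T.hom).homEquiv _ X).injective h1
    simp only [← wIso_comp, ← comp_lift, Category.assoc] at h2
    exact (cancel_epi e.hom).1 h2
  · intro h W g' b' t
    obtain ⟨g, rfl⟩ := ((Over.mapPullbackAdj T.hom).homEquiv W A).surjective g'
    obtain ⟨b, rfl⟩ := ((Over.mapPullbackAdj T.hom).homEquiv W B).surjective b'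
    rw [lift_homEquiv_bc_act, lift_downT, lift_downT, lift_homEquiv_bc_act, h]

theorem downT_left_fst (φ : B ⊗ (Over.map T.hom).obj T'' ⟶ X) :
    (downT T T'' φ).left ≫ pullback.fst X.hom T.hom =
      (CartesianMonoidalCategory.lift (((Over.mapPullbackAdj T.hom).homEquiv _ B).symm (fst (Red.bc T.hom B) T''))
        ((Over.map T.hom).map (snd (Red.bc T.hom B) T''))).left ≫ φ.left := by
  have h := congrArg Over.Hom.left (((Over.mapPullbackAdj T.hom).homEquiv _ X).symm_apply_apply
    (CartesianMonoidalCategory.lift (((Over.mapPullbackAdj T.hom).homEquiv _ B).symm (fst (Red.bc T.hom B) T''))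
      ((Over.map T.hom).map (snd (Red.bc T.hom B) T'')) ≫ φ))
  rw [Adjunction.homEquiv_counit, Over.comp_left, Over.comp_left] at h
  exact h

theorem toBc_downT (φ : B ⊗ (Over.map T.hom).obj T'' ⟶ X) :
    Magnet.toBc T'' (downT T T'' φ) ≫ (ActBC.bcCompIso T''.hom T.hom X rfl).hom =
      (ActBC.bcCompIso T''.hom T.hom B rfl).hom ≫ Magnet.toBc ((Over.map T.hom).obj T'') φ := by
  refine Over.OverMorphism.ext (pullback.hom_ext ?_ ((Over.w _).trans (Over.w _).symm))
  refine ((Category.assoc _ _ _).trans ((congrArg (_ ≫ ·)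
    (ActBC.bcCompIso_hom_left_fst T''.hom T.hom X rfl)).trans ?_))
  refine ((Category.assoc _ _ _).symm.trans ((congrArg (· ≫ _)
    (Magnet.toBc_left_fst T'' (downT T T'' φ))).trans ?_))
  refine (downT_left_fst T T'' φ).trans ?_
  refine Eq.trans ?_ ((Category.assoc _ _ _).trans (congrArg (_ ≫ ·)
    (Magnet.toBc_left_fst ((Over.map T.hom).obj T'') φ))).symm
  refine congrArg (· ≫ φ.left) (pullback.hom_ext ?_ ?_)
  · refine Eq.trans ?_ (ActBC.bcCompIso_hom_left_fst T''.hom T.hom B rfl).symm
    refine ((congrArg Over.Hom.left (lift_fst _ _)).trans ?_)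
    rw [Adjunction.homEquiv_counit, Over.comp_left]
    rfl
  · refine Eq.trans ?_ (ActBC.bcCompIso_hom_left_snd T''.hom T.hom B rfl).symm
    exact congrArg Over.Hom.left (lift_snd (((Over.mapPullbackAdj T.hom).homEquiv _ B).symm
      (fst (Red.bc T.hom B) T'')) ((Over.map T.hom).map (snd (Red.bc T.hom B) T'')))

theorem exists_equiv_eqvHom_bc [MonObj A] (ρ : MonAct A B) (a : MonAct A X) :
    ∃ Φ : (eqvHom ρ a).obj (op ((Over.map T.hom).obj T'')) ≃ (eqvHom (ρ.bc T.hom) (a.bc T.hom)).obj (op T''),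
      ∀ φ, (Magnet.eqvHomEquivBc T'' (ρ.bc T.hom) (a.bc T.hom) (Φ φ)).1 ≫ (ActBC.bcCompIso T''.hom T.hom X rfl).hom =
        (ActBC.bcCompIso T''.hom T.hom B rfl).hom ≫
          (Magnet.eqvHomEquivBc ((Over.map T.hom).obj T'') ρ a φ).1 := by
  refine ⟨Equiv.ofBijective (fun φ => ⟨downT T T'' φ.1, (downT_mem_iff T T'' ρ a φ.1).2 φ.2⟩)
    ⟨fun φ φ' h => Subtype.ext (downT_injective T T'' (congrArg Subtype.val h)), fun χ => ?_⟩,
    fun φ => toBc_downT T T'' φ.1⟩
  obtain ⟨φ, hφ⟩ := downT_surjective T T'' χ.1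
  exact ⟨⟨φ, (downT_mem_iff T T'' ρ a φ).1 (hφ ▸ χ.2)⟩, Subtype.ext hφ⟩

end Groth.Agent.MagnetLib
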