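import Groth.Agent.MagnetLib.Rep
import Mathlib.RingTheory.Bialgebra.Convolution

/-!
# Attractors do not depend on the monoid: the map `attrComap`
-/

set_option autoImplicit false
set_option backward.isDefEq.respectTransparency false

universe u

noncomputable section

open CategoryTheory CategoryTheory.Limits MonoidalCategory CartesianMonoidalCategory MonObj AlgebraicGeometry Opposite
open scoped TensorProduct

namespace Groth.Agent.MagnetLib

open Magnet Magnet.MonAct

section Add

variable (R : Type u) [CommRing R] {M N : Type} [AddCommMonoid M] [AddCommMonoid N]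

theorem amon_map_eq (f : N →+ M) :
    AMon.map R f = Spec.mapMulEquiv (WithConv.toConv
      (MonoidAlgebra.mapDomainBialgHom R (AddMonoidHom.toMultiplicative f)).toAlgHom) :=
  Over.OverMorphism.ext rfl

theorem amon_map_add (f g : N →+ M) : AMon.map R (f + g) = AMon.map R f * AMon.map R g := by
  rw [amon_map_eq, amon_map_eq, amon_map_eq, ← map_mul]
  congr 1
  apply WithConv.ofConv_injective
  apply MonoidAlgebra.algHom_ext
  · intro m
    simp [AlgHom.convMul_apply, MonoidAlgebra.single_mul_single]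
  · ext

theorem amons_map_add (S : Scheme.{u}) (f g : N →+ M) :
    AMonS.map S (f + g) = AMonS.map S f * AMonS.map S g := by
  rw [AMonS.map, amon_map_add]
  exact Functor.map_mul _ _ _

end Add

variable {S : Scheme.{u}} {M : Type} [AddCommMonoid M] {Z : Type} [AddCommMonoid Z] {X : Over S}

/-- `m ↦ (m, f m)`. -/
abbrev graph (f : M →+ Z) : M →+ M × Z := (AddMonoidHom.id M).prod f

theorem graph_eq (f : M →+ Z) : graph f = AddMonoidHom.inl M Z + (AddMonoidHom.inr M Z).comp f :=
  AddMonoidHom.ext fun m => by simp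

/-- `M × Y → M × Z`. -/
abbrev inclProd (Y : AddSubmonoid Z) : M × Y →+ M × Z := (AddMonoidHom.id M).prodMap Y.subtype

theorem inclProd_injective (Y : AddSubmonoid Z) : Function.Injective (inclProd (M := M) Y) :=
  fun _ _ h => Prod.ext ((congrArg Prod.fst h :)) (Subtype.ext ((congrArg Prod.snd h :)))

theorem exists_extend_prod (a : MonAct (AMonS S M) X) (f : M →+ Z) (Y : AddSubmonoid Z) (T : Over S) (x : T ⟶ X)
    (L : AMonS S Y ⊗ T ⟶ X)
    (hL : (AMonS.map S Y.subtype ▷ T) ≫ L = (AMonS S Z ◁ x) ≫ (a.restrict (AMonS.map S f)).act) :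
    ∃ l : AMonS S (M × Y) ⊗ T ⟶ X,
      (AMonS.map S (inclProd Y) ▷ T) ≫ l =
        (AMonS S (M × Z) ◁ x) ≫ (AMonS.map S (graph f) ▷ X) ≫ a.act := by
  refine ⟨CartesianMonoidalCategory.lift (fst _ _ ≫ AMonS.map S (AddMonoidHom.inl M Y))
    (CartesianMonoidalCategory.lift (fst _ _ ≫ AMonS.map S (AddMonoidHom.inr M Y)) (snd _ _) ≫ L) ≫ a.act,
    Magnet.hom_ext_lift₂ fun W h t => ?_⟩
  have e₁ : AMonS.map S (inclProd (M := M) Y) ≫ AMonS.map S (AddMonoidHom.inl M Y) =
      AMonS.map S (AddMonoidHom.inl M Z) := by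
    rw [← AMonS.map_comp]
    exact congrArg (AMonS.map S) (AddMonoidHom.ext fun m => by simp)
  have e₂ : AMonS.map S (inclProd (M := M) Y) ≫ AMonS.map S (AddMonoidHom.inr M Y) =
      AMonS.map S (AddMonoidHom.inr M Z) ≫ AMonS.map S Y.subtype := by
    rw [← AMonS.map_comp, ← AMonS.map_comp]
    exact congrArg (AMonS.map S) (AddMonoidHom.ext fun m => by simp)
  rw [lift_whiskerRight_assoc, lift_whiskerLeft_assoc, lift_whiskerRight_assoc]
  simp only [comp_lift_assoc, lift_fst_assoc, lift_snd, Category.assoc, e₁, e₂]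
  rw [← Category.assoc h (AMonS.map S (AddMonoidHom.inr M Z)) (AMonS.map S Y.subtype),
    ← lift_whiskerRight_assoc (h ≫ AMonS.map S (AddMonoidHom.inr M Z)) t (AMonS.map S Y.subtype), hL, lift_whiskerLeft_assoc, lift_restrict_act, ← a.lift_mul_act, graph_eq,
    amons_map_add, MonObj.comp_mul, AMonS.map_comp, Category.assoc]

theorem retr_graph_apply (f : M →+ Z) (Y : AddSubmonoid Z) (hJ : Function.Injective (graph f))
    (hN : Function.Injective (Y.comap f).subtype) (hP : Function.Injective (inclProd (M := M) Y))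
    (p : MonoidAlgebra (ULift.{u} ℤ) (Multiplicative M)) :
    retr.{u} _ hJ (algMap (inclProd Y) (retr _ hP (algMap (graph f) p))) =
      algMap (Y.comap f).subtype (retr _ hN p) := by
  induction p using MonoidAlgebra.induction_linear with
  | zero => simp only [map_zero]
  | add p q hp hq => simp only [map_add, hp, hq]
  | single m c => ?_
  obtain ⟨m, rfl⟩ : ∃ m₀, Multiplicative.ofAdd m₀ = m := ⟨m.toAdd, rfl⟩
  have hs : ∀ {A B : Type} [AddCommMonoid A] [AddCommMonoid B] (g : A →+ B) (a : A),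
      algMap.{u} g (MonoidAlgebra.single (Multiplicative.ofAdd a) c) =
        MonoidAlgebra.single (Multiplicative.ofAdd (g a)) c := fun g a => MonoidAlgebra.mapDomain_single
  have hr0 : ∀ {A B : Type} [AddCommMonoid A] [AddCommMonoid B] (g : A →+ B) (hg : Function.Injective g) (b : B),
      b ∉ Set.range g → retr.{u} g hg (MonoidAlgebra.single (Multiplicative.ofAdd b) c) = 0 := fun g hg b hb =>
    MonoidAlgebra.comapDomain_single_of_not_mem_range
      (f := AddMonoidHom.toMultiplicative g) (fun ⟨a, ha⟩ => hb ⟨a.toAdd, ha⟩)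
      (fun a b h => Multiplicative.toAdd.injective (hg (congrArg Multiplicative.toAdd h)))
  have hr1 : ∀ {A B : Type} [AddCommMonoid A] [AddCommMonoid B] (g : A →+ B) (hg : Function.Injective g) (a : A),
      retr.{u} g hg (MonoidAlgebra.single (Multiplicative.ofAdd (g a)) c) =
        MonoidAlgebra.single (Multiplicative.ofAdd a) c := fun g hg a => by rw [← hs, retr_algMap]
  rw [hs]
  by_cases hm : f m ∈ Y
  · rw [show graph f m = inclProd Y (m, ⟨f m, hm⟩) from rfl, hr1 _ hP, hs,
      show inclProd Y (m, ⟨f m, hm⟩) = graph f m from rfl, hr1 _ hJ]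
    conv_rhs => rw [show m = (Y.comap f).subtype ⟨m, hm⟩ from rfl, hr1 _ hN, hs]
    rfl
  · rw [hr0 _ hP, hr0 _ hN, map_zero, map_zero, map_zero]
    · rintro ⟨n, hn⟩
      exact hm (by rw [← hn]; exact n.2)
    · rintro ⟨⟨n, y⟩, hn⟩
      have e : (y : Z) = f m := congrArg Prod.snd hn
      exact hm (e ▸ y.2)

set_option maxHeartbeats 1000000 in
/-- If an orbit map extends along `A(M × Y)` after pullback by the graph it extends along `A(f⁻¹ Y)`. -/
theorem exists_extend_comap [IsAffineHom X.hom] (a : MonAct (AMonS S M) X) (f : M →+ Z) (Y : AddSubmonoid Z)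
    (T : Over S) (x : T ⟶ X)
    (h : ∃ l : AMonS S (M × Y) ⊗ T ⟶ X, (AMonS.map S (inclProd Y) ▷ T) ≫ l =
      (AMonS S (M × Z) ◁ x) ≫ (AMonS.map S (graph f) ▷ X) ≫ a.act) :
    ∃ l : AMonS S (Y.comap f) ⊗ T ⟶ X,
      (AMonS.map S (Y.comap f).subtype ▷ T) ≫ l = (AMonS S M ◁ x) ≫ a.act := by
  have hJ : Function.Injective (graph f) := fun _ _ h => congrArg Prod.fst h
  have hN : Function.Injective (Y.comap f).subtype := Subtype.val_injective
  have hP := inclProd_injective (M := M) Y
  let m₁ : Extend.Bo (toZ S) (MonoidAlgebra (ULift.{u} ℤ) (Multiplicative M)) ⟶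
      Extend.Bo (toZ S) (MonoidAlgebra (ULift.{u} ℤ) (Multiplicative (Y.comap f))) :=
    AMonS.map S (Y.comap f).subtype
  let m₂ : Extend.Bo (toZ S) (MonoidAlgebra (ULift.{u} ℤ) (Multiplicative (M × Z))) ⟶
      Extend.Bo (toZ S) (MonoidAlgebra (ULift.{u} ℤ) (Multiplicative (M × Y))) :=
    AMonS.map S (inclProd Y)
  let mJ : Extend.Bo (toZ S) (MonoidAlgebra (ULift.{u} ℤ) (Multiplicative (M × Z))) ⟶
      Extend.Bo (toZ S) (MonoidAlgebra (ULift.{u} ℤ) (Multiplicative M)) :=
    AMonS.map S (graph f)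
  let o : Extend.Bo (toZ S) (MonoidAlgebra (ULift.{u} ℤ) (Multiplicative M)) ⊗ X ⟶ X := a.act
  have h₂ : Extend.Cond m₂ ((mJ ▷ X) ≫ o) x.left := (Extend.cond_iff m₂ ((mJ ▷ X) ≫ o) x).2 h
  have h₁ : Extend.Cond m₁ o x.left := Extend.cond_of_cond m₁ o (fun T u v h => hom_ext_amon _ hN T h)
    (algMap (Y.comap f).subtype) (retr _ hN) (retr_algMap _ hN) (amons_map_hm _) m₂ mJ
    (algMap (inclProd Y)) (retr _ hP) (retr_algMap _ hP)
    (amons_map_hm _) (algMap (graph f)) (amons_map_hm _) (retr _ hJ) (retr_algMap _ hJ)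
    (retr_graph_apply f Y hJ hN hP) x.left h₂
  exact (Extend.cond_iff m₁ o x).1 h₁

theorem isIso_attrComap [IsAffineHom X.hom] (a : MonAct (AMonS S M) X) (f : M →+ Z) (Y : AddSubmonoid Z) :
    IsIso (attrComap a f Y) := by
  refine (NatTrans.isIso_iff_isIso_app _).2 fun T => (CategoryTheory.isIso_iff_bijective _).2
    ⟨attrComap_injective a f Y (unop T), fun ψ => ?_⟩
  let b := a.restrict (AMonS.map S f)
  let x := (attrToX b Y).app T ψ
  obtain ⟨l, hl⟩ := exists_extend_comap a f Y (unop T) x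
    (exists_extend_prod a f Y (unop T) x ψ.1 (eqvHom_extends (AMonS.map S Y.subtype) b (unop T) ψ))
  have hN : Function.Injective (Y.comap f).subtype := Subtype.val_injective
  refine ⟨⟨l, mem_of_extends _ a (fun T u v h => hom_ext_amon _ hN T h) x l hl⟩, ?_⟩
  refine attrToX_injective b Y (unop T) ?_
  change (attrToX b Y).app _ _ = (attrToX b Y).app _ _
  rw [attrToX_attrComap]
  exact evalAt_of_extends _ a x l hl

end Groth.Agent.MagnetLib
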