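import Groth.Agent.MagnetLib.Homotopy
import Mathlib.AlgebraicGeometry.Properties
import Mathlib.AlgebraicGeometry.PullbackCarrier
import Mathlib.Algebra.Polynomial.AlgebraMap

/-!
# Fibres of a morphism with a strong deformation retraction are connected
-/

set_option autoImplicit false
set_option backward.isDefEq.respectTransparency false

universe u

noncomputable section

open CategoryTheory CategoryTheory.Limits MonoidalCategory AlgebraicGeometry Opposite

namespace Groth.Agent.MagnetLib.ConnFibre

/-- The affine line over a field. -/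
abbrev line (L : Type u) [Field L] : Scheme.{u} := Spec (CommRingCat.of (Polynomial L))

/-- The structure morphism of the affine line. -/
abbrev lineπ (L : Type u) [Field L] : line L ⟶ Spec (CommRingCat.of L) := Spec.map (CommRingCat.ofHom Polynomial.C)

/-- A rational point of the affine line. -/
abbrev lineAt (L : Type u) [Field L] (a : L) : Spec (CommRingCat.of L) ⟶ line L :=
  Spec.map (CommRingCat.ofHom (Polynomial.evalRingHom a))

theorem lineAt_lineπ (L : Type u) [Field L] (a : L) : lineAt L a ≫ lineπ L = 𝟙 _ := by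
  rw [← Spec.map_comp, ← Spec.map_id]
  congr 1
  exact CommRingCat.hom_ext (RingHom.ext fun x => Polynomial.eval_C)

variable {Z W : Scheme.{u}} (j : Z ⟶ W) (σ : W ⟶ Z)

/-- Every field valued point is joined to the section over its image by a line in the fibre. -/
def HasLines : Prop :=
  ∀ (L : Type u) [Field L] (z : Spec (CommRingCat.of L) ⟶ Z),
    ∃ H : line L ⟶ Z, lineAt L 1 ≫ H = z ∧ lineAt L 0 ≫ H = z ≫ j ≫ σ ∧ H ≫ j = lineπ L ≫ z ≫ j

variable {j σ}

theorem mem_connectedComponent_of_line {P : Scheme.{u}} {L : Type u} [Field L] (H : line L ⟶ P) {a b : L}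
    {g₁ g₀ : Spec (CommRingCat.of L) ⟶ P} (e₁ : lineAt L a ≫ H = g₁) (e₀ : lineAt L b ≫ H = g₀)
    (x y : Spec (CommRingCat.of L)) {p q : P} (hp : g₁ x = p) (hq : g₀ y = q) : p ∈ connectedComponent q := by
  haveI : IrreducibleSpace (line L) := inferInstance
  subst hp hq e₁ e₀
  rw [Scheme.Hom.comp_apply, Scheme.Hom.comp_apply]
  exact (isPreconnected_range H.continuous).subset_connectedComponent (Set.mem_range_self _) (Set.mem_range_self _)

theorem connectedSpace_fibre (hσ : σ ≫ j = 𝟙 W) (h : HasLines j σ) (K : Type u) [Field K]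
    (k : Spec (CommRingCat.of K) ⟶ W) : ConnectedSpace ↥(pullback j k) := by
  let P := pullback j k
  let o : Spec (CommRingCat.of K) ⟶ P := pullback.lift (k ≫ σ) (𝟙 _) (by rw [Category.assoc, hσ, Category.comp_id, Category.id_comp])
  let p₀ : P := o default
  have key : ∀ p : P, p ∈ connectedComponent p₀ := fun p => by
    let L := P.residueField p
    obtain ⟨H, h1, h0, hH⟩ := h L (P.fromSpecResidueField p ≫ pullback.fst j k)
    let H' : line L ⟶ P := pullback.lift H (lineπ L ≫ P.fromSpecResidueField p ≫ pullback.snd j k) (by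
      rw [hH, Category.assoc, Category.assoc, Category.assoc, pullback.condition])
    have e1 : lineAt L 1 ≫ H' = P.fromSpecResidueField p := pullback.hom_ext
      (by rw [Category.assoc, pullback.lift_fst, h1])
      (by rw [Category.assoc, pullback.lift_snd, ← Category.assoc, lineAt_lineπ, Category.id_comp])
    have e0 : lineAt L 0 ≫ H' = (P.fromSpecResidueField p ≫ pullback.snd j k) ≫ o := pullback.hom_ext
      (by rw [Category.assoc, pullback.lift_fst, h0, Category.assoc, Category.assoc, Category.assoc, pullback.lift_fst,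
            pullback.condition_assoc])
      (by rw [Category.assoc, pullback.lift_snd, ← Category.assoc, lineAt_lineπ, Category.id_comp, Category.assoc,
            pullback.lift_snd, Category.comp_id])
    exact mem_connectedComponent_of_line H' e1 e0 default default (Scheme.fromSpecResidueField_apply p _)
      ((Scheme.Hom.comp_apply _ _ _).trans (congrArg o (Subsingleton.elim _ _)))
  exact connectedSpace_iff_connectedComponent.2 ⟨p₀, Set.eq_univ_of_forall key⟩

theorem bijective_connectedComponentsMap (hσ : σ ≫ j = 𝟙 W) (h : HasLines j σ) :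
    Function.Bijective (Continuous.connectedComponentsMap j.continuous) := by
  have hmem : ∀ z : Z, z ∈ connectedComponent (σ (j z)) := fun z => by
    obtain ⟨H, h1, h0, -⟩ := h (Z.residueField z) (Z.fromSpecResidueField z)
    exact mem_connectedComponent_of_line H h1 h0 default default (Scheme.fromSpecResidueField_apply z _)
      ((Scheme.Hom.comp_apply _ _ _).trans ((Scheme.Hom.comp_apply _ _ _).trans
        (congrArg (fun t => σ (j t)) (Scheme.fromSpecResidueField_apply z _))))
  have hj : ∀ w : W, j (σ w) = w := fun w => by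
    rw [← Scheme.Hom.comp_apply, hσ]
    rfl
  refine ⟨fun a b hab => ?_, fun c => ?_⟩
  · obtain ⟨a, rfl⟩ := ConnectedComponents.surjective_coe a
    obtain ⟨b, rfl⟩ := ConnectedComponents.surjective_coe b
    have hab' : connectedComponent (j a) = connectedComponent (j b) := ConnectedComponents.coe_eq_coe.1 hab
    have h3 : σ (j a) ∈ connectedComponent (σ (j b)) :=
      σ.continuous.image_connectedComponent_subset (j b) ⟨j a, hab' ▸ mem_connectedComponent, rfl⟩
    exact ConnectedComponents.coe_eq_coe.2
      ((connectedComponent_eq (hmem a)).symm.trans ((connectedComponent_eq h3).symm.trans (connectedComponent_eq (hmem b))))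
  · obtain ⟨w, rfl⟩ := ConnectedComponents.surjective_coe c
    exact ⟨ConnectedComponents.mk (σ w), congrArg ConnectedComponents.mk (hj w)⟩

open Magnet Magnet.MonAct in
theorem hasLines_of_homotopy {S : Scheme.{u}} {M : Type} [AddCommMonoid M] {N F : AddSubmonoid M} (hF : IsFace N F)
    {X : Over S} (a : MonAct (AMonS S M) X) (e : N →+ ℕ) (he : ∀ n : N, e n = 0 ↔ (n : M) ∈ F)
    {ZN Z0 : Over S} (eN : (attr a N).RepresentableBy ZN) (e0 : (attr a F).RepresentableBy Z0) (j : ZN ⟶ Z0)
    (hj : ∀ (T : Over S) (z : T ⟶ ZN), e0.homEquiv (z ≫ j) = (attrFace a hF).app (op T) (eN.homEquiv z)) :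
    ∃ σ : Z0 ⟶ ZN, σ.left ≫ j.left = 𝟙 Z0.left ∧ HasLines j.left σ.left := by
  obtain ⟨δ, hnat, h0, h1, -, hr⟩ := exists_homotopy' hF a e he
  have hret : ∀ (T : Over S) (y : (attr a F).obj (op T)),
      (attrFace a hF).app (op T) ((attrMap a hF.le).app (op T) y) = y := fun T y => Subtype.ext (by
    change (AMonS.faceMap S hF ▷ T) ≫ (AMonS.map S (AddSubmonoid.inclusion hF.le) ▷ T) ≫ y.1 = y.1
    rw [← comp_whiskerRight_assoc, AMonS.faceMap_comp_map, id_whiskerRight,
      Category.id_comp])
  let σ : Z0 ⟶ ZN := eN.homEquiv.symm ((attrMap a hF.le).app _ (e0.homEquiv (𝟙 Z0)))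
  have hσ : ∀ (T : Over S) (w : T ⟶ Z0), eN.homEquiv (w ≫ σ) = (attrMap a hF.le).app _ (e0.homEquiv w) := fun T w => by
    conv_rhs => rw [← Category.comp_id w, e0.homEquiv_comp]
    rw [eN.homEquiv_comp, Equiv.apply_symm_apply]
    exact (NatTrans.naturality_apply (attrMap a hF.le) w.op _).symm
  have hσj : σ ≫ j = 𝟙 Z0 := e0.homEquiv.injective (by
    rw [hj, Equiv.apply_symm_apply, hret])
  refine ⟨σ, congrArg CommaMorphism.left hσj, ?_⟩
  intro L _ z
  let T : Over S := Over.mk (z ≫ ZN.hom)
  let T' : Over S := Over.mk (lineπ L ≫ z ≫ ZN.hom)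
  let π : T' ⟶ T := Over.homMk (lineπ L) rfl
  let at' : L → (T ⟶ T') := fun b => Over.homMk (lineAt L b) (by
    change lineAt L b ≫ lineπ L ≫ _ = _
    rw [← Category.assoc, lineAt_lineπ, Category.id_comp]
    rfl)
  have hat : ∀ b, at' b ≫ π = 𝟙 T := fun b => Over.OverMorphism.ext (lineAt_lineπ L b)
  let c : Γ(T'.left, ⊤) := (Scheme.ΓSpecIso (CommRingCat.of (Polynomial L))).inv Polynomial.X
  have hc : ∀ b, (at' b).left.appTop c = (Scheme.ΓSpecIso (CommRingCat.of L)).inv b := fun b => by
    have e := congr($(Scheme.ΓSpecIso_inv_naturality (CommRingCat.ofHom (Polynomial.evalRingHom b))) Polynomial.X)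
    refine Eq.trans ?_ (e.symm.trans (congrArg (fun t => (Scheme.ΓSpecIso (CommRingCat.of L)).inv t) Polynomial.eval_X))
    rfl
  let zt : T ⟶ ZN := Over.homMk z rfl
  let x := eN.homEquiv zt
  let φ := δ T' ((attr a N).map π.op x) c
  let H : T' ⟶ ZN := eN.homEquiv.symm φ
  have hat' : ∀ b, eN.homEquiv (at' b ≫ H) = δ T x ((at' b).left.appTop c) := fun b => by
    rw [eN.homEquiv_comp, Equiv.apply_symm_apply, ← hnat]
    congr 1
    rw [← Functor.map_comp_apply, ← op_comp, hat, op_id, Functor.map_id_apply]
  have e1 : at' 1 ≫ H = zt := eN.homEquiv.injective (by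
    rw [hat', hc, map_one]
    exact h1 T x)
  have e0' : at' 0 ≫ H = zt ≫ j ≫ σ := eN.homEquiv.injective (by
    rw [hat', hc, map_zero, ← Category.assoc, hσ, hj]
    exact h0 T x)
  have eH : H ≫ j = π ≫ zt ≫ j := e0.homEquiv.injective (by
    rw [hj, Equiv.apply_symm_apply, hr, e0.homEquiv_comp, hj]
    refine Subtype.ext ?_
    change (AMonS.faceMap S hF ▷ T') ≫ (AMonS S N ◁ π) ≫ x.1 = (AMonS S F ◁ π) ≫ (AMonS.faceMap S hF ▷ T) ≫ x.1
    exact (whisker_exchange_assoc (AMonS.faceMap S hF) π x.1).symm)
  exact ⟨H.left, congrArg CommaMorphism.left e1, congrArg CommaMorphism.left e0', congrArg CommaMorphism.left eH⟩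

end Groth.Agent.MagnetLib.ConnFibre
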