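import Groth.Agent.MagnetLib.FaceLift
import Groth.Agent.MagnetLib.Sheaf
import Mathlib.AlgebraicGeometry.Sites.Representability
import Mathlib.CategoryTheory.Sites.Over
import Mathlib.CategoryTheory.Sites.SubcanonicalOver

/-!
# Gluing lifts of attractors along faces
-/

set_option autoImplicit false

universe u

noncomputable section

open CategoryTheory CategoryTheory.Limits MonoidalCategory CartesianMonoidalCategory MonObj AlgebraicGeometry Opposite

namespace Groth.Agent.MagnetLib.Avg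

open Magnet Magnet.MonAct

variable {S : Scheme.{u}} {M : Type} [AddCommGroup M] {N F : AddSubmonoid M}
variable {U X : Over S} {aU : MonAct (AMonS S M) U} {aX : MonAct (AMonS S M) X} {f : U ⟶ X}

theorem exists_face_lift [AddGroup.FG M] [IsOpenImmersion (pullback.diagonal f.left)] (hf : IsEquivariant aU aX f)
    (hF : IsFace N F)
    (haff : ∀ (A : Type u) [CommRing A] (str : Spec (CommRingCat.of A) ⟶ S)
      (x : (attr aX N).obj (op (Over.mk str))) (y : (attr aU F).obj (op (Over.mk str))),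
      y.1 ≫ f = (AMonS.faceMap S hF ▷ Over.mk str) ≫ x.1 →
      ∃ z : (attr aU N).obj (op (Over.mk str)), z.1 ≫ f = x.1 ∧ (AMonS.faceMap S hF ▷ Over.mk str) ≫ z.1 = y.1)
    (T : Over S) (x : (attr aX N).obj (op T)) (y : (attr aU F).obj (op T))
    (h : y.1 ≫ f = (AMonS.faceMap S hF ▷ T) ≫ x.1) :
    ∃ z : (attr aU N).obj (op T), z.1 ≫ f = x.1 ∧ (AMonS.faceMap S hF ▷ T) ≫ z.1 = y.1 := by
  let P : ∀ (W : Over S), (W ⟶ T) → (attr aU N).obj (op W) → Prop := fun W k z =>
    z.1 ≫ f = (AMonS S N ◁ k) ≫ x.1 ∧ (AMonS.faceMap S hF ▷ W) ≫ z.1 = (AMonS S F ◁ k) ≫ y.1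
  have hres : ∀ {V W : Over S} (g : V ⟶ W) (k : W ⟶ T) (z : (attr aU N).obj (op W)), P W k z →
      P V (g ≫ k) ((attr aU N).map g.op z) := by
    rintro V W g k z ⟨h1, h2⟩
    refine ⟨?_, ?_⟩
    · change ((AMonS S N ◁ g) ≫ z.1) ≫ f = _
      rw [Category.assoc, h1, MonoidalCategory.whiskerLeft_comp, Category.assoc]
    · change (AMonS.faceMap S hF ▷ V) ≫ (AMonS S N ◁ g) ≫ z.1 = _
      rw [← whisker_exchange_assoc, h2, MonoidalCategory.whiskerLeft_comp, Category.assoc]
  have huniq : ∀ {W : Over S} (k : W ⟶ T) (z z' : (attr aU N).obj (op W)), P W k z → P W k z' → z = z' :=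
    fun k z z' hz hz' => eq_of_face hF _ z z' (hz.1.trans hz'.1.symm) (hz.2.trans hz'.2.symm)
  let R : Sieve T :=
    { arrows := fun W k => ∃ z, P W k z
      downward_closed := fun {W V k} hk g => ⟨_, hres g k _ hk.choose_spec⟩ }
  have hR : R ∈ (Scheme.zariskiTopology.{u}.over S) T := by
    rw [GrothendieckTopology.mem_over_iff]
    refine GrothendieckTopology.superset_covering _ ?_ T.left.affineOpenCover.openCover.mem_grothendieckTopology
    rw [Sieve.ofArrows, Sieve.generate_le_iff]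
    rintro _ _ ⟨i⟩
    let j : T.left.affineOpenCover.openCover.X i ⟶ T.left := T.left.affineOpenCover.openCover.f i
    let k : Over.mk (j ≫ T.hom) ⟶ T := Over.homMk j rfl
    refine (Sieve.overEquiv_iff R j).2 (show ∃ z, P _ k z from ?_)
    obtain ⟨z, hz1, hz2⟩ := haff (T.left.affineOpenCover.X i) (j ≫ T.hom) ((attr aX N).map k.op x)
      ((attr aU F).map k.op y) (by
        change ((AMonS S F ◁ k) ≫ y.1) ≫ f = (AMonS.faceMap S hF ▷ _) ≫ (AMonS S N ◁ k) ≫ x.1
        rw [Category.assoc, h, ← whisker_exchange_assoc])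
    exact ⟨z, hz1, hz2⟩
  have hsub : ∀ Z : Over S, Presieve.IsSheaf (Scheme.zariskiTopology.{u}.over S) (yoneda.obj Z) :=
    fun Z => GrothendieckTopology.Subcanonical.isSheaf_of_isRepresentable _
  let fam : Presieve.FamilyOfElements (attr aU N) R.arrows := fun W k hk => hk.choose
  have hfam : fam.Compatible := by
    rw [Presieve.compatible_iff_sieveCompatible]
    intro W V k g hk
    exact huniq (g ≫ k) _ _ (R.downward_closed hk g).choose_spec (hres g k _ hk.choose_spec)
  obtain ⟨z, hz, -⟩ := isSheaf_eqvHom hsub (subAct S M N) aU R hR fam hfam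
  refine ⟨z, ?_, ?_⟩
  · refine congrArg Subtype.val ((isSheaf_eqvHom hsub (subAct S M N) aX R hR).isSeparatedFor.ext
      (t₁ := ⟨z.1 ≫ f, z.2.comp hf⟩) (t₂ := x) fun W k hk => Subtype.ext ?_)
    have e : (AMonS S N ◁ k) ≫ z.1 = (fam k hk).1 := congrArg Subtype.val (hz k hk)
    change (AMonS S N ◁ k) ≫ z.1 ≫ f = (AMonS S N ◁ k) ≫ x.1
    rw [← Category.assoc, e]
    exact hk.choose_spec.1
  · refine congrArg Subtype.val ((isSheaf_eqvHom hsub (subAct S M F) aU R hR).isSeparatedFor.ext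
      (t₁ := (attrFace aU hF).app (op T) z) (t₂ := y) fun W k hk => Subtype.ext ?_)
    have e : (AMonS S N ◁ k) ≫ z.1 = (fam k hk).1 := congrArg Subtype.val (hz k hk)
    change (AMonS S F ◁ k) ≫ (AMonS.faceMap S hF ▷ T) ≫ z.1 = (AMonS S F ◁ k) ≫ y.1
    rw [whisker_exchange_assoc, e]
    exact hk.choose_spec.2

/-- The cartesian square from existence of lifts. -/
theorem isPullback_postcomp_of_lifts [AddGroup.FG M] [IsOpenImmersion (pullback.diagonal f.left)]
    (hf : IsEquivariant aU aX f) (hF : IsFace N F)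
    (haff : ∀ (A : Type u) [CommRing A] (str : Spec (CommRingCat.of A) ⟶ S)
      (x : (attr aX N).obj (op (Over.mk str))) (y : (attr aU F).obj (op (Over.mk str))),
      y.1 ≫ f = (AMonS.faceMap S hF ▷ Over.mk str) ≫ x.1 →
      ∃ z : (attr aU N).obj (op (Over.mk str)), z.1 ≫ f = x.1 ∧ (AMonS.faceMap S hF ▷ Over.mk str) ≫ z.1 = y.1) :
    IsPullback (eqvHom.postcomp (subAct S M N) f hf) (attrFace aU hF) (attrFace aX hF)
      (eqvHom.postcomp (subAct S M F) f hf) := by
  refine IsPullback.of_forall_isPullback_app fun T => ?_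
  rw [Types.isPullback_iff]
  refine ⟨?_, fun e e' h => eq_of_face hF _ e e' (congrArg Subtype.val h.1) (congrArg Subtype.val h.2),
    fun x y h => ?_⟩
  · ext e
    exact Subtype.ext (Category.assoc (AMonS.faceMap S hF ▷ unop T) e.1 f).symm
  · obtain ⟨z, hz1, hz2⟩ := exists_face_lift hf hF haff (unop T) x y (congrArg Subtype.val h).symm
    exact ⟨z, Subtype.ext hz1, Subtype.ext hz2⟩

theorem isPullback_postcomp_of_fg [AddGroup.FG M] [IsAffineHom U.hom] [Etale f.left]
    (hf : IsEquivariant aU aX f) (hF : IsFace N F) (hN : N.FG) :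
    IsPullback (eqvHom.postcomp (subAct S M N) f hf) (attrFace aU hF) (attrFace aX hF)
      (eqvHom.postcomp (subAct S M F) f hf) := by
  obtain ⟨φ, hφ⟩ := exists_faceWeightHom hN hF
  exact isPullback_postcomp_of_lifts hf hF fun A _ str x y h => exists_face_lift_affine hf hF φ hφ x y h

end Groth.Agent.MagnetLib.Avg
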