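import Groth.Agent.MagnetLib.FaceLvl

/-!
# Lifting attractors of a face along étale equivariant morphisms with source affine over the base
-/

set_option autoImplicit false
set_option backward.isDefEq.respectTransparency false

universe u

noncomputable section

open CategoryTheory CategoryTheory.Limits MonoidalCategory CartesianMonoidalCategory MonObj AlgebraicGeometry Opposite
open scoped Polynomial

namespace Groth.Agent.MagnetLib.Avg

open Magnet Magnet.MonAct

variable {S : Scheme.{u}} {M : Type} [AddCommGroup M] {N F : AddSubmonoid M}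
variable {A : Type u} [CommRing A] {str : Spec (CommRingCat.of A) ⟶ S}

theorem mem_lvl_dlt (φ : M →+ ℤ) (hφ : ∀ x ∈ N, 0 ≤ φ x ∧ (φ x = 0 ↔ x ∈ F)) {j : ℕ} {x : gRing N A}
    (hx : x ∈ lvl (theta φ hφ) j) :
    MonoidAlgebra.mapRingHom (Multiplicative M) (Ideal.Quotient.mk (lvl (theta φ hφ) j)) (dlt N A x) = 0 := by
  classical
  rw [← MonoidAlgebra.sum_coeff_single x, Finsupp.sum, map_sum, map_sum]
  refine Finset.sum_eq_zero fun m hm => ?_
  rw [dlt_single, MonoidAlgebra.mapRingHom_single,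
    Ideal.Quotient.eq_zero_iff_mem.2 ((mem_lvl_theta φ hφ).2 fun n hn => ?_), MonoidAlgebra.single_zero]
  rw [MonoidAlgebra.coeff_single, Finsupp.single_apply]
  split
  · next h => exact h ▸ (mem_lvl_theta φ hφ).1 hx m (h ▸ hn)
  · rfl

section Family

variable (str) (φw : M →+ ℤ) (hφ : ∀ x ∈ N, 0 ≤ φw x ∧ (φw x = 0 ↔ x ∈ F))

/-- The structure map of the family. -/
abbrev cN : Spec (CommRingCat.of (gRing N A)) ⟶ S := Spec.map (CommRingCat.ofHom (incl N A)) ≫ str

/-- A neighbourhood of the face stratum. -/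
abbrev nbhd (j : ℕ) : Over S := lvlObj (theta (A := A) φw hφ) (cN str) j

/-- A neighbourhood mapped into the family. -/
def qLvl (j : ℕ) : nbhd str φw hφ j ⟶ AMonS S N ⊗ Over.mk str :=
  quotι (c := cN str) (lvl (theta (A := A) φw hφ) j) ≫ gc N A str

/-- The coaction on a neighbourhood. -/
def dLvlHom (j : ℕ) : gRing N A ⧸ lvl (theta (A := A) φw hφ) j →+*
    gRing M (gRing N A ⧸ lvl (theta (A := A) φw hφ) j) :=
  Ideal.Quotient.lift _
    ((MonoidAlgebra.mapRingHom (Multiplicative M) (Ideal.Quotient.mk (lvl (theta φw hφ) j))).comp (dlt N A))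
    fun _ hz => mem_lvl_dlt φw hφ hz

theorem dLvlHom_mk (j : ℕ) : (dLvlHom φw hφ j).comp (Ideal.Quotient.mk _) =
    (MonoidAlgebra.mapRingHom (Multiplicative M) (Ideal.Quotient.mk (lvl (theta (A := A) φw hφ) j))).comp (dlt N A) :=
  Ideal.Quotient.lift_comp_mk _ _ _

/-- The action on a neighbourhood. -/
def dLvl (j : ℕ) : gOver M (gRing N A ⧸ lvl (theta (A := A) φw hφ) j)
    (Spec.map (CommRingCat.ofHom (Ideal.Quotient.mk (lvl (theta (A := A) φw hφ) j))) ≫ cN str) ⟶ nbhd str φw hφ j :=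
  Over.homMk (Spec.map (CommRingCat.ofHom (dLvlHom φw hφ j))) (by
    change Spec.map _ ≫ Spec.map _ ≫ Spec.map _ ≫ str = Spec.map _ ≫ Spec.map _ ≫ Spec.map _ ≫ str
    simp only [← Category.assoc, ← Spec.map_comp, ← CommRingCat.ofHom_comp]
    rw [← RingHom.comp_assoc, dLvlHom_mk]
    congr 3
    refine RingHom.ext fun a => ?_
    simp only [RingHom.comp_apply, dlt_incl]
    simp)

theorem dLvl_left (j : ℕ) : (dLvl str φw hφ j).left = Spec.map (CommRingCat.ofHom (dLvlHom φw hφ j)) := rfl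

theorem dLvl_qLvl (j : ℕ) :
    dLvl str φw hφ j ≫ qLvl str φw hφ j =
      gc M _ _ ≫ (AMonS S M ◁ qLvl str φw hφ j) ≫ (actN N (Over.mk str)).act := by
  have hd : (dLvl str φw hφ j ≫ quotι (c := cN str) (lvl (theta (A := A) φw hφ) j)).left =
      Spec.map (CommRingCat.ofHom ((MonoidAlgebra.mapRingHom (Multiplicative M)
        (Ideal.Quotient.mk (lvl (theta (A := A) φw hφ) j))).comp (dlt N A))) := by
    rw [Over.comp_left, dLvl_left]
    change _ ≫ Spec.map _ = _
    rw [← Spec.map_comp, ← CommRingCat.ofHom_comp, dLvlHom_mk]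
  have h := gc_act (N := N) (str := str) (Ideal.Quotient.mk (lvl (theta (A := A) φw hφ) j))
    (quotι (c := cN str) (lvl (theta (A := A) φw hφ) j)) rfl
    (dLvl str φw hφ j ≫ quotι (c := cN str) (lvl (theta (A := A) φw hφ) j)) hd
  unfold qLvl
  rw [h, Category.assoc]

theorem lvlι_qLvl {i j : ℕ} (h : i ≤ j) :
    lvlι (theta (A := A) φw hφ) (cN str) h ≫ qLvl str φw hφ j = qLvl str φw hφ i := by
  rw [qLvl, qLvl, ← Category.assoc, lvlι_quotι]

instance mono_qLvl (j : ℕ) : Mono (qLvl str φw hφ j) := by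
  have : IsClosedImmersion (quotι (c := cN str) (lvl (theta (A := A) φw hφ) j)).left :=
    IsClosedImmersion.spec_of_surjective _ Ideal.Quotient.mk_surjective
  have : Mono (quotι (c := cN str) (lvl (theta (A := A) φw hφ) j)) := Over.mono_of_mono_left _
  have hi : Mono (eN N str).hom := (eN N str).isIso_hom.mono_of_iso
  exact mono_comp' this hi

theorem mk_mono_eq_zero (n : N) (hn : (n : M) ∉ F) :
    Ideal.Quotient.mk (lvl (theta (A := A) φw hφ) 1) (mono N A n) = 0 := by
  classical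
  refine Ideal.Quotient.eq_zero_iff_mem.2 ((mem_lvl_theta φw hφ).2 fun m hm => ?_)
  rw [MonoidAlgebra.coeff_single, Finsupp.single_apply, if_neg]
  rintro rfl
  simp only [wt, Nat.lt_one_iff, Int.toNat_eq_zero, toAdd_ofAdd] at hm
  exact hn ((hφ _ n.2).2.1 (le_antisymm hm (hφ _ n.2).1))

theorem qLvl_one_face (hF : IsFace N F) :
    qLvl str φw hφ 1 ≫ (AMonS.map S (AddSubmonoid.inclusion hF.le) ▷ Over.mk str) ≫
      (AMonS.faceMap S hF ▷ Over.mk str) = qLvl str φw hφ 1 := by
  refine CartesianMonoidalCategory.hom_ext _ _ (mFn_ext fun n => ?_) (by simp)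
  simp only [Category.assoc, whiskerRight_fst, whiskerRight_fst_assoc]
  rw [← Category.assoc (qLvl str φw hφ 1), ← Category.assoc, mFn_faceMap]
  by_cases hn : (n : M) ∈ F
  · rw [dif_pos hn, mFn_map]
    rfl
  · rw [dif_neg hn]
    simp only [qLvl, Category.assoc]
    rw [mFn_comp, mFn_gc_fst]
    erw [appTop_spec]
    rw [mk_mono_eq_zero φw hφ n hn, map_zero]

/-- Maps agreeing on the first neighbourhood agree on the face. -/
theorem face_ext (hF : IsFace N F) {Z : Over S} (u v : AMonS S N ⊗ Over.mk str ⟶ Z)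
    (h : qLvl str φw hφ 1 ≫ u = qLvl str φw hφ 1 ≫ v) :
    (AMonS.faceMap S hF ▷ Over.mk str) ≫ u = (AMonS.faceMap S hF ▷ Over.mk str) ≫ v := by
  classical
  let θ := theta (A := A) φw hφ
  let tF : gOver F A str ⟶ gOver N A str :=
    (eN F str).hom ≫ (AMonS.faceMap S hF ▷ Over.mk str) ≫ (eN N str).inv
  let p : gRing N A →+* gRing F A := (Spec.preimage tF.left).hom
  have hker : ∀ z ∈ lvl θ 1, p z = 0 := fun z hz => by
    rw [← MonoidAlgebra.sum_coeff_single z, Finsupp.sum, map_sum]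
    refine Finset.sum_eq_zero fun m hm => ?_
    have hmF : ((m.toAdd : N) : M) ∉ F := fun hmF =>
      Finsupp.mem_support_iff.1 hm ((mem_lvl_theta φw hφ).1 hz m (by
        rw [wt, ((hφ _ m.toAdd.2).2).2 hmF]
        simp))
    rw [show MonoidAlgebra.single m (z.coeff m) = incl N A (z.coeff m) * mono N A m.toAdd by
      simp [MonoidAlgebra.single_mul_single], map_mul]
    exact mul_eq_zero_of_right _ (mono_face_zero hF m.toAdd hmF)
  have e : CommRingCat.ofHom (Ideal.Quotient.mk (lvl θ 1)) ≫ CommRingCat.ofHom (Ideal.Quotient.lift _ p hker) =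
      Spec.preimage tF.left := CommRingCat.hom_ext (Ideal.Quotient.lift_comp_mk _ _ _)
  let k : gOver F A str ⟶ nbhd str φw hφ 1 :=
    Over.homMk (Spec.map (CommRingCat.ofHom (Ideal.Quotient.lift _ p hker))) (by
      change Spec.map _ ≫ Spec.map _ ≫ cN str = _
      rw [← Category.assoc, ← Spec.map_comp, e, Spec.map_preimage]
      exact Over.w tF)
  have hk : k ≫ qLvl str φw hφ 1 = (eN F str).hom ≫ (AMonS.faceMap S hF ▷ Over.mk str) := by
    have e' : k ≫ quotι (c := cN str) (lvl θ 1) = tF := by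
      refine Over.OverMorphism.ext ?_
      change Spec.map _ ≫ Spec.map _ = _
      rw [← Spec.map_comp, e, Spec.map_preimage]
    rw [qLvl, reassoc_of% e']
    simp only [tF, show gc N A str = (eN N str).hom from rfl, Category.assoc, Iso.inv_hom_id, Category.comp_id]
  rw [← cancel_epi (eN F str).hom, ← Category.assoc, ← hk, Category.assoc, h, ← Category.assoc, hk, Category.assoc]

variable {U X : Over S} {aU : MonAct (AMonS S M) U} {aX : MonAct (AMonS S M) X} {f : U ⟶ X}

/-- The compatible family of lifts to the neighbourhoods. -/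
theorem exists_lvl_family [Etale f.left] (hf : IsEquivariant aU aX f) (hF : IsFace N F)
    (x : (attr aX N).obj (op (Over.mk str))) (y : (attr aU F).obj (op (Over.mk str)))
    (h : y.1 ≫ f = (AMonS.faceMap S hF ▷ Over.mk str) ≫ x.1) :
    ∃ v : ∀ j, nbhd str φw hφ (j + 1) ⟶ U,
      (∀ j, v j ≫ f = qLvl str φw hφ (j + 1) ≫ x.1) ∧
      (∀ {i j : ℕ} (hij : i ≤ j), lvlι _ (cN str) (Nat.add_le_add_right hij 1) ≫ v j = v i) ∧
      (∀ j, dLvl str φw hφ (j + 1) ≫ v j = gc M _ _ ≫ (AMonS S M ◁ v j) ≫ aU.act) ∧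
      v 0 = qLvl str φw hφ 1 ≫ (AMonS.map S (AddSubmonoid.inclusion hF.le) ▷ Over.mk str) ≫ y.1 := by
  let θ := theta (A := A) φw hφ
  let q := qLvl str φw hφ
  let rr := AMonS.map S (AddSubmonoid.inclusion hF.le) ▷ Over.mk str
  let v₁ : nbhd str φw hφ 1 ⟶ U := q 1 ≫ rr ≫ y.1
  have hv₁ : v₁ ≫ f = quotι (lvl θ 1) ≫ gc N A str ≫ x.1 := by
    simp only [v₁, q, rr, Category.assoc, h]
    rw [reassoc_of% (qLvl_one_face str φw hφ hF)]
    simp only [qLvl, Category.assoc]
    rfl
  choose v hvf hv1 using exists_lvl_lift θ (cN str) f (gc N A str ≫ x.1) v₁ hv₁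
  have hvf' : ∀ j, v j ≫ f = q (j + 1) ≫ x.1 := fun j => by
    rw [hvf]
    exact (Category.assoc _ _ _).symm
  refine ⟨v, hvf', fun {i j} hij => ?_, fun j => ?_, ?_⟩
  · refine eq_of_surjective_unram f _ _ _ (surjective_lvlι θ (cN str) i) ?_ ?_
    · rw [Category.assoc, hvf', hvf', ← Category.assoc, lvlι_qLvl]
    · rw [hv1, ← Category.assoc, lvlι_trans, hv1]
  · let π := lvlι θ (cN str) (Nat.le_add_left 1 j)
    let c₀ := gc M (gRing N A ⧸ lvl θ 1) _ ≫ (AMonS S M ◁ π) ≫ inv (gc M (gRing N A ⧸ lvl θ (j + 1)) _)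
    have hdπ : c₀ ≫ dLvl str φw hφ (j + 1) = dLvl str φw hφ 1 ≫ π := by
      rw [← cancel_mono (qLvl str φw hφ (j + 1))]
      simp only [c₀, π, θ, Category.assoc]
      rw [dLvl_qLvl str φw hφ (j + 1), lvlι_qLvl str φw hφ, dLvl_qLvl str φw hφ 1, IsIso.inv_hom_id_assoc,
        ← MonoidalCategory.whiskerLeft_comp_assoc, lvlι_qLvl str φw hφ]
    refine eq_of_surjective_unram f _ _ c₀ ?_ ?_ ?_
    · intro p
      obtain ⟨p', hp'⟩ := surjective_lvlι θ (cN str) j ((gc M _ _ ≫ snd _ _).left p)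
      obtain ⟨r, hr⟩ := preimage_range_whiskerLeft π ((gc M _ _).left p)
        ⟨p', hp'.trans (Scheme.Hom.comp_apply _ _ _)⟩
      refine ⟨(inv (gc M _ _)).left r, ?_⟩
      rw [← Scheme.Hom.comp_apply, ← Over.comp_left, IsIso.inv_hom_id_assoc, Over.comp_left, Scheme.Hom.comp_apply,
        hr, ← Scheme.Hom.comp_apply, ← Over.comp_left, IsIso.hom_inv_id]
      rfl
    · have hx := x.2
      have hf' := hf
      unfold IsEquivariant at hx hf'
      simp only [Category.assoc]
      rw [hf', ← MonoidalCategory.whiskerLeft_comp_assoc, hvf', reassoc_of% (dLvl_qLvl str φw hφ (j + 1))]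
      simp only [q, MonoidalCategory.whiskerLeft_comp, Category.assoc]
      exact congrArg (gc M _ _ ≫ (AMonS S M ◁ qLvl str φw hφ (j + 1)) ≫ ·) hx
    · rw [reassoc_of% hdπ, hv1]
      simp only [c₀, θ, Category.assoc, IsIso.inv_hom_id_assoc]
      rw [← MonoidalCategory.whiskerLeft_comp_assoc, hv1]
      have hy := y.2
      have hr := isEquivariant_toFace hF (Over.mk str)
      unfold IsEquivariant at hy hr
      simp only [v₁, q, rr, MonoidalCategory.whiskerLeft_comp, Category.assoc]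
      rw [← hy, ← reassoc_of% hr, ← reassoc_of% (dLvl_qLvl str φw hφ 1)]
  · exact (Category.id_comp _).symm.trans ((congrArg (· ≫ v 0) (lvlι_self θ (cN str) 1).symm).trans (hv1 0))

/-- A compatible equivariant family on the neighbourhoods comes from an equivariant map. -/
theorem exists_of_lvl_family [IsAffineHom U.hom] (v : ∀ j, nbhd str φw hφ (j + 1) ⟶ U)
    (hcompat : ∀ {i j : ℕ} (hij : i ≤ j), lvlι _ (cN str) (Nat.add_le_add_right hij 1) ≫ v j = v i)
    (hE : ∀ j, dLvl str φw hφ (j + 1) ≫ v j = gc M _ _ ≫ (AMonS S M ◁ v j) ≫ aU.act) :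
    ∃ z : (attr aU N).obj (op (Over.mk str)), ∀ j, qLvl str φw hφ (j + 1) ≫ z.1 = v j := by
  classical
  let θ := theta (A := A) φw hφ
  let G := AMonS S M
  let T := Over.mk str
  let q := qLvl str φw hφ
  let P := U ⊗ T
  have : IsAffineHom (pullback.snd U.hom str) := MorphismProperty.pullback_snd (P := @IsAffineHom) _ _ inferInstance
  have : IsAffine P.left := isAffine_of_isAffineHom (pullback.snd U.hom str)
  let R := Γ(P.left, ⊤)
  let cR : Spec (CommRingCat.of R) ⟶ S := P.left.isoSpec.inv ≫ P.hom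
  let σ : Over.mk cR ≅ P := Over.isoMk P.left.isoSpec.symm rfl
  let bP : MonAct G P := aU.prod (MonAct.trivial G T)
  let actR := transport σ bP
  let ρ : R →+* gRing M R := (Spec.preimage (gc M R cR ≫ actR.act).left).hom
  have hρ : (gc M R cR ≫ actR.act).left = Spec.map (CommRingCat.ofHom ρ) := (Spec.map_preimage _).symm
  let iA : A →+* R := (Spec.preimage (σ.hom ≫ snd U T).left).hom
  have hiA : (σ.hom ≫ snd U T).left = Spec.map (CommRingCat.ofHom iA) := (Spec.map_preimage _).symm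
  let w : ∀ j, nbhd str φw hφ (j + 1) ⟶ Over.mk cR := fun j =>
    CartesianMonoidalCategory.lift (v j) (q (j + 1) ≫ snd _ _) ≫ σ.inv
  let a : ∀ j, R →+* gRing N A ⧸ lvl θ (j + 1) := fun j => (Spec.preimage (w j).left).hom
  have ha : ∀ j, (w j).left = Spec.map (CommRingCat.ofHom (a j)) := fun j => (Spec.map_preimage _).symm
  have hbP : ∀ {W : Over S} (k : W ⟶ G ⊗ P), k ≫ bP.act ≫ fst U T = k ≫ (G ◁ fst U T) ≫ aU.act ∧
      k ≫ bP.act ≫ snd U T = k ≫ snd G P ≫ snd U T := fun {W} k => by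
    constructor <;>
    · rw [← lift_comp_fst_snd k, ← lift_comp_fst_snd (k ≫ snd G P)]
      simp only [bP, lift_prod_act_assoc, lift_fst, lift_snd, lift_trivial_act, lift_whiskerLeft_assoc, lift_snd_assoc]
  have hw : ∀ j, dLvl str φw hφ (j + 1) ≫ w j = gc M _ _ ≫ (G ◁ w j) ≫ actR.act := fun j => by
    rw [← cancel_mono σ.hom]
    simp only [w, actR, transport, mk'_act, Category.assoc, Iso.inv_hom_id, Category.comp_id,
      ← MonoidalCategory.whiskerLeft_comp_assoc]
    refine CartesianMonoidalCategory.hom_ext _ _ ?_ ?_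
    · simp only [Category.assoc]
      rw [lift_fst, hE, ← Category.assoc (gc M _ _), (hbP _).1, Category.assoc,
        ← MonoidalCategory.whiskerLeft_comp_assoc, lift_fst]
    · simp only [Category.assoc]
      rw [lift_snd, ← Category.assoc (gc M _ _), (hbP _).2, Category.assoc, whiskerLeft_snd_assoc, lift_snd]
      have := congrArg (· ≫ snd _ _) (dLvl_qLvl str φw hφ (j + 1))
      simp only [Category.assoc, actN_snd, whiskerLeft_snd_assoc] at this
      exact this
  have heq : ∀ (j : ℕ) (r : R) (z : gRing N A), Ideal.Quotient.mk (lvl θ (j + 1)) z = a j r →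
      MonoidAlgebra.mapRingHom (Multiplicative M) (Ideal.Quotient.mk (lvl θ (j + 1))) (dlt N A z) =
        MonoidAlgebra.mapRingHom (Multiplicative M) (a j) (ρ r) := by
    intro j r z hz
    have e : CommRingCat.ofHom (a j) ≫ CommRingCat.ofHom (dLvlHom φw hφ (j + 1)) =
        CommRingCat.ofHom ρ ≫ CommRingCat.ofHom (MonoidAlgebra.mapRingHom (Multiplicative M) (a j)) := by
      have e0 := congrArg CommaMorphism.left ((hw j).trans (Category.assoc _ _ _).symm)
      apply Spec.map_injective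
      rw [Spec.map_comp, Spec.map_comp]
      exact (congrArg (Spec.map (CommRingCat.ofHom (dLvlHom φw hφ (j + 1))) ≫ ·) (ha j).symm).trans (e0.trans
        ((congrArg (· ≫ actR.act.left) (gc_map (w j) (a j) (ha j))).trans
          ((Category.assoc _ _ _).trans (congrArg (_ ≫ ·) hρ))))
    refine Eq.trans ?_ congr(($e).hom r)
    change _ = dLvlHom φw hφ (j + 1) (a j r)
    rw [← hz]
    exact congr($(dLvlHom_mk φw hφ (j + 1)) z).symm
  obtain ⟨χ, hχ, hχeq⟩ := exists_hom_of_levels φw hφ ρ a (fun i j hij r z hz => by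
    have e : lvlι θ (cN str) (Nat.add_le_add_right hij 1) ≫ w j = w i := by
      simp only [w, q, θ, comp_lift_assoc, hcompat hij, ← Category.assoc (lvlι _ _ _) (qLvl str φw hφ _), lvlι_qLvl]
    have e' : CommRingCat.ofHom (a j) ≫
        CommRingCat.ofHom (Ideal.Quotient.factor (lvl_antitone θ (Nat.add_le_add_right hij 1))) =
        CommRingCat.ofHom (a i) := by
      apply Spec.map_injective
      rw [Spec.map_comp, ← ha, ← ha, ← lvlι_left θ (cN str) (Nat.add_le_add_right hij 1), ← Over.comp_left, e]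
    have e'' : Ideal.Quotient.factor (lvl_antitone θ (Nat.add_le_add_right hij 1)) (a j r) = a i r :=
      congr(($e').hom r)
    rw [← hz] at e''
    exact e'') heq
  have hχi : χ.comp iA = incl N A := RingHom.ext fun c => eq_of_forall_quot θ (theta_eval φw hφ) fun j => by
    refine Ideal.Quotient.eq.2 (lvl_antitone θ (Nat.le_succ j) (Ideal.Quotient.eq.1 ?_))
    rw [RingHom.comp_apply, hχ]
    have e : CommRingCat.ofHom iA ≫ CommRingCat.ofHom (a j) =
        CommRingCat.ofHom (incl N A) ≫ CommRingCat.ofHom (Ideal.Quotient.mk (lvl θ (j + 1))) := by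
      apply Spec.map_injective
      rw [Spec.map_comp, Spec.map_comp, ← ha, ← hiA, ← gc_snd N A str, ← Over.comp_left]
      change _ = (quotι (c := cN str) (lvl θ (j + 1)) ≫ gc N A str ≫ snd _ _).left
      simp only [w, q, θ, qLvl, Category.assoc, Iso.inv_hom_id_assoc, lift_snd]
    exact congr(($e).hom c)
  let ω : gOver N A str ⟶ Over.mk cR := Over.homMk (Spec.map (CommRingCat.ofHom χ)) (by
    have e : cR = Spec.map (CommRingCat.ofHom iA) ≫ str := by
      rw [← hiA]
      exact (Over.w (σ.hom ≫ snd U T)).symm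
    change Spec.map _ ≫ cR = Spec.map _ ≫ str
    rw [e, ← Category.assoc, ← Spec.map_comp, ← CommRingCat.ofHom_comp, hχi])
  have hω : ∀ j, quotι (c := cN str) (lvl θ (j + 1)) ≫ ω = w j := fun j => by
    refine Over.OverMorphism.ext ?_
    rw [ha]
    change Spec.map _ ≫ Spec.map _ = _
    rw [← Spec.map_comp, ← CommRingCat.ofHom_comp]
    congr 2
    exact RingHom.ext (hχ j)
  let χ₀ : AMonS S N ⊗ T ⟶ U := inv (gc N A str) ≫ ω ≫ σ.hom ≫ fst U T
  refine ⟨⟨χ₀, ?_⟩, fun j => ?_⟩
  · let D : gOver M (gRing N A) (cN str) ⟶ gOver N A str :=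
      Over.homMk (Spec.map (CommRingCat.ofHom (dlt N A))) (by
        change Spec.map _ ≫ Spec.map _ ≫ str = Spec.map _ ≫ Spec.map _ ≫ str
        simp only [← Category.assoc, ← Spec.map_comp, ← CommRingCat.ofHom_comp]
        congr 3
        exact RingHom.ext dlt_incl)
    have hD := gc_act (RingHom.id (gRing N A)) (𝟙 (gOver N A str)) (by simp) D (by
      rw [MonoidAlgebra.mapRingHom_id, RingHom.id_comp]
      rfl)
    rw [Category.id_comp] at hD
    have hDω : D ≫ ω = gc M (gRing N A) (cN str) ≫ (G ◁ ω) ≫ actR.act := by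
      refine Over.OverMorphism.ext ?_
      rw [← Category.assoc, Over.comp_left _ _ _ _ actR.act, gc_map ω χ rfl, Category.assoc, ← Over.comp_left, hρ]
      change Spec.map _ ≫ Spec.map _ = Spec.map _ ≫ Spec.map _
      rw [← Spec.map_comp, ← Spec.map_comp, ← CommRingCat.ofHom_comp, ← CommRingCat.ofHom_comp, hχeq]
    unfold IsEquivariant
    rw [← cancel_epi (G ◁ gc N A str), ← cancel_epi (gc M (gRing N A) (cN str)), reassoc_of% hD]
    simp only [χ₀, G, IsIso.hom_inv_id_assoc, ← MonoidalCategory.whiskerLeft_comp_assoc]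
    rw [reassoc_of% hDω]
    simp only [actR, transport, mk'_act, Category.assoc, Iso.inv_hom_id_assoc]
    rw [← MonoidalCategory.whiskerLeft_comp_assoc, ← Category.assoc (gc M _ _), (hbP _).1, Category.assoc,
      ← MonoidalCategory.whiskerLeft_comp_assoc]
    simp only [Category.assoc]
    rfl
  · change qLvl str φw hφ (j + 1) ≫ χ₀ = v j
    simp only [qLvl, χ₀, Category.assoc, IsIso.hom_inv_id_assoc]
    rw [reassoc_of% (hω j)]
    simp [w]
    exact lift_fst _ _

end Family

variable {U X : Over S} {aU : MonAct (AMonS S M) U} {aX : MonAct (AMonS S M) X} {f : U ⟶ X}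

theorem eq_of_face [AddGroup.FG M] [IsOpenImmersion (pullback.diagonal f.left)] (hF : IsFace N F) (T : Over S)
    (u v : (attr aU N).obj (op T)) (h1 : u.1 ≫ f = v.1 ≫ f)
    (h2 : (AMonS.faceMap S hF ▷ T) ≫ u.1 = (AMonS.faceMap S hF ▷ T) ≫ v.1) : u = v := by
  obtain ⟨O, hO, he⟩ := exists_open_eq f u.1 v.1 _ h1 h2
  exact Subtype.ext (ext_of_translates (actN N T) aU u.1 v.1 u.2 v.2 O he fun z => exists_translate hF O hO z)

theorem exists_face_lift_affine [AddGroup.FG M] [IsAffineHom U.hom] [Etale f.left] (hf : IsEquivariant aU aX f)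
    (hF : IsFace N F) (φw : M →+ ℤ) (hφ : ∀ x ∈ N, 0 ≤ φw x ∧ (φw x = 0 ↔ x ∈ F))
    (x : (attr aX N).obj (op (Over.mk str))) (y : (attr aU F).obj (op (Over.mk str)))
    (h : y.1 ≫ f = (AMonS.faceMap S hF ▷ Over.mk str) ≫ x.1) :
    ∃ z : (attr aU N).obj (op (Over.mk str)), z.1 ≫ f = x.1 ∧ (AMonS.faceMap S hF ▷ Over.mk str) ≫ z.1 = y.1 := by
  obtain ⟨v, hvf, hcompat, hE, hv0⟩ := exists_lvl_family str φw hφ hf hF x y h
  obtain ⟨z, hz⟩ := exists_of_lvl_family str φw hφ v hcompat hE
  refine ⟨z, ext_of_lvl hF φw hφ aX _ _ (z.2.comp hf) x.2 fun j => ?_, ?_⟩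
  · have e : qLvl str φw hφ j = lvlι _ (cN str) (Nat.le_succ j) ≫ qLvl str φw hφ (j + 1) := (lvlι_qLvl ..).symm
    have e2 : qLvl str φw hφ j ≫ z.1 ≫ f = qLvl str φw hφ j ≫ x.1 := by
      rw [e, Category.assoc, Category.assoc, reassoc_of% (hz j), hvf]
    simpa only [qLvl, Category.assoc] using e2
  · refine (face_ext str φw hφ hF z.1 _ ((hz 0).trans hv0)).trans ?_
    rw [← comp_whiskerRight_assoc, AMonS.faceMap_comp_map, id_whiskerRight, Category.id_comp]

end Groth.Agent.MagnetLib.Avg
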