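import Groth.Agent.MagnetLib.GradedLift
import Groth.Agent.MagnetLib.Sheaf
import Mathlib.AlgebraicGeometry.Morphisms.FormallyUnramified
import Mathlib.AlgebraicGeometry.Morphisms.Affine
import Mathlib.AlgebraicGeometry.Sites.Representability
import Mathlib.CategoryTheory.Sites.SubcanonicalOver

/-!
# Lifting attractors of a face along étale equivariant morphisms with source affine over the base
-/

set_option autoImplicit false
set_option backward.isDefEq.respectTransparency false

universe u

noncomputable section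

open CategoryTheory CategoryTheory.Limits MonoidalCategory CartesianMonoidalCategory MonObj AlgebraicGeometry Opposite
open scoped Polynomial

namespace Groth.Agent.MagnetLib.Avg

open Magnet Magnet.MonAct

section General

variable {S : Scheme.{u}} {U X Z Z₀ : Over S} (f : U ⟶ X) [IsOpenImmersion (pullback.diagonal f.left)]

/-- Two maps into an unramified scheme over `X` agree near the locus where they agree. -/
theorem exists_open_eq (a b : Z ⟶ U) (c : Z₀ ⟶ Z) (h1 : a ≫ f = b ≫ f) (h2 : c ≫ a = c ≫ b) :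
    ∃ O : Z.left.Opens, Set.range c.left ⊆ (O : Set Z.left) ∧ O.ι ≫ a.left = O.ι ≫ b.left := by
  let t := pullback.lift a.left b.left (congrArg CommaMorphism.left h1)
  let Δ := pullback.diagonal f.left
  refine ⟨t ⁻¹ᵁ Δ.opensRange, ?_, ?_⟩
  · rintro _ ⟨p, rfl⟩
    change t (c.left p) ∈ Set.range Δ
    refine ⟨(c ≫ a).left p, ?_⟩
    rw [← Scheme.Hom.comp_apply, ← Scheme.Hom.comp_apply]
    have e : (c ≫ a).left ≫ Δ = c.left ≫ t := by
      apply pullback.hom_ext
      · simp [t, Δ]
      · simp only [Δ, t, Category.assoc, pullback.diagonal_snd, pullback.lift_snd, Category.comp_id]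
        exact congrArg CommaMorphism.left h2
    rw [e]
  · have hr : Set.range ((t ⁻¹ᵁ Δ.opensRange).ι ≫ t) ⊆ Set.range Δ := by
      rintro _ ⟨p, rfl⟩
      exact p.2
    have e := IsOpenImmersion.lift_fac Δ _ hr
    have e1 := congrArg (· ≫ pullback.fst f.left f.left) e
    have e2 := congrArg (· ≫ pullback.snd f.left f.left) e
    simp only [Δ, t, Category.assoc, pullback.diagonal_fst, pullback.diagonal_snd, Category.comp_id,
      pullback.lift_fst, pullback.lift_snd] at e1 e2
    exact e1.symm.trans e2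

/-- Two maps into an unramified scheme over `X` agreeing on a surjective subscheme are equal. -/
theorem eq_of_surjective_unram (a b : Z ⟶ U) (c : Z₀ ⟶ Z) (hc : Function.Surjective c.left) (h1 : a ≫ f = b ≫ f)
    (h2 : c ≫ a = c ≫ b) : a = b := by
  obtain ⟨O, hO, he⟩ := exists_open_eq f a b c h1 h2
  have : IsIso O.ι := by
    have : O = ⊤ := eq_top_iff.2 fun z _ => hO (hc z)
    subst this
    exact inferInstanceAs (IsIso (Scheme.topIso Z.left).hom)
  exact Over.OverMorphism.ext ((cancel_epi O.ι).1 he)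

end General

section Coordinates

variable {S : Scheme.{u}} {M : Type} [AddCommMonoid M] {C C' : Type u} [CommRing C] [CommRing C']
  {c : Spec (CommRingCat.of C) ⟶ S} {c' : Spec (CommRingCat.of C') ⟶ S}

/-- Change of coefficients in the coordinates on the group. -/
theorem gc_map (t : Over.mk c' ⟶ Over.mk c) (g : C →+* C') (ht : t.left = Spec.map (CommRingCat.ofHom g)) :
    (gc M C' c' ≫ (AMonS S M ◁ t)).left =
      Spec.map (CommRingCat.ofHom (MonoidAlgebra.mapRingHom (Multiplicative M) g)) ≫ (gc M C c).left := by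
  have hι : (MonoidAlgebra.mapRingHom (Multiplicative M) g).comp (incl M C) = (incl M C').comp g :=
    RingHom.ext fun a => by simp
  let u : gOver M C' c' ⟶ gOver M C c :=
    Over.homMk (Spec.map (CommRingCat.ofHom (MonoidAlgebra.mapRingHom (Multiplicative M) g))) (by
      change Spec.map _ ≫ Spec.map _ ≫ c = _ ≫ c'
      have hc : Spec.map (CommRingCat.ofHom g) ≫ c = c' := by rw [← ht]; exact Over.w t
      rw [← hc, ← Category.assoc, ← Category.assoc, ← Spec.map_comp, ← Spec.map_comp, ← CommRingCat.ofHom_comp,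
        ← CommRingCat.ofHom_comp, hι])
  suffices gc M C' c' ≫ (AMonS S M ◁ t) = u ≫ gc M C c from congrArg CommaMorphism.left this
  refine gc_comp_ext (fun m => ?_) ?_
  · rw [Category.assoc, whiskerLeft_fst, mFn_gc_fst, Category.assoc, mFn_comp, mFn_gc_fst]
    change _ = (Spec.map (CommRingCat.ofHom (MonoidAlgebra.mapRingHom (Multiplicative M) g))).appTop _
    rw [appTop_spec]
    congr 1
    simp
  · refine Over.OverMorphism.ext ?_
    rw [Category.assoc, whiskerLeft_snd, Category.assoc u]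
    change (gc M C' c' ≫ snd _ _).left ≫ t.left = u.left ≫ (gc M C c ≫ snd _ _).left
    rw [gc_snd, gc_snd, ht]
    change Spec.map _ ≫ Spec.map _ = Spec.map _ ≫ Spec.map _
    rw [← Spec.map_comp, ← Spec.map_comp, ← CommRingCat.ofHom_comp, ← CommRingCat.ofHom_comp, hι]

end Coordinates

variable {S : Scheme.{u}} {M : Type} [AddCommGroup M] {N F : AddSubmonoid M}

theorem actN_snd (T : Over S) : (actN N T).act ≫ snd _ _ = snd _ _ ≫ snd (AMonS S N) T := by
  refine Magnet.hom_ext_lift₂ fun W g x => ?_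
  rw [← lift_comp_fst_snd x, ← Category.assoc, lift_actN, lift_snd, lift_snd_assoc, lift_snd]

theorem isEquivariant_whisker {L : AddSubmonoid M} (ψ : AMonS S L ⟶ AMonS S N)
    (hψ : IsEquivariant (subAct S M L) (subAct S M N) ψ) (T : Over S) :
    IsEquivariant (actN L T) (actN N T) (ψ ▷ T) := by
  rw [isEquivariant_iff]
  intro W g x
  rw [← lift_comp_fst_snd x, lift_prod_act_assoc, lift_whiskerRight, lift_whiskerRight, lift_prod_act,
    lift_trivial_act, Category.assoc, (isEquivariant_iff _ _ _).1 hψ]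

/-- A face projection followed by `A(N) → A(F)`, as an equivariant map. -/
theorem isEquivariant_toFace (hF : IsFace N F) (T : Over S) :
    IsEquivariant (actN N T) (actN F T) (AMonS.map S (AddSubmonoid.inclusion hF.le) ▷ T) :=
  isEquivariant_whisker _ (isEquivariant_restrict_regular _ _ _ (by rw [← AMonS.map_comp]; rfl)) T

variable {A : Type u} [CommRing A] {str : Spec (CommRingCat.of A) ⟶ S}

/-- The action in coordinates. -/
theorem gc_act {C' : Type u} [CommRing C'] {c' : Spec (CommRingCat.of C') ⟶ S} (g : gRing N A →+* C')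
    (t : Over.mk c' ⟶ gOver N A str) (ht : t.left = Spec.map (CommRingCat.ofHom g))
    (d : gOver M C' c' ⟶ gOver N A str)
    (hd : d.left = Spec.map (CommRingCat.ofHom ((MonoidAlgebra.mapRingHom (Multiplicative M) g).comp (dlt N A)))) :
    gc M C' c' ≫ (AMonS S M ◁ (t ≫ gc N A str)) ≫ (actN N (Over.mk str)).act = d ≫ gc N A str := by
  refine CartesianMonoidalCategory.hom_ext _ _ (mFn_ext fun n => ?_) ?_
  · have e : gc M C' c' ≫ (AMonS S M ◁ (t ≫ gc N A str)) ≫ (actN N (Over.mk str)).act ≫ fst _ _ =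
        ((gc M C' c' ≫ fst _ _) ≫ AMonS.map S N.subtype) * ((gc M C' c' ≫ snd _ _) ≫ t ≫ gc N A str ≫ fst _ _) := by
      rw [← Category.assoc, ← lift_comp_fst_snd (gc M C' c' ≫ _), Category.assoc, whiskerLeft_fst, Category.assoc,
        whiskerLeft_snd,
        show gc M C' c' ≫ snd _ _ ≫ t ≫ gc N A str = CartesianMonoidalCategory.lift
          ((gc M C' c' ≫ snd _ _) ≫ t ≫ gc N A str ≫ fst _ _) ((gc M C' c' ≫ snd _ _) ≫ t ≫ gc N A str ≫ snd _ _) from
          CartesianMonoidalCategory.hom_ext _ _ (by simp) (by simp), ← Category.assoc, lift_actN, lift_fst]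
    simp only [Category.assoc] at e ⊢
    rw [e, mFn_mul, ← Category.assoc (gc M C' c') (fst _ _), mFn_map, mFn_gc_fst,
      ← Category.assoc (gc M C' c') (snd _ _), mFn_comp, mFn_comp, gc_snd, mFn_gc_fst, mFn_comp, mFn_gc_fst, ht, hd]
    erw [appTop_spec, appTop_spec, appTop_spec]
    refine (map_mul (Scheme.ΓSpecIso (CommRingCat.of (gRing M C'))).inv.hom _ _).symm.trans ?_
    refine congrArg _ ?_
    rw [RingHom.comp_apply, dlt_single, MonoidAlgebra.mapRingHom_single]
    simp [MonoidAlgebra.single_mul_single]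
  · rw [Category.assoc, Category.assoc, actN_snd, whiskerLeft_snd_assoc]
    refine Over.OverMorphism.ext ?_
    change (gc M C' c' ≫ snd _ _).left ≫ t.left ≫ (gc N A str ≫ snd _ _).left = d.left ≫ (gc N A str ≫ snd _ _).left
    rw [gc_snd, gc_snd, ht, hd, ← Spec.map_comp, ← Spec.map_comp, ← Spec.map_comp]
    congr 1
    refine CommRingCat.hom_ext (RingHom.ext fun a => ?_)
    change incl M C' (g (incl N A a)) = MonoidAlgebra.mapRingHom (Multiplicative M) g (dlt N A (incl N A a))
    rw [dlt_incl]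
    simp

section Lvl

variable {C : Type u} [CommRing C] (θ : C →+* C[X]) (c : Spec (CommRingCat.of C) ⟶ S)

/-- An infinitesimal neighbourhood. -/
abbrev lvlObj (j : ℕ) : Over S := Over.mk (Spec.map (CommRingCat.ofHom (Ideal.Quotient.mk (lvl θ j))) ≫ c)

/-- The transition maps. -/
def lvlι {i j : ℕ} (h : i ≤ j) : lvlObj θ c i ⟶ lvlObj θ c j :=
  Over.homMk (Spec.map (CommRingCat.ofHom (Ideal.Quotient.factor (lvl_antitone θ h)))) (by
    change Spec.map _ ≫ Spec.map _ ≫ c = Spec.map _ ≫ c
    rw [← Category.assoc, ← Spec.map_comp, ← CommRingCat.ofHom_comp, Ideal.Quotient.factor_comp_mk])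

theorem lvlι_left {i j : ℕ} (h : i ≤ j) :
    (lvlι θ c h).left = Spec.map (CommRingCat.ofHom (Ideal.Quotient.factor (lvl_antitone θ h))) := rfl

theorem lvlι_trans {i j k : ℕ} (h : i ≤ j) (h' : j ≤ k) : lvlι θ c h ≫ lvlι θ c h' = lvlι θ c (h.trans h') := by
  refine Over.OverMorphism.ext ?_
  rw [Over.comp_left, lvlι_left, lvlι_left, lvlι_left, ← Spec.map_comp, ← CommRingCat.ofHom_comp,
    Ideal.Quotient.factor_comp]

theorem lvlι_self (i : ℕ) : lvlι θ c (le_refl i) = 𝟙 _ := by
  refine Over.OverMorphism.ext ?_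
  rw [lvlι_left]
  change _ = 𝟙 (Spec (CommRingCat.of (C ⧸ lvl θ i)))
  rw [← Spec.map_id]
  congr 1
  exact CommRingCat.hom_ext (Ideal.Quotient.ringHom_ext (Ideal.Quotient.factor_comp_mk (le_refl (lvl θ i))))

theorem lvlι_quotι {i j : ℕ} (h : i ≤ j) : lvlι θ c h ≫ quotι (lvl θ j) = quotι (c := c) (lvl θ i) := by
  refine Over.OverMorphism.ext ?_
  change Spec.map _ ≫ Spec.map _ = Spec.map _
  rw [← Spec.map_comp, ← CommRingCat.ofHom_comp, Ideal.Quotient.factor_comp_mk]

theorem surjective_lvlι (j : ℕ) : Function.Surjective (lvlι θ c (Nat.le_add_left 1 j)).left := by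
  intro p
  let p' : PrimeSpectrum (C ⧸ lvl θ (j + 1)) := p
  have h : p' ∈ Set.range (PrimeSpectrum.comap (Ideal.Quotient.factor (lvl_antitone θ (Nat.le_add_left 1 j)))) := by
    rw [range_comap_of_surjective _ _ (Ideal.Quotient.factor_surjective _), PrimeSpectrum.mem_zeroLocus]
    intro x hx
    obtain ⟨x, rfl⟩ := Ideal.Quotient.mk_surjective x
    refine p'.isPrime.mem_of_pow_mem (j + 1) ?_
    rw [← map_pow, Ideal.Quotient.eq_zero_iff_mem.2 (lvl_one_pow_le θ _ (Ideal.pow_mem_pow
      (Ideal.Quotient.eq_zero_iff_mem.1 hx) _))]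
    exact zero_mem _
  exact h

/-- Smooth morphisms lift along square zero surjections of rings. -/
theorem exists_lift_surj {U X : Scheme.{u}} (f : U ⟶ X) [Smooth f] {D D₀ : Type u} [CommRing D] [CommRing D₀]
    (π : D →+* D₀) (hπ : Function.Surjective π) (hk : RingHom.ker π ^ 2 = ⊥)
    (a₀ : Spec (CommRingCat.of D₀) ⟶ U) (b : Spec (CommRingCat.of D) ⟶ X)
    (w : Spec.map (CommRingCat.ofHom π) ≫ b = a₀ ≫ f) :
    ∃ l, Spec.map (CommRingCat.ofHom π) ≫ l = a₀ ∧ l ≫ f = b := by
  let e := RingHom.quotientKerEquivOfSurjective hπ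
  have he : CommRingCat.ofHom (Ideal.Quotient.mk (RingHom.ker π)) ≫ CommRingCat.ofHom (e : _ →+* D₀) =
      CommRingCat.ofHom π := CommRingCat.hom_ext (RingHom.ext fun z => rfl)
  have he2 : CommRingCat.ofHom (e : _ →+* D₀) ≫ CommRingCat.ofHom (e.symm : D₀ →+* _) = 𝟙 _ :=
    CommRingCat.hom_ext (RingHom.ext fun z => e.symm_apply_apply z)
  obtain ⟨l, hl, hlf⟩ := InfLift.SmoothLift.exists_lift (f := f) (I := RingHom.ker π)
    (a₀ := Spec.map (CommRingCat.ofHom (e.symm : D₀ →+* _)) ≫ a₀) (b := b) (formallySmooth_charts f) hk (by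
      rw [Category.assoc, ← w, ← he, Spec.map_comp, Category.assoc, ← Category.assoc (Spec.map _) (Spec.map _),
        ← Spec.map_comp, he2, Spec.map_id, Category.id_comp])
  refine ⟨l, ?_, hlf⟩
  rw [← he, Spec.map_comp, Category.assoc, hl, ← Category.assoc, ← Spec.map_comp, ← CommRingCat.ofHom_comp,
    RingEquiv.comp_symm, CommRingCat.ofHom_id, Spec.map_id, Category.id_comp]

variable {U X : Over S} (f : U ⟶ X) [Smooth f.left]

/-- Lifts to all infinitesimal neighbourhoods. -/
theorem exists_lvl_lift (x : Over.mk c ⟶ X) (v₁ : lvlObj θ c 1 ⟶ U) (h : v₁ ≫ f = quotι (lvl θ 1) ≫ x) (j : ℕ) :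
    ∃ v : lvlObj θ c (j + 1) ⟶ U, v ≫ f = quotι (lvl θ (j + 1)) ≫ x ∧ lvlι θ c (Nat.le_add_left 1 j) ≫ v = v₁ := by
  induction j with
  | zero =>
    refine ⟨v₁, h, ?_⟩
    rw [lvlι_self θ c 1, Category.id_comp]
  | succ j ih =>
    obtain ⟨v, hv, hv1⟩ := ih
    have hle : lvl θ (j + 1 + 1) ≤ lvl θ (j + 1) := lvl_antitone θ (Nat.le_succ _)
    obtain ⟨l, hl, hlf⟩ := exists_lift_surj f.left (Ideal.Quotient.factor hle) (Ideal.Quotient.factor_surjective hle) (by
        rw [Ideal.Quotient.factor_ker, ← Ideal.map_pow, ← le_bot_iff, ← Ideal.map_quotient_self (lvl θ (j + 1 + 1))]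
        refine Ideal.map_mono ?_
        rw [pow_two]
        exact (lvl_mul_le θ _ _).trans (lvl_antitone θ (by omega)))
      v.left (quotι (lvl θ (j + 1 + 1)) ≫ x).left (by
        rw [← Over.comp_left, hv]
        change Spec.map _ ≫ Spec.map _ ≫ x.left = Spec.map _ ≫ x.left
        rw [← Category.assoc, ← Spec.map_comp, ← CommRingCat.ofHom_comp, Ideal.Quotient.factor_comp_mk])
    refine ⟨Over.homMk l ?_, Over.OverMorphism.ext hlf, ?_⟩
    · rw [← Over.w f, ← Category.assoc, hlf]
      exact Over.w (quotι (lvl θ (j + 1 + 1)) ≫ x)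
    · rw [← lvlι_trans θ c (Nat.le_add_left 1 j) (Nat.le_succ (j + 1)), Category.assoc]
      refine (congrArg (lvlι θ c (Nat.le_add_left 1 j) ≫ ·) ?_).trans hv1
      refine Over.OverMorphism.ext ?_
      rw [Over.comp_left, lvlι_left]
      exact hl

end Lvl

end Groth.Agent.MagnetLib.Avg
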