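import Groth.Prelude.Def_Magnet4
import Mathlib.LinearAlgebra.FreeModule.PID
import Mathlib.LinearAlgebra.Dual.Lemmas
import Mathlib.GroupTheory.Finiteness

/-!
# Weights: linear forms cutting out a face of a finitely generated monoid
-/

set_option autoImplicit false

namespace Groth.Agent.MagnetLib

variable {V : Type*} [AddCommGroup V]

theorem exists_apply_pos [AddGroup.FG V] (v : V) (hv : ∀ n : ℤ, n • v = 0 → n = 0) : ∃ φ : V →+ ℤ, 0 < φ v := by
  have : Module.Finite ℤ V := Module.Finite.iff_addGroup_fg.2 inferInstance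
  have : Module.Free ℤ (V ⧸ Submodule.torsion ℤ V) := Module.free_of_finite_type_torsion_free'
  have hne : (Submodule.torsion ℤ V).mkQ v ≠ 0 := fun h => by
    obtain ⟨n, hn⟩ := (Submodule.mem_torsion_iff v).1 ((Submodule.Quotient.mk_eq_zero _).1 h)
    exact nonZeroDivisors.coe_ne_zero n (hv n hn)
  obtain ⟨φ, hφ⟩ : ∃ φ : Module.Dual ℤ (V ⧸ Submodule.torsion ℤ V), φ ((Submodule.torsion ℤ V).mkQ v) ≠ 0 := by
    by_contra h
    push Not at h
    exact hne ((Module.forall_dual_apply_eq_zero_iff ℤ _).1 h)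
  let ψ := (φ.comp (Submodule.torsion ℤ V).mkQ).toAddMonoidHom
  rcases lt_or_gt_of_ne hφ with h | h
  · exact ⟨-ψ, by simp only [AddMonoidHom.neg_apply]; exact neg_pos.2 h⟩
  · exact ⟨ψ, h⟩

/-- Gordan's alternative. -/
theorem exists_pos_of_no_relation [AddGroup.FG V] {κ : Type*} [DecidableEq κ] (s : Finset κ) :
    ∀ (v : κ → V), (∀ c : κ → ℕ, ∑ x ∈ s, c x • v x = 0 → ∀ x ∈ s, c x = 0) →
      ∃ f : V →+ ℤ, ∀ x ∈ s, 0 < f (v x) := by
  induction s using Finset.induction_on with
  | empty => exact fun v _ => ⟨0, by simp⟩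
  | insert r s hr ih =>
    intro v hv
    have hsplit : ∀ (a : ℕ) (c : κ → ℕ), a • v r + ∑ x ∈ s, c x • v x = 0 → a = 0 ∧ ∀ x ∈ s, c x = 0 := by
      intro a c h
      have := hv (fun y => if y = r then a else c y) (by
        rw [Finset.sum_insert hr, if_pos rfl, ← h]
        refine congrArg _ (Finset.sum_congr rfl fun y hy => ?_)
        rw [if_neg (ne_of_mem_of_not_mem hy hr)])
      refine ⟨by simpa using this r (Finset.mem_insert_self r s), fun x hx => ?_⟩
      have h' := this x (Finset.mem_insert_of_mem hx)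
      rwa [if_neg (ne_of_mem_of_not_mem hx hr)] at h'
    have hvr : ∀ n : ℤ, n • v r = 0 → n = 0 := fun n hn => by
      have := (hsplit n.natAbs (fun _ => 0) (by
        rcases Int.natAbs_eq n with h | h <;> rw [h] at hn <;> simpa using hn)).1
      omega
    obtain ⟨f, hf⟩ := ih v fun c hc x hx => (hsplit 0 c (by simpa using hc)).2 x hx
    by_cases ha : 0 < f (v r)
    · exact ⟨f, fun x hx => (Finset.mem_insert.mp hx).elim (fun e => e ▸ ha) (hf x)⟩
    obtain ⟨φ, hφ⟩ := exists_apply_pos (v r) hvr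
    let w : κ → V := fun x => f (v x) • v r - f (v r) • v x
    obtain ⟨g, hg⟩ := ih w fun c hc x hx => by
      let A : ℕ := (∑ y ∈ s, (c y : ℤ) * f (v y)).toNat
      let C : κ → ℕ := fun y => c y * (-f (v r)).toNat
      have hA : (A : ℤ) = ∑ y ∈ s, (c y : ℤ) * f (v y) :=
        Int.toNat_of_nonneg (Finset.sum_nonneg fun y hy => mul_nonneg (Int.natCast_nonneg _) (hf y hy).le)
      have hC : ∀ y, (C y : ℤ) = (c y : ℤ) * -f (v r) := fun y => by
        rw [Nat.cast_mul, Int.toNat_of_nonneg (by omega)]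
      have h0 : A • v r + ∑ y ∈ s, C y • v y = 0 := by
        rw [← hc, ← natCast_zsmul, hA, Finset.sum_smul, ← Finset.sum_add_distrib]
        refine Finset.sum_congr rfl fun y _ => ?_
        rw [← natCast_zsmul, hC, ← natCast_zsmul, smul_sub, ← mul_smul, ← mul_smul, mul_neg, neg_smul]
        abel
      have hA0 : (∑ y ∈ s, (c y : ℤ) * f (v y)) = 0 := by rw [← hA, (hsplit A C h0).1]; rfl
      have := (Finset.sum_eq_zero_iff_of_nonneg
        fun y hy => mul_nonneg (Int.natCast_nonneg _) (hf y hy).le).1 hA0 x hx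
      simpa [(hf x hx).ne'] using this
    let h := g (v r) • f - f (v r) • g
    have hh : ∀ y, h y = g (v r) * f y - f (v r) * g y := fun y => rfl
    let K : ℤ := ∑ x ∈ s, |φ (v x)| + 1
    refine ⟨K • h + φ, fun x hx => ?_⟩
    change 0 < K * h (v x) + φ (v x)
    rw [hh]
    rcases Finset.mem_insert.mp hx with rfl | hx
    · rw [show g (v x) * f (v x) - f (v x) * g (v x) = 0 by ring, mul_zero, zero_add]; exact hφ
    · have h1 := hg x hx
      rw [map_sub, map_zsmul, map_zsmul, smul_eq_mul, smul_eq_mul] at h1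
      have h2 : |φ (v x)| ≤ ∑ y ∈ s, |φ (v y)| := Finset.single_le_sum (f := fun y => |φ (v y)|) (fun _ _ => abs_nonneg _) hx
      have h3 : 1 ≤ g (v r) * f (v x) - f (v r) * g (v x) := by linarith [mul_comm (g (v r)) (f (v x))]
      have h4 : K * 1 ≤ K * (g (v r) * f (v x) - f (v r) * g (v x)) :=
        mul_le_mul_of_nonneg_left h3 (by positivity)
      have h5 := neg_abs_le (φ (v x))
      linarith

variable {M : Type} [AddCommGroup M] [AddGroup.FG M]

/-- A linear form cutting out a face. -/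
theorem exists_faceWeightHom {N F : AddSubmonoid M} (hN : N.FG) (hF : Magnet.IsFace N F) :
    ∃ φ : M →+ ℤ, ∀ x ∈ N, 0 ≤ φ x ∧ (φ x = 0 ↔ x ∈ F) := by
  classical
  obtain ⟨G, hG⟩ := hN
  let H := AddSubgroup.closure (F : Set M)
  have hH : ∀ x ∈ H, ∃ f₁ ∈ F, ∃ f₂ ∈ F, x + f₁ = f₂ := by
    intro x hx
    induction hx using AddSubgroup.closure_induction with
    | mem y hy => exact ⟨0, zero_mem F, y, hy, add_zero y⟩
    | zero => exact ⟨0, zero_mem F, 0, zero_mem F, add_zero 0⟩
    | add y z _ _ hy hz =>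
      obtain ⟨a, ha, b, hb, e⟩ := hy
      obtain ⟨a', ha', b', hb', e'⟩ := hz
      exact ⟨a + a', add_mem ha ha', b + b', add_mem hb hb', by rw [← e, ← e']; abel⟩
    | neg y _ hy =>
      obtain ⟨a, ha, b, hb, e⟩ := hy
      exact ⟨b, hb, a, ha, by rw [← e]; abel⟩
  let π := QuotientAddGroup.mk' H
  have : AddGroup.FG (M ⧸ H) := AddGroup.fg_of_surjective (QuotientAddGroup.mk'_surjective H)
  have hsum : ∀ (t : Finset M) (u : M → M), (∀ x ∈ t, u x ∈ N) → (∑ x ∈ t, u x) ∈ F → ∀ x ∈ t, u x ∈ F := by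
    intro t
    induction t using Finset.induction_on with
    | empty => simp
    | insert r t hr ih =>
      intro u hu h x hx
      rw [Finset.sum_insert hr] at h
      obtain ⟨h₁, h₂⟩ := hF.mem_of_add_mem _ (hu r (Finset.mem_insert_self r t)) _
        (sum_mem fun y hy => hu y (Finset.mem_insert_of_mem hy)) h
      rcases Finset.mem_insert.mp hx with rfl | hx
      exacts [h₁, ih u (fun y hy => hu y (Finset.mem_insert_of_mem hy)) h₂ x hx]
  have hGN : ∀ x ∈ G, x ∈ N := fun x hx => hG ▸ AddSubmonoid.subset_closure hx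
  obtain ⟨f, hf⟩ := exists_pos_of_no_relation (G.filter (· ∉ F)) (fun x => π x) fun c hc x hx => by
    have hmem : ∀ y ∈ G.filter (· ∉ F), c y • y ∈ N := fun y hy =>
      nsmul_mem (hGN y (Finset.mem_filter.1 hy).1) _
    have h0 : (∑ y ∈ G.filter (· ∉ F), c y • y) ∈ H := by
      rw [← QuotientAddGroup.eq_zero_iff]
      exact (map_sum π _ _).trans ((Finset.sum_congr rfl fun y _ => map_nsmul π _ _).trans hc)
    obtain ⟨a, ha, b, hb, e⟩ := hH _ h0
    have h1 := (hF.mem_of_add_mem _ (sum_mem hmem) _ (hF.le ha) (e ▸ hb)).1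
    by_contra hne
    obtain ⟨k, hk⟩ := Nat.exists_eq_succ_of_ne_zero hne
    have h2 := hsum _ (fun y => c y • y) hmem h1 x hx
    simp only [hk, succ_nsmul] at h2
    exact (Finset.mem_filter.1 hx).2
      (hF.mem_of_add_mem _ (nsmul_mem (hGN x (Finset.mem_filter.1 hx).1) k) _ (hGN x (Finset.mem_filter.1 hx).1) h2).2
  let φ : M →+ ℤ := f.comp π
  have hφF : ∀ x ∈ F, φ x = 0 := fun x hx => by
    change f (π x) = 0
    rw [show π x = 0 from (QuotientAddGroup.eq_zero_iff x).2 (AddSubgroup.subset_closure hx), map_zero]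
  have key : ∀ x ∈ N, 0 ≤ φ x ∧ (φ x = 0 → x ∈ F) := by
    intro x hx
    rw [← hG] at hx
    induction hx using AddSubmonoid.closure_induction with
    | mem y hy =>
      by_cases h : y ∈ F
      · exact ⟨(hφF y h).ge, fun _ => h⟩
      · have := hf y (Finset.mem_filter.2 ⟨hy, h⟩)
        exact ⟨this.le, fun h0 => absurd h0 this.ne'⟩
    | zero => exact ⟨(map_zero φ).ge, fun _ => zero_mem F⟩
    | add y z _ _ hy hz =>
      refine ⟨by rw [map_add]; exact add_nonneg hy.1 hz.1, fun h => ?_⟩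
      rw [map_add] at h
      exact add_mem (hy.2 (by linarith [hy.1, hz.1])) (hz.2 (by linarith [hy.1, hz.1]))
  exact ⟨φ, fun x hx => ⟨(key x hx).1, (key x hx).2, hφF x⟩⟩

/-- A weight cutting out a face. -/
theorem exists_faceWeight {N F : AddSubmonoid M} (hN : N.FG) (hF : Magnet.IsFace N F) :
    ∃ e : N →+ ℕ, ∀ n : N, e n = 0 ↔ (n : M) ∈ F := by
  obtain ⟨φ, hφ⟩ := exists_faceWeightHom hN hF
  refine ⟨{ toFun := fun n => (φ (n : M)).toNat, map_zero' := by simp, map_add' := fun a b => ?_ }, fun n => ?_⟩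
  · simp only [AddSubmonoid.coe_add, map_add]
    exact Int.toNat_add (hφ a a.2).1 (hφ b b.2).1
  · change (φ (n : M)).toNat = 0 ↔ _
    rw [Int.toNat_eq_zero, ← (hφ n n.2).2]
    exact ⟨fun h => le_antisymm h (hφ n n.2).1, fun h => h.le⟩

end Groth.Agent.MagnetLib
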