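import Groth.Agent.MagnetLib.Points
import Groth.Agent.MagnetLib.Weight

/-!
# The strong deformation retraction of an attractor to a face
-/

set_option autoImplicit false
set_option backward.isDefEq.respectTransparency false

universe u

noncomputable section

open CategoryTheory CategoryTheory.Limits MonoidalCategory CartesianMonoidalCategory MonObj AlgebraicGeometry Opposite

namespace Groth.Agent.MagnetLib

open Magnet Magnet.MonAct

variable {S : Scheme.{u}} {M : Type} [AddCommMonoid M] {N F : AddSubmonoid M} (hF : IsFace N F) {W : Over S}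

open Classical in
theorem mFn_faceMap (x : W ⟶ AMonS S F) (n : N) :
    mFn (x ≫ AMonS.faceMap S hF) n = if h : (n : M) ∈ F then mFn x ⟨n, h⟩ else 0 := by
  have e : (x ≫ AMonS.faceMap S hF).left ≫ pullback.fst (AMon (ULift.{u} ℤ) N).hom (toZ S) =
      (x.left ≫ pullback.fst (AMon (ULift.{u} ℤ) F).hom (toZ S)) ≫
        Spec.map (CommRingCat.ofHom (faceAlgHom (ULift.{u} ℤ) hF).toRingHom) :=
    (Category.assoc _ _ _).trans ((congrArg (x.left ≫ ·) (pullback.lift_fst _ _ _)).trans (Category.assoc _ _ _).symm)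
  have h1 : mFn (x ≫ AMonS.faceMap S hF) n =
      mPt x (faceAlgHom (ULift.{u} ℤ) hF (MonoidAlgebra.single (Multiplicative.ofAdd n) 1)) := by
    rw [mFn, mPt, CommRingCat.hom_comp, RingHom.comp_apply, e]
    refine (congr($(Scheme.Hom.comp_appTop _ _) _)).trans ?_
    exact congrArg (fun a => (x.left ≫ pullback.fst _ _).appTop a)
      (congr($(Scheme.ΓSpecIso_inv_naturality (CommRingCat.ofHom (faceAlgHom (ULift.{u} ℤ) hF).toRingHom))
        (MonoidAlgebra.single (Multiplicative.ofAdd n) 1))).symm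
  rw [h1]
  by_cases h : (n : M) ∈ F
  · rw [dif_pos h, faceAlgHom_single_of_mem _ hF n h]
    rfl
  · rw [dif_neg h, faceAlgHom_single_of_not_mem _ hF n h, map_zero]

theorem exists_homotopy' {X : Over S} (a : MonAct (AMonS S M) X) (e : N →+ ℕ) (he : ∀ n : N, e n = 0 ↔ (n : M) ∈ F) :
    ∃ δ : ∀ T : Over S, (attr a N).obj (op T) → Γ(T.left, ⊤) → (attr a N).obj (op T),
      (∀ (T T' : Over S) (t : T' ⟶ T) (x : (attr a N).obj (op T)) (c : Γ(T.left, ⊤)),
          δ T' ((attr a N).map t.op x) (t.left.appTop c) = (attr a N).map t.op (δ T x c)) ∧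
      (∀ (T : Over S) (x : (attr a N).obj (op T)),
          δ T x 0 = (attrMap a hF.le).app (op T) ((attrFace a hF).app (op T) x)) ∧
      (∀ (T : Over S) (x : (attr a N).obj (op T)), δ T x 1 = x) ∧
      (∀ (T : Over S) (y : (attr a F).obj (op T)) (c : Γ(T.left, ⊤)),
          δ T ((attrMap a hF.le).app (op T) y) c = (attrMap a hF.le).app (op T) y) ∧
      (∀ (T : Over S) (x : (attr a N).obj (op T)) (c : Γ(T.left, ⊤)),
          (attrFace a hF).app (op T) (δ T x c) = (attrFace a hF).app (op T) x) := by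
  have hp : ∀ (T : Over S) (c : Γ(T.left, ⊤)), ∃ p : T ⟶ AMonS S N, ∀ n, mFn p n = c ^ e n := fun T c =>
    mFn_surjective (S := S) (W := T)
      { toFun := fun n => c ^ e n.toAdd
        map_one' := by simp
        map_mul' := fun a b => by simp [pow_add] }
  choose p hp using hp
  let u : ∀ (T : Over S) (c : Γ(T.left, ⊤)), AMonS S N ⊗ T ⟶ AMonS S N ⊗ T := fun T c =>
    CartesianMonoidalCategory.lift (fst _ _ * (snd _ _ ≫ p T c)) (snd _ _)
  have hu : ∀ (T : Over S) (c : Γ(T.left, ⊤)) (W : Over S) (n : W ⟶ AMonS S N) (t : W ⟶ T) {Y : Over S} (φ : _ ⟶ Y),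
      CartesianMonoidalCategory.lift n t ≫ u T c ≫ φ = CartesianMonoidalCategory.lift (n * (t ≫ p T c)) t ≫ φ :=
    fun T c W n t Y φ => by
      simp only [u, comp_lift_assoc, MonObj.comp_mul, lift_fst, lift_snd, lift_snd_assoc]
  have hmem : ∀ (T : Over S) (x : (attr a N).obj (op T)) (c : Γ(T.left, ⊤)),
      IsEquivariant ((subAct S M N).prod (trivial _ T)) a (u T c ≫ x.1) := fun T x c => by
    rw [mem_eqvHom_iff]
    intro W g n t
    rw [hu, hu, ← (mem_eqvHom_iff x.1).1 x.2 W g (n * (t ≫ p T c)) t]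
    congr 2
    have ha : ∀ m : W ⟶ AMonS S N, CartesianMonoidalCategory.lift g m ≫ (subAct S M N).act =
        (g ≫ AMonS.map S N.subtype) * m := fun m =>
      (lift_restrict_act (AMonS.map S N.subtype) (regular (AMonS S N)) g m).trans (lift_regular_act _ _)
    rw [ha, ha]
    exact _root_.mul_assoc _ _ _
  refine ⟨fun T x c => ⟨u T c ≫ x.1, hmem T x c⟩, fun T T' t x c => Subtype.ext ?_, fun T x => Subtype.ext ?_,
    fun T x => Subtype.ext ?_, fun T y c => Subtype.ext ?_, fun T x c => Subtype.ext ?_⟩ <;> refine Magnet.hom_ext_lift₂ fun W n s => ?_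
  · change CartesianMonoidalCategory.lift n s ≫ u T' _ ≫ (AMonS S N ◁ t) ≫ x.1 =
      CartesianMonoidalCategory.lift n s ≫ (AMonS S N ◁ t) ≫ u T c ≫ x.1
    rw [hu, lift_whiskerLeft_assoc, lift_whiskerLeft_assoc, hu]
    congr 3
    refine mFn_ext fun m => ?_
    rw [mFn_comp, mFn_comp, hp, hp, Over.comp_left, Scheme.Hom.comp_appTop, CommRingCat.comp_apply]
    simp only [map_pow]
  · change CartesianMonoidalCategory.lift n s ≫ u T 0 ≫ x.1 = CartesianMonoidalCategory.lift n s ≫
      (AMonS.map S (AddSubmonoid.inclusion hF.le) ▷ T) ≫ (AMonS.faceMap S hF ▷ T) ≫ x.1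
    rw [hu, lift_whiskerRight_assoc, lift_whiskerRight_assoc]
    congr 2
    refine mFn_ext fun m => ?_
    rw [mFn_mul, mFn_comp, hp, map_pow, map_zero, mFn_faceMap]
    by_cases h : (m : M) ∈ F
    · rw [dif_pos h, (he m).2 h, pow_zero, _root_.mul_one, mFn_map]
      rfl
    · rw [dif_neg h, zero_pow fun h0 => h ((he m).1 h0), mul_zero]
  · change CartesianMonoidalCategory.lift n s ≫ u T 1 ≫ x.1 = _
    rw [hu]
    congr 2
    refine mFn_ext fun m => ?_
    rw [mFn_mul, mFn_comp, hp, map_pow, map_one, one_pow, _root_.mul_one]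
  · change CartesianMonoidalCategory.lift n s ≫ u T c ≫ (AMonS.map S (AddSubmonoid.inclusion hF.le) ▷ T) ≫ y.1 =
      CartesianMonoidalCategory.lift n s ≫ (AMonS.map S (AddSubmonoid.inclusion hF.le) ▷ T) ≫ y.1
    rw [hu, lift_whiskerRight_assoc, lift_whiskerRight_assoc]
    congr 2
    refine mFn_ext fun m => ?_
    rw [mFn_map, mFn_map, mFn_mul, mFn_comp, hp, (he _).2 (show (AddSubmonoid.inclusion hF.le m : M) ∈ F from m.2), pow_zero, map_one,
      _root_.mul_one]
  · change CartesianMonoidalCategory.lift n s ≫ (AMonS.faceMap S hF ▷ T) ≫ u T c ≫ x.1 =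
      CartesianMonoidalCategory.lift n s ≫ (AMonS.faceMap S hF ▷ T) ≫ x.1
    rw [lift_whiskerRight_assoc, lift_whiskerRight_assoc, hu]
    congr 2
    refine mFn_ext fun m => ?_
    rw [mFn_mul, mFn_faceMap, mFn_comp, hp]
    by_cases h : (m : M) ∈ F
    · rw [(he m).2 h, pow_zero, map_one, _root_.mul_one]
    · rw [dif_neg h, zero_mul]

/-- The deformation retraction, without the compatibility with the projection. -/
theorem exists_homotopy {X : Over S} (a : MonAct (AMonS S M) X) (e : N →+ ℕ) (he : ∀ n : N, e n = 0 ↔ (n : M) ∈ F) :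
    ∃ δ : ∀ T : Over S, (attr a N).obj (op T) → Γ(T.left, ⊤) → (attr a N).obj (op T),
      (∀ (T T' : Over S) (t : T' ⟶ T) (x : (attr a N).obj (op T)) (c : Γ(T.left, ⊤)),
          δ T' ((attr a N).map t.op x) (t.left.appTop c) = (attr a N).map t.op (δ T x c)) ∧
      (∀ (T : Over S) (x : (attr a N).obj (op T)),
          δ T x 0 = (attrMap a hF.le).app (op T) ((attrFace a hF).app (op T) x)) ∧
      (∀ (T : Over S) (x : (attr a N).obj (op T)), δ T x 1 = x) ∧
      (∀ (T : Over S) (y : (attr a F).obj (op T)) (c : Γ(T.left, ⊤)),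
          δ T ((attrMap a hF.le).app (op T) y) c = (attrMap a hF.le).app (op T) y) := by
  obtain ⟨δ, h1, h2, h3, h4, -⟩ := exists_homotopy' hF a e he
  exact ⟨δ, h1, h2, h3, h4⟩

end Groth.Agent.MagnetLib
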