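import Groth.Agent.MagnetLib.SmoothLift
import Groth.Agent.MagnetLib.Homotopy
import Groth.Agent.MagnetLib.Weight
import Mathlib.AlgebraicGeometry.ResidueField
import Mathlib.FieldTheory.RatFunc.Basic

/-!
# Translates of a neighbourhood of a face cover the monoid scheme
-/

set_option autoImplicit false
set_option backward.isDefEq.respectTransparency false

universe u

noncomputable section

open CategoryTheory CategoryTheory.Limits MonoidalCategory CartesianMonoidalCategory MonObj AlgebraicGeometry Opposite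
open scoped Polynomial

namespace Groth.Agent.MagnetLib.Avg

open Magnet Magnet.MonAct

variable {S : Scheme.{u}} {M : Type} [AddCommGroup M] {N F : AddSubmonoid M}

/-- The action on `A(N) × T`. -/
abbrev actN (N : AddSubmonoid M) (T : Over S) : MonAct (AMonS S M) (AMonS S N ⊗ T) :=
  (subAct S M N).prod (MonAct.trivial (AMonS S M) T)

theorem actN_natural {T T' : Over S} (t : T' ⟶ T) : IsEquivariant (actN N T') (actN N T) (AMonS S N ◁ t) := by
  rw [isEquivariant_iff]
  intro W g x
  rw [← lift_comp_fst_snd x, lift_prod_act_assoc, lift_whiskerLeft, lift_whiskerLeft, lift_prod_act,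
    lift_trivial_act, lift_trivial_act]

theorem lift_actN {T W : Over S} (g : W ⟶ AMonS S M) (n : W ⟶ AMonS S N) (t : W ⟶ T) :
    CartesianMonoidalCategory.lift g (CartesianMonoidalCategory.lift n t) ≫ (actN N T).act =
      CartesianMonoidalCategory.lift ((g ≫ AMonS.map S N.subtype) * n) t := by
  rw [lift_prod_act, lift_trivial_act]
  exact congrArg (fun z => CartesianMonoidalCategory.lift z t)
    ((lift_restrict_act (AMonS.map S N.subtype) (regular (AMonS S N)) g n).trans (lift_regular_act _ _))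

section Point

variable {A : Type u} [CommRing A] {str : Spec (CommRingCat.of A) ⟶ S} {L : Type u} [CommRing L]
  {d : Spec (CommRingCat.of L) ⟶ S}

theorem point_mono (p : Over.mk d ⟶ gOver N A str) (n : N) :
    (Scheme.ΓSpecIso (CommRingCat.of L)).inv ((Spec.preimage p.left).hom (mono N A n)) =
      mFn (p ≫ gc N A str ≫ fst _ _) n := by
  rw [mFn_comp, mFn_gc_fst]
  conv_rhs => rw [← Spec.map_preimage p.left]
  exact congr($(Scheme.ΓSpecIso_inv_naturality (Spec.preimage p.left)) (mono N A n))

theorem point_incl (p : Over.mk d ⟶ gOver N A str) (g : A →+* L)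
    (hg : (p ≫ gc N A str ≫ snd _ _).left = Spec.map (CommRingCat.ofHom g)) (a : A) :
    (Spec.preimage p.left).hom (incl N A a) = g a := by
  have e : CommRingCat.ofHom (incl N A) ≫ Spec.preimage p.left = CommRingCat.ofHom g := by
    apply Spec.map_injective
    rw [Spec.map_comp, Spec.map_preimage, ← hg, Over.comp_left, gc_snd]
  exact congr(($e).hom a)

end Point

open Classical in
/-- The part of an element in the face. -/
def facePart (F : AddSubmonoid M) {A : Type u} [CommRing A] (s : gRing N A) : gRing N A :=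
  ∑ m ∈ s.coeff.support, if ((m.toAdd : N) : M) ∈ F then MonoidAlgebra.single m (s.coeff m) else 0

theorem exists_translate [AddGroup.FG M] (hF : IsFace N F) {T : Over S} (O : (AMonS S N ⊗ T).left.Opens)
    (hO : Set.range (AMonS.faceMap S hF ▷ T).left ⊆ (O : Set (AMonS S N ⊗ T).left))
    (z : (AMonS S N ⊗ T).left) :
    ∃ q : (AMonS S M ⊗ (AMonS S N ⊗ T)).left,
      (snd _ _ : AMonS S M ⊗ (AMonS S N ⊗ T) ⟶ _).left q ∈ O ∧ (actN N T).act.left q = z := by
  classical
  let B := AMonS S N ⊗ T
  let K : Type u := B.left.residueField z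
  let pt : Spec (CommRingCat.of K) ⟶ B.left := B.left.fromSpecResidueField z
  let str : Spec (CommRingCat.of K) ⟶ S := pt ≫ B.hom
  let P : Over.mk str ⟶ B := Over.homMk pt rfl
  let τ := P ≫ snd _ _
  let q₀ : gOver N K str ⟶ B := gc N K str ≫ (AMonS S N ◁ τ)
  let ν := P ≫ fst _ _
  let νF := ν ≫ AMonS.map S (AddSubmonoid.inclusion hF.le) ≫ AMonS.faceMap S hF
  let pF : Over.mk str ⟶ gOver N K str := CartesianMonoidalCategory.lift νF (𝟙 _) ≫ inv (gc N K str)
  let p : Over.mk str ⟶ gOver N K str := CartesianMonoidalCategory.lift ν (𝟙 _) ≫ inv (gc N K str)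
  let χF := (Spec.preimage pF.left).hom
  let χ := (Spec.preimage p.left).hom
  have hχi : ∀ a : K, χ (incl N K a) = a := fun a => point_incl p (RingHom.id K) (by
    simp only [p, Category.assoc, IsIso.inv_hom_id_assoc, lift_snd]
    simp) a
  have hχFi : ∀ a : K, χF (incl N K a) = a := fun a => point_incl pF (RingHom.id K) (by
    simp only [pF, Category.assoc, IsIso.inv_hom_id_assoc, lift_snd]
    simp) a
  have hinj : Function.Injective (Scheme.ΓSpecIso (CommRingCat.of K)).inv :=
    (Scheme.ΓSpecIso (CommRingCat.of K)).commRingCatIsoToRingEquiv.symm.injective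
  have hχm : ∀ n : N, χF (mono N K n) = if (n : M) ∈ F then χ (mono N K n) else 0 := by
    intro n
    apply hinj
    refine (point_mono pF n).trans ?_
    simp only [pF, Category.assoc, IsIso.inv_hom_id_assoc, lift_fst, νF]
    rw [← Category.assoc, mFn_faceMap]
    by_cases h : (n : M) ∈ F
    · rw [dif_pos h, if_pos h, mFn_map]
      refine Eq.trans ?_ (point_mono p n).symm
      simp only [p, Category.assoc, IsIso.inv_hom_id_assoc, lift_fst]
      rfl
    · rw [dif_neg h, if_neg h, map_zero]
  have hsingle : ∀ (m : Multiplicative N) (c : K),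
      MonoidAlgebra.single m c = incl N K c * mono N K m.toAdd := fun m c => by
    simp [MonoidAlgebra.single_mul_single]
  obtain ⟨w₀⟩ : Nonempty (Spec (CommRingCat.of K)) := inferInstance
  have hmemF : (pF ≫ q₀).left w₀ ∈ O := by
    refine hO ?_
    have e : pF ≫ q₀ = CartesianMonoidalCategory.lift (ν ≫ AMonS.map S (AddSubmonoid.inclusion hF.le)) τ ≫
        (AMonS.faceMap S hF ▷ T) := by
      simp only [pF, q₀, νF, Category.assoc, IsIso.inv_hom_id_assoc, lift_whiskerLeft, lift_whiskerRight,
        Category.id_comp]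
    exact ⟨(CartesianMonoidalCategory.lift (ν ≫ AMonS.map S (AddSubmonoid.inclusion hF.le)) τ).left w₀, by
      rw [e]; rfl⟩
  let xF : PrimeSpectrum (gRing N K) := pF.left w₀
  obtain ⟨_, ⟨_, ⟨s, rfl⟩, rfl⟩, hsF, hsub⟩ := PrimeSpectrum.isBasis_basic_opens.exists_subset_of_mem_open
    (show xF ∈ (q₀.left ⁻¹' (O : Set B.left) : Set (PrimeSpectrum (gRing N K))) from hmemF)
    (O.isOpen.preimage q₀.left.continuous)
  have hsne : χF s ≠ 0 := fun h0 => hsF (by
    have e : xF = Spec.map (Spec.preimage pF.left) w₀ := by rw [Spec.map_preimage]; rfl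
    rw [e]
    change χF s ∈ (w₀ : PrimeSpectrum K).asIdeal
    rw [h0]
    exact zero_mem _)
  -- a weight on the support
  let N₀ : AddSubmonoid M := AddSubmonoid.closure ((s.coeff.support.image fun m => ((m.toAdd : N) : M) : Finset M) : Set M)
  have hN₀N : N₀ ≤ N := AddSubmonoid.closure_le.2 fun x hx => by
    obtain ⟨m, -, rfl⟩ := Finset.mem_image.1 hx
    exact m.toAdd.2
  have hF₀ : IsFace N₀ (N₀ ⊓ F) :=
    ⟨inf_le_left, fun x hx y hy hxy =>
      ⟨⟨hx, (hF.mem_of_add_mem x (hN₀N hx) y (hN₀N hy) hxy.2).1⟩,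
        ⟨hy, (hF.mem_of_add_mem x (hN₀N hx) y (hN₀N hy) hxy.2).2⟩⟩⟩
  obtain ⟨φ, hφ⟩ := exists_faceWeightHom (AddSubmonoid.fg_iff _ |>.2 ⟨_, rfl, Finset.finite_toSet _⟩) hF₀
  have hmem₀ : ∀ m ∈ s.coeff.support, ((m.toAdd : N) : M) ∈ N₀ := fun m hm =>
    AddSubmonoid.subset_closure (Finset.mem_coe.2 (Finset.mem_image_of_mem _ hm))
  -- the translated point
  let L : Type u := RatFunc K
  let j : K →+* L := algebraMap K L
  let eL := Spec.map (CommRingCat.ofHom j)
  let d : Spec (CommRingCat.of L) ⟶ S := eL ≫ str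
  let jL : Over.mk d ⟶ Over.mk str := Over.homMk eL rfl
  let γL := (Scheme.ΓSpecIso (CommRingCat.of L)).commRingCatIsoToRingEquiv
  let X' : Lˣ := Units.mk0 RatFunc.X RatFunc.X_ne_zero
  obtain ⟨g, hg⟩ := mFn_surjective (S := S) (W := Over.mk d) (M := M)
    { toFun := fun m => γL.symm ((X' ^ φ m.toAdd : Lˣ) : L)
      map_one' := by simp
      map_mul' := fun a b => by simp [zpow_add] }
  let b : Over.mk d ⟶ gOver N K str :=
    CartesianMonoidalCategory.lift g (jL ≫ p ≫ gc N K str) ≫ (actN N (Over.mk str)).act ≫ inv (gc N K str)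
  let f := (Spec.preimage b.left).hom
  have hbgc : b ≫ gc N K str = CartesianMonoidalCategory.lift ((g ≫ AMonS.map S N.subtype) * (jL ≫ ν)) jL := by
    simp only [b, p, Category.assoc, IsIso.inv_hom_id, Category.comp_id, IsIso.inv_hom_id_assoc, comp_lift,
      lift_actN]
  have hfi : ∀ a : K, f (incl N K a) = j a := fun a => point_incl b j (by
    rw [← Category.assoc, hbgc, lift_snd]
    rfl) a
  have hfm : ∀ n : N, f (mono N K n) = ((X' ^ φ (n : M) : Lˣ) : L) * j (χ (mono N K n)) := by
    intro n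
    apply γL.symm.injective
    refine (point_mono b n).trans ?_
    rw [← Category.assoc, hbgc, lift_fst, mFn_mul, mFn_map, hg, map_mul]
    congr 1
    rw [mFn_comp]
    have := point_mono p n
    simp only [p, Category.assoc, IsIso.inv_hom_id_assoc, lift_fst] at this
    rw [← this]
    exact appTop_spec j _
  let Q : K[X] := ∑ m ∈ s.coeff.support,
    Polynomial.monomial (φ ((m.toAdd : N) : M)).toNat (χ (MonoidAlgebra.single m (s.coeff m)))
  have hfs : f s = algebraMap K[X] L Q := by
    conv_lhs => rw [← MonoidAlgebra.sum_coeff_single s]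
    simp only [Finsupp.sum, map_sum, Q]
    refine Finset.sum_congr rfl fun m hm => ?_
    have hn := (hφ _ (hmem₀ m hm)).1
    rw [hsingle, map_mul, map_mul, hfi, hfm, hχi, ← Polynomial.C_mul_X_pow_eq_monomial,
      map_mul (algebraMap K[X] L), map_pow, RatFunc.algebraMap_X, RatFunc.algebraMap_C]
    conv_lhs => rw [← Int.toNat_of_nonneg hn, zpow_natCast, Units.val_pow_eq_pow_val]
    change RatFunc.C _ * (RatFunc.X ^ _ * RatFunc.C _) = _
    simp only [map_mul]
    ring
  have hQ0 : Q.coeff 0 = χF s := by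
    conv_rhs => rw [← MonoidAlgebra.sum_coeff_single s]
    simp only [Finsupp.sum, map_sum, Q, Polynomial.finsetSum_coeff]
    refine Finset.sum_congr rfl fun m hm => ?_
    rw [Polynomial.coeff_monomial, hsingle m, map_mul, map_mul, hχFi, hχi, hχm]
    have hn := hφ _ (hmem₀ m hm)
    by_cases hmF : ((m.toAdd : N) : M) ∈ F
    · rw [if_pos hmF, if_pos (by rw [hn.2.2 ⟨hmem₀ m hm, hmF⟩]; rfl)]
    · rw [if_neg hmF, if_neg, mul_zero]
      intro h0
      exact hmF (hn.2.1 (le_antisymm (Int.toNat_eq_zero.1 h0) hn.1)).2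
  have hfne : f s ≠ 0 := by
    rw [hfs]
    refine (map_ne_zero_iff _ (RatFunc.algebraMap_injective K)).2 fun h0 => hsne ?_
    rw [← hQ0, h0, Polynomial.coeff_zero]
  obtain ⟨w⟩ : Nonempty (Spec (CommRingCat.of L)) := inferInstance
  have hbO : (b ≫ q₀).left w ∈ O := by
    refine hsub ?_
    change s ∉ (b.left w : PrimeSpectrum (gRing N K)).asIdeal
    have e : (b.left w : PrimeSpectrum (gRing N K)) = Spec.map (Spec.preimage b.left) w := by rw [Spec.map_preimage]; rfl
    rw [e]
    change f s ∉ (w : PrimeSpectrum L).asIdeal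
    intro h
    exact (w : PrimeSpectrum L).isPrime.ne_top (Ideal.eq_top_of_isUnit_mem _ h (isUnit_iff_ne_zero.2 hfne))
  let qq := CartesianMonoidalCategory.lift (g ≫ ngv) (b ≫ q₀)
  refine ⟨qq.left w, ?_, ?_⟩
  · rw [← Scheme.Hom.comp_apply, ← Over.comp_left, lift_snd]
    exact hbO
  · rw [← Scheme.Hom.comp_apply, ← Over.comp_left]
    have e : qq ≫ (actN N T).act = jL ≫ P := by
      simp only [qq, q₀, ← Category.assoc b, hbgc, lift_whiskerLeft, lift_actN]
      refine CartesianMonoidalCategory.hom_ext _ _ ?_ ?_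
      · rw [lift_fst, Category.assoc, ← _root_.mul_assoc, ← Category.assoc g ngv, ← MonObj.mul_comp, ngv_mul_cancel, MonObj.one_comp,
          _root_.one_mul]
        rfl
      · rw [lift_snd, Category.assoc]
    rw [e]
    change pt (eL w) = z
    exact Scheme.fromSpecResidueField_apply z _

/-- An open stable subset containing a face is everything. -/
theorem eq_top_of_stable [AddGroup.FG M] (hF : IsFace N F) {T : Over S} (O : (AMonS S N ⊗ T).left.Opens)
    (hO : Set.range (AMonS.faceMap S hF ▷ T).left ⊆ (O : Set (AMonS S N ⊗ T).left))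
    (hs : (snd (AMonS S M) (AMonS S N ⊗ T)).left ⁻¹ᵁ O ≤ (actN N T).act.left ⁻¹ᵁ O) : O = ⊤ := by
  refine eq_top_iff.2 fun z _ => ?_
  obtain ⟨q, hq, rfl⟩ := exists_translate hF O hO z
  exact hs hq

end Groth.Agent.MagnetLib.Avg
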