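import Groth.Prelude.Def_Magnet3
import Mathlib.CategoryTheory.Monoidal.Cartesian.Grp
import Mathlib.CategoryTheory.Limits.Shapes.Pullback.IsPullback.Basic
import Mathlib.CategoryTheory.Limits.Types.Pullbacks

/-!
# Formal properties of actions of monoid objects and functors of equivariant maps
-/

set_option autoImplicit false

universe v₁ u₁

noncomputable section

open CategoryTheory CategoryTheory.Limits MonoidalCategory CartesianMonoidalCategory MonObj Opposite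

namespace Groth.Agent.MagnetLib

open Magnet Magnet.MonAct

variable {C : Type u₁} [Category.{v₁} C] [CartesianMonoidalCategory C] {A B X Y Z : C} [MonObj A]

/-- Uniqueness of the unit point. -/
theorem one_def' {T : C} (M : C) [MonObj M] : (toUnit T ≫ η[M]) = (1 : T ⟶ M) := (Hom.one_def).symm

/-- An equivariant family is determined on the orbit of the unit. -/
theorem eqvHom_whiskerRight [MonObj B] (φ : A ⟶ B) [IsMonHom φ] (a : MonAct A X) (T : Cᵒᵖ)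
    (e : (eqvHom ((regular B).restrict φ) a).obj T) :
    (φ ▷ unop T) ≫ e.1 =
      lift (fst A (unop T)) (snd A (unop T) ≫ (eqvHom.evalAt ((regular B).restrict φ) a η[B]).app T e) ≫ a.act := by
  have h := (mem_eqvHom_iff e.1).1 e.2 (A ⊗ unop T) (fst _ _) 1 (snd _ _)
  rw [lift_restrict_act, lift_regular_act, _root_.mul_one] at h
  have e1 : φ ▷ unop T = lift (fst A (unop T) ≫ φ) (snd A (unop T)) := by
    apply CartesianMonoidalCategory.hom_ext <;> simp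
  rw [e1, h, eqvHom.evalAt_app]
  congr 2
  rw [← Category.assoc, comp_lift, Category.comp_id, ← Category.assoc, toUnit_unique (_ ≫ toUnit _) (toUnit _),
    one_def']

theorem ofPoint_evalAt (a : MonAct A X) :
    eqvHom.ofPoint a ≫ eqvHom.evalAt (regular A) a η[A] = 𝟙 _ := by
  ext T x
  change lift (toUnit (unop T) ≫ η[A]) (𝟙 _) ≫ (A ◁ x) ≫ a.act = x
  rw [lift_whiskerLeft_assoc, Category.id_comp, one_def']
  exact a.lift_one_act x

theorem evalAt_ofPoint (a : MonAct A X) :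
    eqvHom.evalAt (regular A) a η[A] ≫ eqvHom.ofPoint a = 𝟙 _ := by
  ext T e
  refine Subtype.ext ?_
  change (A ◁ (lift (toUnit (unop T) ≫ η[A]) (𝟙 _) ≫ e.1)) ≫ a.act = e.1
  have h := (mem_eqvHom_iff e.1).1 e.2 (A ⊗ unop T) (fst _ _) 1 (snd _ _)
  rw [lift_regular_act, _root_.mul_one, lift_fst_snd, Category.id_comp] at h
  refine Eq.trans ?_ h.symm
  congr 1
  apply CartesianMonoidalCategory.hom_ext
  · simp
  · simp only [whiskerLeft_snd, lift_snd]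
    rw [← Category.assoc, comp_lift, Category.comp_id, ← Category.assoc, toUnit_unique (_ ≫ toUnit _) (toUnit _),
      one_def']

theorem isPullback_postcomp {P X₁ X₂ X₃ : C} (ρ : MonAct A B) (a₁ : MonAct A X₁) (a₂ : MonAct A X₂)
    (a₃ : MonAct A X₃) (aP : MonAct A P) {f₁ : X₁ ⟶ X₂} {f₃ : X₃ ⟶ X₂} {p₁ : P ⟶ X₁} {p₃ : P ⟶ X₃}
    (hsq : IsPullback p₁ p₃ f₁ f₃) (hf₁ : IsEquivariant a₁ a₂ f₁) (hf₃ : IsEquivariant a₃ a₂ f₃)
    (hp₁ : IsEquivariant aP a₁ p₁) (hp₃ : IsEquivariant aP a₃ p₃) :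
    IsPullback (eqvHom.postcomp ρ p₁ hp₁) (eqvHom.postcomp ρ p₃ hp₃) (eqvHom.postcomp ρ f₁ hf₁)
      (eqvHom.postcomp ρ f₃ hf₃) := by
  refine IsPullback.of_forall_isPullback_app fun T => ?_
  rw [Types.isPullback_iff]
  refine ⟨?_, fun e e' h => ?_, fun e₁ e₃ h => ?_⟩
  · ext e
    refine Subtype.ext ?_
    change (e.1 ≫ p₁) ≫ f₁ = (e.1 ≫ p₃) ≫ f₃
    rw [Category.assoc, Category.assoc, hsq.w]
  · exact Subtype.ext (hsq.hom_ext (congrArg Subtype.val h.1) (congrArg Subtype.val h.2))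
  · refine ⟨⟨hsq.lift e₁.1 e₃.1 (congrArg Subtype.val h), ?_⟩, Subtype.ext (hsq.lift_fst _ _ _),
      Subtype.ext (hsq.lift_snd _ _ _)⟩
    have h₁ := (mem_eqvHom_iff e₁.1).1 e₁.2
    have h₃ := (mem_eqvHom_iff e₃.1).1 e₃.2
    rw [isEquivariant_iff] at hp₁ hp₃
    rw [mem_eqvHom_iff]
    intro T' g b t
    have l₁ : hsq.lift e₁.1 e₃.1 (congrArg Subtype.val h) ≫ p₁ = e₁.1 := hsq.lift_fst _ _ _
    have l₃ : hsq.lift e₁.1 e₃.1 (congrArg Subtype.val h) ≫ p₃ = e₃.1 := hsq.lift_snd _ _ _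
    refine hsq.hom_ext ?_ ?_
    · simp only [Category.assoc, hp₁]
      erw [l₁]
      exact h₁ T' g b t
    · simp only [Category.assoc, hp₃]
      erw [l₃]
      exact h₃ T' g b t

theorem existsUnique_monAct_of_isPullback {P X₁ X₂ X₃ : C} (a₁ : MonAct A X₁) (a₂ : MonAct A X₂)
    (a₃ : MonAct A X₃) {f₁ : X₁ ⟶ X₂} {f₃ : X₃ ⟶ X₂} {p₁ : P ⟶ X₁} {p₃ : P ⟶ X₃} (hsq : IsPullback p₁ p₃ f₁ f₃)
    (hf₁ : IsEquivariant a₁ a₂ f₁) (hf₃ : IsEquivariant a₃ a₂ f₃) :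
    ∃! aP : MonAct A P, IsEquivariant aP a₁ p₁ ∧ IsEquivariant aP a₃ p₃ := by
  have w : ((A ◁ p₁) ≫ a₁.act) ≫ f₁ = ((A ◁ p₃) ≫ a₃.act) ≫ f₃ := by
    unfold IsEquivariant at hf₁ hf₃
    rw [Category.assoc, Category.assoc, hf₁, hf₃, ← MonoidalCategory.whiskerLeft_comp_assoc,
      ← MonoidalCategory.whiskerLeft_comp_assoc, hsq.w]
  let act := hsq.lift _ _ w
  have e₁ : ∀ (T : C) (g : T ⟶ A) (x : T ⟶ P), (lift g x ≫ act) ≫ p₁ = lift g (x ≫ p₁) ≫ a₁.act := fun T g x => by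
    rw [Category.assoc, hsq.lift_fst, lift_whiskerLeft_assoc]
  have e₃ : ∀ (T : C) (g : T ⟶ A) (x : T ⟶ P), (lift g x ≫ act) ≫ p₃ = lift g (x ≫ p₃) ≫ a₃.act := fun T g x => by
    rw [Category.assoc, hsq.lift_snd, lift_whiskerLeft_assoc]
  refine ⟨MonAct.mk' act (fun T x => hsq.hom_ext ?_ ?_) (fun T g h x => hsq.hom_ext ?_ ?_),
    ⟨hsq.lift_fst _ _ _, hsq.lift_snd _ _ _⟩, fun aP h => MonAct.ext' (hsq.hom_ext ?_ ?_)⟩
  · rw [e₁, a₁.lift_one_act]
  · rw [e₃, a₃.lift_one_act]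
  · rw [e₁, e₁, a₁.lift_mul_act, e₁]
  · rw [e₃, e₃, a₃.lift_mul_act, e₃]
  · exact h.1.trans (hsq.lift_fst _ _ _).symm
  · exact h.2.trans (hsq.lift_snd _ _ _).symm

theorem postcomp_fst_snd_bijective (ρ : MonAct A B) (a : MonAct A Y) (b : MonAct A Z) (T : Cᵒᵖ) :
    Function.Bijective (fun φ : (eqvHom ρ (a.prod b)).obj T =>
      ((eqvHom.postcomp ρ (fst Y Z) (isEquivariant_prod_fst a b)).app T φ,
        (eqvHom.postcomp ρ (snd Y Z) (isEquivariant_prod_snd a b)).app T φ)) := by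
  refine ⟨fun e e' h => Subtype.ext ?_, fun p => ?_⟩
  · exact CartesianMonoidalCategory.hom_ext _ _ (congrArg Subtype.val (congrArg Prod.fst h))
      (congrArg Subtype.val (congrArg Prod.snd h))
  · refine ⟨⟨lift p.1.1 p.2.1, ?_⟩, Prod.ext (Subtype.ext (lift_fst _ _)) (Subtype.ext (lift_snd _ _))⟩
    have h₁ := (mem_eqvHom_iff p.1.1).1 p.1.2
    have h₂ := (mem_eqvHom_iff p.2.1).1 p.2.2
    rw [mem_eqvHom_iff]
    intro T' g b' t
    rw [comp_lift, comp_lift, h₁, h₂, lift_prod_act]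

theorem isEquivariant_one [MonObj X] (ρ : MonAct A B) (a : MonAct A X)
    (hη : IsEquivariant (trivial A (𝟙_ C)) a η[X]) (T : C) :
    IsEquivariant (ρ.prod (trivial A T)) a (1 : B ⊗ T ⟶ X) := by
  rw [isEquivariant_iff] at hη
  rw [mem_eqvHom_iff]
  intro T' g b t
  have h := hη T' g (toUnit T')
  rw [lift_trivial_act_assoc, one_def'] at h
  rw [MonObj.comp_one, MonObj.comp_one]
  exact h

theorem isEquivariant_mul [MonObj X] (ρ : MonAct A B) (a : MonAct A X)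
    (hμ : IsEquivariant (a.prod a) a μ[X]) {T : C} {φ ψ : B ⊗ T ⟶ X}
    (hφ : IsEquivariant (ρ.prod (trivial A T)) a φ) (hψ : IsEquivariant (ρ.prod (trivial A T)) a ψ) :
    IsEquivariant (ρ.prod (trivial A T)) a (φ * ψ) := by
  rw [isEquivariant_iff] at hμ
  rw [mem_eqvHom_iff] at hφ hψ ⊢
  intro T' g b t
  have h := hμ T' g (lift (lift b t ≫ φ) (lift b t ≫ ψ))
  rw [lift_prod_act_assoc, ← Hom.mul_def, ← Hom.mul_def] at h
  rw [MonObj.comp_mul, MonObj.comp_mul, hφ, hψ]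
  exact h

theorem isEquivariant_inv [GrpObj X] (ρ : MonAct A B) (a : MonAct A X)
    (hμ : IsEquivariant (a.prod a) a μ[X]) {T : C} {φ : B ⊗ T ⟶ X}
    (hφ : IsEquivariant (ρ.prod (trivial A T)) a φ) :
    IsEquivariant (ρ.prod (trivial A T)) a φ⁻¹ := by
  rw [isEquivariant_iff] at hμ
  rw [mem_eqvHom_iff] at hφ ⊢
  intro T' g b t
  let F : (T' ⟶ X) → (T' ⟶ X) := fun x => lift g x ≫ a.act
  have hF : ∀ x y, F (x * y) = F x * F y := fun x y => by
    have h := hμ T' g (lift x y)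
    rw [lift_prod_act_assoc, ← Hom.mul_def, ← Hom.mul_def] at h
    exact h.symm
  have h1 : ∀ x, F x⁻¹ = (F x)⁻¹ := map_inv (MonoidHom.mk' F hF)
  rw [GrpObj.comp_inv, GrpObj.comp_inv, hφ]
  exact (h1 _).symm

end Groth.Agent.MagnetLib
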