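import Groth.Prelude.Def_Magnet3
import Mathlib.AlgebraicGeometry.OpenImmersion
import Mathlib.AlgebraicGeometry.Morphisms.OpenImmersion
import Mathlib.AlgebraicGeometry.PullbackCarrier
import Mathlib.AlgebraicGeometry.ResidueField
import Mathlib.CategoryTheory.Limits.Shapes.Pullback.IsPullback.Basic

/-! Open stable subschemes and equivariant families. -/

universe u

open CategoryTheory CategoryTheory.Limits MonoidalCategory CartesianMonoidalCategory MonObj AlgebraicGeometry Opposite

namespace Groth.Agent.MagnetLib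

open Magnet Magnet.MonAct

variable {S : Scheme.{u}} {G B X U : Over S}

theorem preimage_range_whiskerLeft (j : U ⟶ X) (p : (G ⊗ X).left) (hp : (snd G X).left p ∈ Set.range j.left) :
    p ∈ Set.range (G ◁ j).left := by
  have h : IsPullback (snd G U).left (G ◁ j).left j.left (snd G X).left := by
    have e1 : (G ◁ j).left ≫ (snd G X).left = (snd G U).left ≫ j.left :=
      congrArg CommaMorphism.left (whiskerLeft_snd G j)
    have e2 : (G ◁ j).left ≫ (fst G X).left = (fst G U).left :=
      congrArg CommaMorphism.left (whiskerLeft_fst G j)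
    refine IsPullback.of_bot (h₂₁ := (snd G X).left) (v₂₁ := (fst G X).left) (v₂₂ := X.hom) (h₃₁ := G.hom)
      ?_ e1.symm (IsPullback.of_hasPullback G.hom X.hom).flip
    rw [e2, Over.w j]
    exact (IsPullback.of_hasPullback G.hom U.hom).flip
  obtain ⟨q, hq⟩ := hp
  obtain ⟨z, hz1, hz2⟩ := Scheme.exists_preimage_of_isPullback h q p hq
  exact ⟨z, hz2⟩

theorem preimage_le_of_equivariant [MonObj G] (a : MonAct G X) (b : MonAct G U) (ρ : MonAct G B) (j : U ⟶ X)
    [IsOpenImmersion j.left] (hj : IsEquivariant b a j) (φ : B ⟶ X) (hφ : IsEquivariant ρ a φ) :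
    (snd G B).left ⁻¹ᵁ (φ.left ⁻¹ᵁ j.left.opensRange) ≤ ρ.act.left ⁻¹ᵁ (φ.left ⁻¹ᵁ j.left.opensRange) := by
  intro p hp
  change φ.left ((snd G B).left p) ∈ Set.range j.left at hp
  change φ.left (ρ.act.left p) ∈ Set.range j.left
  unfold IsEquivariant at hj hφ
  have e1 : φ.left (ρ.act.left p) = a.act.left ((G ◁ φ).left p) := by
    rw [← Scheme.Hom.comp_apply, ← Scheme.Hom.comp_apply, ← Over.comp_left, ← Over.comp_left, hφ]
  have e2 : (snd G X).left ((G ◁ φ).left p) = φ.left ((snd G B).left p) := by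
    rw [← Scheme.Hom.comp_apply, ← Scheme.Hom.comp_apply, ← Over.comp_left, ← Over.comp_left, whiskerLeft_snd]
  obtain ⟨q, hq⟩ := preimage_range_whiskerLeft j ((G ◁ φ).left p) (by rw [e2]; exact hp)
  refine ⟨b.act.left q, ?_⟩
  rw [e1, ← hq, ← Scheme.Hom.comp_apply, ← Scheme.Hom.comp_apply, ← Over.comp_left, ← Over.comp_left, hj]

/-- If every open stable subset of `M × T` (`T` a point) containing the zero section is everything,
an equivariant family with value at zero in an open stable subscheme lies in it. -/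
theorem exists_lift_open {k : Type u} [Field k] {M G X U : Over (Spec (CommRingCat.of k))} [MonObj M] [GrpObj G]
    (i : G ⟶ M) [IsMonHom i] (o : 𝟙_ (Over (Spec (CommRingCat.of k))) ⟶ M)
    (hM : ∀ (T : Over (Spec (CommRingCat.of k))) (K : Type u) [Field K] (eT : T.left ≅ Spec (CommRingCat.of K))
      (W : (M ⊗ T).left.Opens),
      (CartesianMonoidalCategory.snd G (M ⊗ T)).left ⁻¹ᵁ W ≤
          ((((regular M).restrict i).prod (trivial G T)).act).left ⁻¹ᵁ W →
      (CartesianMonoidalCategory.lift (toUnit T ≫ o) (𝟙 T)).left ⁻¹ᵁ W = ⊤ → W = ⊤)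
    (a : MonAct G X) (b : MonAct G U) (j : U ⟶ X) [IsOpenImmersion j.left] (hj : IsEquivariant b a j)
    {Y : Over (Spec (CommRingCat.of k))} (φ : M ⊗ Y ⟶ X)
    (hφ : IsEquivariant (((regular M).restrict i).prod (trivial G Y)) a φ) (u : Y ⟶ U)
    (hu : u ≫ j = CartesianMonoidalCategory.lift (toUnit Y ≫ o) (𝟙 Y) ≫ φ) : ∃ l : M ⊗ Y ⟶ U, l ≫ j = φ := by
  have hrange : Set.range φ.left ⊆ Set.range j.left := by
    rintro _ ⟨z, rfl⟩
    let T : Over (Spec (CommRingCat.of k)) := Over.mk ((M ⊗ Y).left.fromSpecResidueField z ≫ (M ⊗ Y).hom)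
    let m : T ⟶ M ⊗ Y := Over.homMk ((M ⊗ Y).left.fromSpecResidueField z) rfl
    let t : T ⟶ Y := m ≫ snd M Y
    have ht : IsEquivariant (((regular M).restrict i).prod (trivial G T)) a ((M ◁ t) ≫ φ) := by
      rw [mem_eqvHom_iff] at hφ ⊢
      intro T' g x y
      rw [lift_whiskerLeft_assoc, lift_whiskerLeft_assoc, hφ T' g x (y ≫ t)]
    have hW := hM T ((M ⊗ Y).left.residueField z) (Iso.refl _) (((M ◁ t) ≫ φ).left ⁻¹ᵁ j.left.opensRange)
      (preimage_le_of_equivariant a b _ j hj _ ht) (by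
        ext p
        refine iff_of_true ?_ trivial
        change ((M ◁ t) ≫ φ).left ((CartesianMonoidalCategory.lift (toUnit T ≫ o) (𝟙 T)).left p) ∈ Set.range j.left
        refine ⟨(t ≫ u).left p, ?_⟩
        rw [← Scheme.Hom.comp_apply, ← Scheme.Hom.comp_apply, ← Over.comp_left, ← Over.comp_left, Category.assoc, hu]
        congr 1
        simp only [lift_whiskerLeft_assoc, Category.id_comp, comp_lift_assoc, comp_toUnit_assoc, Category.comp_id])
    have hm : CartesianMonoidalCategory.lift (m ≫ fst M Y) (𝟙 T) ≫ (M ◁ t) = m := by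
      rw [lift_whiskerLeft, Category.id_comp]
      exact CartesianMonoidalCategory.hom_ext _ _ (lift_fst _ _) (lift_snd _ _)
    obtain ⟨p, hp⟩ : z ∈ Set.range m.left := by
      change z ∈ Set.range ((M ⊗ Y).left.fromSpecResidueField z)
      simp
    have hp' := (SetLike.ext_iff.1 hW ((CartesianMonoidalCategory.lift (m ≫ fst M Y) (𝟙 T)).left p)).2 trivial
    change ((M ◁ t) ≫ φ).left _ ∈ Set.range j.left at hp'
    rw [← Scheme.Hom.comp_apply, ← Over.comp_left, reassoc_of% hm, Over.comp_left, Scheme.Hom.comp_apply, hp] at hp'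
    exact hp'
  refine ⟨Over.homMk (IsOpenImmersion.lift j.left φ.left hrange) ?_, Over.OverMorphism.ext (IsOpenImmersion.lift_fac _ _ _)⟩
  rw [← Over.w j, IsOpenImmersion.lift_fac_assoc, Over.w φ]

theorem isPullback_postcomp_evalAt_open {k : Type u} [Field k] {M G X U : Over (Spec (CommRingCat.of k))} [MonObj M]
    [GrpObj G] (i : G ⟶ M) [IsMonHom i] (o : 𝟙_ (Over (Spec (CommRingCat.of k))) ⟶ M)
    (hM : ∀ (T : Over (Spec (CommRingCat.of k))) (K : Type u) [Field K] (eT : T.left ≅ Spec (CommRingCat.of K))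
      (W : (M ⊗ T).left.Opens),
      (CartesianMonoidalCategory.snd G (M ⊗ T)).left ⁻¹ᵁ W ≤
          ((((regular M).restrict i).prod (trivial G T)).act).left ⁻¹ᵁ W →
      (CartesianMonoidalCategory.lift (toUnit T ≫ o) (𝟙 T)).left ⁻¹ᵁ W = ⊤ → W = ⊤)
    (a : MonAct G X) (b : MonAct G U) (j : U ⟶ X) [IsOpenImmersion j.left] (hj : IsEquivariant b a j) :
    IsPullback (eqvHom.postcomp ((regular M).restrict i) j hj)
      (eqvHom.evalAt ((regular M).restrict i) b o) (eqvHom.evalAt ((regular M).restrict i) a o) (yoneda.map j) := by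
  have : Mono j := (Over.forget _).mono_of_mono_map (inferInstanceAs (Mono j.left))
  refine IsPullback.of_forall_isPullback_app fun T => ?_
  rw [Types.isPullback_iff]
  refine ⟨?_, fun e e' h => Subtype.ext ((cancel_mono j).1 (congrArg Subtype.val h.1)), fun e z h => ?_⟩
  · ext e
    exact (Category.assoc _ _ _).symm
  · have hz : z ≫ j = CartesianMonoidalCategory.lift (toUnit (unop T) ≫ o) (𝟙 _) ≫ e.1 := h.symm
    obtain ⟨l, hl⟩ := exists_lift_open i o hM a b j hj e.1 e.2 z hz
    refine ⟨⟨l, ?_⟩, Subtype.ext hl, ?_⟩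
    · have he := e.2
      unfold IsEquivariant at he hj ⊢
      rw [← cancel_mono j, Category.assoc, hl, he, Category.assoc, hj, ← MonoidalCategory.whiskerLeft_comp_assoc, hl]
    · refine (cancel_mono j).1 ?_
      change (CartesianMonoidalCategory.lift (toUnit (unop T) ≫ o) (𝟙 _) ≫ l) ≫ j = z ≫ j
      rw [Category.assoc, hl, hz]

end Groth.Agent.MagnetLib
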