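import Groth.Agent.MagnetLib.FaceOpen
import Groth.Agent.MagnetLib.OpenSub
import Mathlib.Algebra.Polynomial.Div
import Mathlib.AlgebraicGeometry.Morphisms.Flat

/-!
# Equivariant families are determined by the infinitesimal neighbourhoods of a face
-/

set_option autoImplicit false
set_option backward.isDefEq.respectTransparency false

universe u

noncomputable section

open CategoryTheory CategoryTheory.Limits MonoidalCategory CartesianMonoidalCategory MonObj AlgebraicGeometry Opposite
open scoped Polynomial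

namespace Groth.Agent.MagnetLib.Avg

section Ring

variable {C : Type u} [CommRing C] (θ : C →+* C[X])

/-- Elements of degree at least `j`. -/
def lvl (j : ℕ) : Ideal C := (Ideal.span {(Polynomial.X : C[X]) ^ j}).comap θ

theorem mem_lvl {j : ℕ} {x : C} : x ∈ lvl θ j ↔ ∀ i < j, (θ x).coeff i = 0 := by
  rw [lvl, Ideal.mem_comap, Ideal.mem_span_singleton, Polynomial.X_pow_dvd_iff]

theorem lvl_antitone {i j : ℕ} (h : i ≤ j) : lvl θ j ≤ lvl θ i := fun _ hx =>
  (mem_lvl θ).2 fun k hk => (mem_lvl θ).1 hx k (lt_of_lt_of_le hk h)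

theorem lvl_one_pow_le (j : ℕ) : lvl θ 1 ^ j ≤ lvl θ j := by
  refine (Ideal.le_comap_pow θ j).trans (Ideal.comap_mono (le_of_eq ?_))
  rw [Ideal.span_singleton_pow, pow_one]

variable (h1 : ∀ x, (θ x).eval 1 = x)

include h1 in
theorem eq_zero_of_mem_lvl {x : C} {j : ℕ} (hj : (θ x).natDegree < j) (hx : x ∈ lvl θ j) : x = 0 := by
  rw [← h1 x, show θ x = 0 from Polynomial.ext fun i => by
    rw [Polynomial.coeff_zero]
    rcases lt_or_ge i j with hi | hi
    · exact (mem_lvl θ).1 hx i hi
    · exact Polynomial.coeff_eq_zero_of_natDegree_lt (lt_of_lt_of_le hj hi), Polynomial.eval_zero]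

include h1 in
theorem eq_of_forall_quot {x y : C} (h : ∀ j, Ideal.Quotient.mk (lvl θ j) x = Ideal.Quotient.mk (lvl θ j) y) :
    x = y :=
  sub_eq_zero.1 (eq_zero_of_mem_lvl θ h1 (Nat.lt_succ_self _) (Ideal.Quotient.eq.1 (h _)))

variable (hσ : ∀ x, θ ((θ x).coeff 0) = Polynomial.C ((θ x).coeff 0))

include h1 hσ in
/-- Two maps agreeing on all infinitesimal neighbourhoods of the degree-zero part agree near it. -/
theorem exists_eq_near {X₀ : Scheme.{u}} (δ₁ δ₂ : Spec (CommRingCat.of C) ⟶ X₀)
    (h : ∀ n : ℕ, Spec.map (CommRingCat.ofHom (Ideal.Quotient.mk (lvl θ n))) ≫ δ₁ =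
      Spec.map (CommRingCat.ofHom (Ideal.Quotient.mk (lvl θ n))) ≫ δ₂)
    (q : PrimeSpectrum C) (hq : lvl θ 1 ≤ q.asIdeal) :
    ∃ s : C, s ∉ q.asIdeal ∧ Spec.map (CommRingCat.ofHom (algebraMap C (Localization.Away s))) ≫ δ₁ =
      Spec.map (CommRingCat.ofHom (algebraMap C (Localization.Away s))) ≫ δ₂ := by
  obtain ⟨q', hq'⟩ : ∃ q', PrimeSpectrum.comap (Ideal.Quotient.mk (lvl θ 1)) q' = q := by
    have hm : q ∈ Set.range (PrimeSpectrum.comap (Ideal.Quotient.mk (lvl θ 1))) := by
      rw [range_comap_of_surjective _ _ Ideal.Quotient.mk_surjective, Ideal.mk_ker]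
      exact (PrimeSpectrum.mem_zeroLocus _ _).2 hq
    exact hm
  have hpt : δ₁ q = δ₂ q := by
    rw [← hq']
    exact congrArg (fun k : _ ⟶ X₀ => k q') (h 1)
  obtain ⟨W, hW, hqW, -⟩ := exists_isAffineOpen_mem_and_subset (x := δ₁ q) (U := ⊤) trivial
  obtain ⟨_, ⟨_, ⟨s₀, rfl⟩, rfl⟩, hqs, hsub⟩ := PrimeSpectrum.isBasis_basic_opens.exists_subset_of_mem_open
    (show q ∈ ((δ₁ ⁻¹' (W : Set X₀)) ∩ δ₂ ⁻¹' (W : Set X₀) : Set (PrimeSpectrum C)) from
      ⟨hqW, show δ₂ q ∈ W from hpt ▸ hqW⟩) ((W.2.preimage δ₁.continuous).inter (W.2.preimage δ₂.continuous))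
  let b := (θ s₀).coeff 0
  have hsb : s₀ - b ∈ lvl θ 1 := (mem_lvl θ).2 fun i hi => by
    obtain rfl : i = 0 := by omega
    rw [map_sub, Polynomial.coeff_sub, hσ, Polynomial.coeff_C_zero, sub_self]
  let s := s₀ * b
  have hs₀ : s₀ ∉ q.asIdeal := hqs
  have hb : b ∉ q.asIdeal := fun hb => hs₀ (by
    rw [← sub_add_cancel s₀ b]
    exact q.asIdeal.add_mem (hq hsb) hb)
  refine ⟨s, fun hs => (q.isPrime.mem_or_mem hs).elim hs₀ hb, ?_⟩
  have hr : ∀ (z : Spec (CommRingCat.of (Localization.Away s))),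
      Spec.map (CommRingCat.ofHom (algebraMap C (Localization.Away s))) z ∈
        (PrimeSpectrum.basicOpen s₀ : Set (PrimeSpectrum C)) := fun z => by
    have hz : Spec.map (CommRingCat.ofHom (algebraMap C (Localization.Away s))) z ∈
        (PrimeSpectrum.basicOpen s : Set (PrimeSpectrum C)) := by
      rw [← PrimeSpectrum.localization_away_comap_range (Localization.Away s) s]
      exact ⟨z, rfl⟩
    exact PrimeSpectrum.basicOpen_mul_le_left _ _ hz
  obtain ⟨ρ₁, hρ₁⟩ := Extend.exists_spec_factor hW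
    (Spec.map (CommRingCat.ofHom (algebraMap C (Localization.Away s))) ≫ δ₁) fun z => (hsub (hr z)).1
  obtain ⟨ρ₂, hρ₂⟩ := Extend.exists_spec_factor hW
    (Spec.map (CommRingCat.ofHom (algebraMap C (Localization.Away s))) ≫ δ₂) fun z => (hsub (hr z)).2
  rw [← hρ₁, ← hρ₂]
  suffices e : ρ₁ = ρ₂ by rw [e]
  refine CommRingCat.hom_ext (RingHom.ext fun r => sub_eq_zero.1 ?_)
  obtain ⟨k, p, hp⟩ := IsLocalization.Away.surj s (ρ₁ r - ρ₂ r)
  have : IsOpenImmersion hW.fromSpec := IsAffineOpen.isOpenImmersion_fromSpec _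
  have hkey : ∀ n, algebraMap C (Localization.Away b) p ∈ (lvl θ n).map (algebraMap C (Localization.Away b)) := by
    intro n
    let Jn := (lvl θ n).map (algebraMap C (Localization.Away b))
    let g : C →+* Localization.Away b ⧸ Jn := (Ideal.Quotient.mk Jn).comp (algebraMap C _)
    have hker : lvl θ n ≤ RingHom.ker g := fun x hx => Ideal.Quotient.eq_zero_iff_mem.2 (Ideal.mem_map_of_mem _ hx)
    have hub : IsUnit (g b) := (IsLocalization.Away.algebraMap_isUnit (S := Localization.Away b) b).map (Ideal.Quotient.mk Jn)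
    have hnil : IsNilpotent (g (s₀ - b)) := ⟨n, by
      rw [← map_pow]
      exact hker (lvl_one_pow_le θ n (Ideal.pow_mem_pow hsb n))⟩
    have hu : IsUnit (g s) := by
      rw [map_mul]
      refine IsUnit.mul ?_ hub
      rw [show g s₀ = g b + g (s₀ - b) by rw [← map_add, add_sub_cancel]]
      exact IsNilpotent.isUnit_add_left_of_commute hnil hub (Commute.all _ _)
    let φ : Localization.Away s →+* Localization.Away b ⧸ Jn := IsLocalization.Away.lift s hu
    have hφ : φ.comp (algebraMap C _) = (Ideal.Quotient.lift _ g hker).comp (Ideal.Quotient.mk (lvl θ n)) :=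
      (IsLocalization.lift_comp _).trans (RingHom.ext fun x => (Ideal.Quotient.lift_mk _ g hker).symm)
    have hfac : Spec.map (CommRingCat.ofHom φ) ≫ Spec.map (CommRingCat.ofHom (algebraMap C (Localization.Away s))) =
        Spec.map (CommRingCat.ofHom (Ideal.Quotient.lift _ g hker)) ≫
          Spec.map (CommRingCat.ofHom (Ideal.Quotient.mk (lvl θ n))) := by
      rw [← Spec.map_comp, ← Spec.map_comp, ← CommRingCat.ofHom_comp, ← CommRingCat.ofHom_comp, hφ]
    have e : ρ₁ ≫ CommRingCat.ofHom φ = ρ₂ ≫ CommRingCat.ofHom φ := by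
      apply Spec.map_injective
      rw [Spec.map_comp, Spec.map_comp, ← cancel_mono hW.fromSpec]
      simp only [Category.assoc, hρ₁, hρ₂]
      rw [reassoc_of% hfac, reassoc_of% hfac]
      exact congrArg (_ ≫ ·) (h n)
    have e' : φ (ρ₁ r) = φ (ρ₂ r) := congr(($e).hom r)
    have h0 := congrArg φ hp
    rw [map_mul, map_sub, e', sub_self, zero_mul, IsLocalization.Away.lift_eq] at h0
    exact Ideal.Quotient.eq_zero_iff_mem.1 h0.symm
  let J := (θ p).natDegree + 1
  obtain ⟨⟨⟨y, hy⟩, ⟨_, l, rfl⟩⟩, hl⟩ := (IsLocalization.mem_map_algebraMap_iff (Submonoid.powers b) _).1 (hkey J)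
  rw [← map_mul] at hl
  obtain ⟨⟨_, l', rfl⟩, hl'⟩ := (IsLocalization.eq_iff_exists (Submonoid.powers b) _).1 hl
  have hmem : b ^ (l + l') * p ∈ lvl θ J := by
    have : b ^ l' * (p * b ^ l) ∈ lvl θ J := by rw [hl']; exact Ideal.mul_mem_left _ _ hy
    rwa [show b ^ (l + l') * p = b ^ l' * (p * b ^ l) by ring]
  have hzero : b ^ (l + l') * p = 0 := by
    refine eq_zero_of_mem_lvl θ h1 ?_ hmem
    rw [map_mul, map_pow, hσ, ← Polynomial.C_pow]
    exact Nat.lt_succ_of_le (Polynomial.natDegree_C_mul_le _ _)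
  have hp0 : algebraMap C (Localization.Away s) p = 0 :=
    (IsLocalization.map_eq_zero_iff (Submonoid.powers s) _ _).2 ⟨⟨_, l + l', rfl⟩, by
      change (s₀ * b) ^ (l + l') * p = 0
      rw [mul_pow, _root_.mul_assoc, hzero, mul_zero]⟩
  rw [hp0] at hp
  exact (IsUnit.mul_left_eq_zero ((IsLocalization.Away.algebraMap_isUnit s).pow k)).1 hp

end Ring

open Magnet Magnet.MonAct

variable {S : Scheme.{u}} {M : Type} [AddCommGroup M] {N F : AddSubmonoid M}

/-- The weight of a monomial. -/
def wt (φ : M →+ ℤ) (m : Multiplicative N) : ℕ := (φ ((m.toAdd : N) : M)).toNat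

section Theta

variable {A : Type u} [CommRing A] (φ : M →+ ℤ) (hφ : ∀ x ∈ N, 0 ≤ φ x ∧ (φ x = 0 ↔ x ∈ F))

/-- The grading by the weight. -/
def theta : gRing N A →+* (gRing N A)[X] :=
  (MonoidAlgebra.lift A ((gRing N A)[X]) (Multiplicative N)
    { toFun := fun m => Polynomial.monomial (wt φ m) (MonoidAlgebra.single m 1)
      map_one' := by
        simp only [wt, toAdd_one, AddSubmonoid.coe_zero, map_zero, Int.toNat_zero, Polynomial.monomial_zero_left]
        rw [← MonoidAlgebra.one_def, map_one]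
      map_mul' := fun a b => by
        rw [Polynomial.monomial_mul_monomial, MonoidAlgebra.single_mul_single, _root_.mul_one]
        congr 2
        simp only [wt, toAdd_mul, AddSubmonoid.coe_add, map_add]
        exact Int.toNat_add (hφ _ a.toAdd.2).1 (hφ _ b.toAdd.2).1 }).toRingHom

theorem theta_single (m : Multiplicative N) (c : A) :
    theta φ hφ (MonoidAlgebra.single m c) = Polynomial.monomial (wt φ m) (MonoidAlgebra.single m c) := by
  change MonoidAlgebra.lift A ((gRing N A)[X]) (Multiplicative N) _ (MonoidAlgebra.single m c) = _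
  rw [MonoidAlgebra.lift_single]
  simp [Polynomial.smul_monomial, MonoidAlgebra.smul_single]

theorem theta_coeff (x : gRing N A) (i : ℕ) :
    (theta φ hφ x).coeff i = MonoidAlgebra.ofCoeff (x.coeff.filter fun m => wt φ m = i) := by
  classical
  refine MonoidAlgebra.ext ?_
  rw [MonoidAlgebra.coeff_ofCoeff]
  induction x using MonoidAlgebra.induction_linear with
  | zero => simp [Finsupp.filter_zero]
  | add x y hx hy => simp [hx, hy, Finsupp.filter_add]
  | single m c =>
    rw [theta_single, Polynomial.coeff_monomial]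
    by_cases h : wt φ m = i
    · simp [h, Finsupp.filter_single_of_pos]
    · simp [h, Finsupp.filter_single_of_neg]

theorem mem_lvl_theta {j : ℕ} {x : gRing N A} :
    x ∈ lvl (theta φ hφ) j ↔ ∀ m, wt φ m < j → x.coeff m = 0 := by
  classical
  rw [mem_lvl]
  constructor
  · intro h m hm
    have := congrArg (fun z : gRing N A => z.coeff m) (h _ hm)
    simpa [theta_coeff] using this
  · intro h i hi
    refine MonoidAlgebra.ext (Finsupp.ext fun m => ?_)
    simp only [theta_coeff, MonoidAlgebra.coeff_ofCoeff, MonoidAlgebra.coeff_zero, Finsupp.coe_zero, Pi.zero_apply]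
    rw [Finsupp.filter_apply]
    split
    · next hm => exact h m (hm ▸ hi)
    · rfl

theorem theta_eval (x : gRing N A) : (theta φ hφ x).eval 1 = x := by
  induction x using MonoidAlgebra.induction_linear with
  | zero => simp
  | add x y hx hy => rw [map_add, Polynomial.eval_add, hx, hy]
  | single m c => simp [theta_single]

theorem theta_coeff_zero (x : gRing N A) :
    theta φ hφ ((theta φ hφ x).coeff 0) = Polynomial.C ((theta φ hφ x).coeff 0) := by
  induction x using MonoidAlgebra.induction_linear with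
  | zero => simp
  | add x y hx hy => rw [map_add, Polynomial.coeff_add, map_add, map_add, hx, hy]
  | single m c =>
    rw [theta_single, Polynomial.coeff_monomial]
    split
    · next h => rw [theta_single, h, Polynomial.monomial_zero_left]
    · simp

end Theta

section Flatness

instance flat_amons : Flat (AMonS S M).hom := by
  have : Flat (AMon (ULift.{u} ℤ) M).hom := by
    change Flat (Spec.map (CommRingCat.ofHom (algebraMap (ULift.{u} ℤ) (zAlg.{u} M))))
    rw [HasRingHomProperty.Spec_iff (P := @Flat)]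
    exact RingHom.flat_algebraMap_iff.2 inferInstance
  exact MorphismProperty.pullback_snd (P := @Flat) _ _ this

theorem flat_snd (B : Over S) : Flat (snd (AMonS S M) B).left :=
  MorphismProperty.pullback_snd (P := @Flat) _ _ flat_amons

variable {B : Over S}

/-- The shearing map of an action. -/
theorem flat_act (w : MonAct (AMonS S M) B) : Flat w.act.left := by
  let e : AMonS S M ⊗ B ≅ AMonS S M ⊗ B :=
    { hom := CartesianMonoidalCategory.lift (fst _ _) w.act
      inv := CartesianMonoidalCategory.lift (fst _ _) (CartesianMonoidalCategory.lift (fst _ _ ≫ ngv) (snd _ _) ≫ w.act)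
      hom_inv_id := by
        refine Magnet.hom_ext_lift₂ fun T g x => ?_
        simp only [comp_lift, comp_lift_assoc, lift_fst, lift_snd, lift_fst_assoc, Category.comp_id]
        rw [← w.lift_mul_act, ngv_mul_cancel, w.lift_one_act]
      inv_hom_id := by
        refine Magnet.hom_ext_lift₂ fun T g x => ?_
        simp only [comp_lift, comp_lift_assoc, lift_fst, lift_snd, lift_fst_assoc, Category.comp_id]
        rw [← w.lift_mul_act, show g * g ≫ ngv = 1 from mFn_ext fun m => by
          rw [mFn_mul, mFn_ngv, ← mFn_add, add_neg_cancel, mFn_zero, Hom.one_def, mFn_one], w.lift_one_act] }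
  have he : e.hom ≫ snd _ _ = w.act := lift_snd _ _
  rw [← he, Over.comp_left]
  have := flat_snd (M := M) B
  have := e.isIso_hom
  have : IsIso e.hom.left := (Over.forget S).map_isIso e.hom
  infer_instance

theorem isOpenImmersion_whiskerLeft {O : Over S} (c : O ⟶ B) [IsOpenImmersion c.left] :
    IsOpenImmersion (AMonS S M ◁ c).left := by
  have h : IsPullback (snd (AMonS S M) O).left (AMonS S M ◁ c).left c.left (snd (AMonS S M) B).left := by
    have e1 : (AMonS S M ◁ c).left ≫ (snd (AMonS S M) B).left = (snd (AMonS S M) O).left ≫ c.left :=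
      congrArg CommaMorphism.left (whiskerLeft_snd (AMonS S M) c)
    have e2 : (AMonS S M ◁ c).left ≫ (fst (AMonS S M) B).left = (fst (AMonS S M) O).left :=
      congrArg CommaMorphism.left (whiskerLeft_fst (AMonS S M) c)
    refine IsPullback.of_bot (h₂₁ := (snd (AMonS S M) B).left) (v₂₁ := (fst (AMonS S M) B).left) (v₂₂ := B.hom)
      (h₃₁ := (AMonS S M).hom) ?_ e1.symm (IsPullback.of_hasPullback (AMonS S M).hom B.hom).flip
    rw [e2, Over.w c]
    exact (IsPullback.of_hasPullback (AMonS S M).hom O.hom).flip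
  exact MorphismProperty.of_isPullback h (inferInstanceAs (IsOpenImmersion c.left))

variable {X : Over S}

/-- Equivariant maps agreeing on an open whose translates cover are equal. -/
theorem ext_of_translates (w : MonAct (AMonS S M) B) (a : MonAct (AMonS S M) X) (u v : B ⟶ X)
    (hu : IsEquivariant w a u) (hv : IsEquivariant w a v) (O : B.left.Opens)
    (hO : O.ι ≫ u.left = O.ι ≫ v.left)
    (hcov : ∀ z, ∃ q : (AMonS S M ⊗ B).left, (snd (AMonS S M) B).left q ∈ O ∧ w.act.left q = z) : u = v := by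
  let c : Over.mk (O.ι ≫ B.hom) ⟶ B := Over.homMk O.ι rfl
  have hc : c ≫ u = c ≫ v := Over.OverMorphism.ext hO
  have : IsOpenImmersion c.left := inferInstanceAs (IsOpenImmersion O.ι)
  have := isOpenImmersion_whiskerLeft (M := M) c
  have := flat_act w
  have : Surjective ((AMonS S M ◁ c).left ≫ w.act.left) := ⟨fun z => by
    obtain ⟨q, hq, rfl⟩ := hcov z
    obtain ⟨r, hr⟩ := preimage_range_whiskerLeft c q ((Scheme.Opens.range_ι O).ge hq)
    exact ⟨r, by rw [Scheme.Hom.comp_apply, hr]⟩⟩
  have : Epi ((AMonS S M ◁ c).left ≫ w.act.left) := Flat.epi_of_flat_of_surjective _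
  refine Over.OverMorphism.ext ((cancel_epi ((AMonS S M ◁ c).left ≫ w.act.left)).1 ?_)
  unfold IsEquivariant at hu hv
  simp only [Category.assoc, ← Over.comp_left]
  rw [hu, hv, ← MonoidalCategory.whiskerLeft_comp_assoc, ← MonoidalCategory.whiskerLeft_comp_assoc, hc]

end Flatness

theorem mono_face_zero {A : Type u} [CommRing A] {str : Spec (CommRingCat.of A) ⟶ S} (hF : IsFace N F)
    (n : N) (hn : (n : M) ∉ F) :
    (Spec.preimage ((eN F str).hom ≫ (AMonS.faceMap S hF ▷ Over.mk str) ≫ (eN N str).inv).left).hom (mono N A n) = 0 := by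
  apply (Scheme.ΓSpecIso (CommRingCat.of (gRing F A))).commRingCatIsoToRingEquiv.symm.injective
  refine (point_mono _ n).trans ?_
  rw [map_zero, show gc N A str = (eN N str).hom from rfl]
  simp only [Category.assoc, Iso.inv_hom_id_assoc, whiskerRight_fst]
  rw [← Category.assoc, mFn_faceMap, dif_neg hn]

theorem ext_of_lvl [AddGroup.FG M] (hF : IsFace N F) {A : Type u} [CommRing A]
    {str : Spec (CommRingCat.of A) ⟶ S} (φ : M →+ ℤ) (hφ : ∀ x ∈ N, 0 ≤ φ x ∧ (φ x = 0 ↔ x ∈ F))
    {X : Over S} (a : MonAct (AMonS S M) X) (u v : AMonS S N ⊗ Over.mk str ⟶ X)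
    (hu : IsEquivariant (actN N (Over.mk str)) a u) (hv : IsEquivariant (actN N (Over.mk str)) a v)
    (h : ∀ j, quotι (c := Spec.map (CommRingCat.ofHom (incl N A)) ≫ str) (lvl (theta (A := A) φ hφ) j) ≫
        gc N A str ≫ u =
      quotι (c := Spec.map (CommRingCat.ofHom (incl N A)) ≫ str) (lvl (theta (A := A) φ hφ) j) ≫ gc N A str ≫ v) :
    u = v := by
  classical
  let δ : (AMonS S N ⊗ Over.mk str ⟶ X) → (Spec (CommRingCat.of (gRing N A)) ⟶ X.left) :=
    fun w => (gc N A str ≫ w).left
  have hδ : ∀ n, Spec.map (CommRingCat.ofHom (Ideal.Quotient.mk (lvl (theta (A := A) φ hφ) n))) ≫ δ u =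
      Spec.map (CommRingCat.ofHom (Ideal.Quotient.mk (lvl (theta (A := A) φ hφ) n))) ≫ δ v := fun n =>
    congrArg CommaMorphism.left (h n)
  let Good : gRing N A → Prop := fun s => Spec.map (CommRingCat.ofHom (algebraMap _ (Localization.Away s))) ≫ δ u =
    Spec.map (CommRingCat.ofHom (algebraMap _ (Localization.Away s))) ≫ δ v
  let co := (inv (gc N A str)).left
  let V : {s // Good s} → (AMonS S N ⊗ Over.mk str).left.Opens := fun s =>
    co ⁻¹ᵁ PrimeSpectrum.basicOpen s.1
  have hco : ∀ w, co ≫ δ w = w.left := fun w =>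
    congrArg CommaMorphism.left (IsIso.inv_hom_id_assoc (gc N A str) w)
  refine ext_of_translates (actN N (Over.mk str)) a u v hu hv (⨆ s, V s) ?_ fun z => ?_
  · refine Scheme.Cover.hom_ext (Scheme.Opens.iSupOpenCover V) _ _ fun s => ?_
    change Scheme.homOfLE _ (le_iSup V s) ≫ _ = Scheme.homOfLE _ (le_iSup V s) ≫ _
    rw [Scheme.homOfLE_ι_assoc, Scheme.homOfLE_ι_assoc, ← hco u, ← hco v, ← Category.assoc, ← Category.assoc]
    have : IsOpenImmersion (Spec.map (CommRingCat.ofHom (algebraMap (gRing N A) (Localization.Away s.1)))) :=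
      IsOpenImmersion.of_isLocalization s.1
    have hr : Set.range ((V s).ι ≫ co) ⊆
        Set.range (Spec.map (CommRingCat.ofHom (algebraMap (gRing N A) (Localization.Away s.1)))) := by
      rintro _ ⟨p, rfl⟩
      have hz : ((V s).ι ≫ co) p ∈ (PrimeSpectrum.basicOpen s.1 : Set (PrimeSpectrum (gRing N A))) := p.2
      rw [← PrimeSpectrum.localization_away_comap_range (Localization.Away s.1) s.1] at hz
      exact hz
    rw [← IsOpenImmersion.lift_fac _ _ hr, Category.assoc, Category.assoc]
    exact congrArg (_ ≫ ·) s.2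
  · refine exists_translate hF _ ?_ z
    rintro _ ⟨p, rfl⟩
    let tF : gOver F A str ⟶ gOver N A str := (eN F str).hom ≫ (AMonS.faceMap S hF ▷ Over.mk str) ≫ (eN N str).inv
    let p' : PrimeSpectrum (gRing F A) := (eN F str).inv.left p
    let q : PrimeSpectrum (gRing N A) := Spec.map (Spec.preimage tF.left) p'
    have hq : lvl (theta φ hφ) 1 ≤ q.asIdeal := fun x hx => by
      change (Spec.preimage tF.left).hom x ∈ p'.asIdeal
      rw [← MonoidAlgebra.sum_coeff_single x, Finsupp.sum, map_sum]
      refine Ideal.sum_mem _ fun m hm => ?_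
      have hmF : ((m.toAdd : N) : M) ∉ F := fun hmF =>
        Finsupp.mem_support_iff.1 hm ((mem_lvl_theta φ hφ).1 hx m (by
          rw [wt, ((hφ _ m.toAdd.2).2).2 hmF]
          simp))
      rw [show MonoidAlgebra.single m (x.coeff m) = incl N A (x.coeff m) * mono N A m.toAdd by
        simp [MonoidAlgebra.single_mul_single], map_mul, mono_face_zero hF m.toAdd hmF, mul_zero]
      exact zero_mem _
    obtain ⟨s, hsq, hs⟩ := exists_eq_near (theta φ hφ) (theta_eval φ hφ) (theta_coeff_zero φ hφ) (δ u) (δ v) hδ q hq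
    refine TopologicalSpace.Opens.mem_iSup.2 ⟨⟨s, hs⟩, ?_⟩
    change co ((AMonS.faceMap S hF ▷ Over.mk str).left p) ∈ PrimeSpectrum.basicOpen s
    have e : (eN F str).inv ≫ tF = (AMonS.faceMap S hF ▷ Over.mk str) ≫ inv (gc N A str) := by
      simp only [tF, Iso.inv_hom_id_assoc]
      simp [eN]
    have e' : co ((AMonS.faceMap S hF ▷ Over.mk str).left p) = q := by
      rw [← Scheme.Hom.comp_apply]
      change ((AMonS.faceMap S hF ▷ Over.mk str) ≫ inv (gc N A str)).left p = q
      rw [← e]
      change tF.left p' = Spec.map (Spec.preimage tF.left) p'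
      rw [Spec.map_preimage]
      rfl
    rw [e']
    exact hsq

end Groth.Agent.MagnetLib.Avg
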