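import Groth.Agent.MagnetLib.GradedExt

/-!
# Gluing compatible graded maps to the infinitesimal neighbourhoods of a face
-/

set_option autoImplicit false
set_option backward.isDefEq.respectTransparency false

universe u

noncomputable section

open CategoryTheory MonoidalCategory CartesianMonoidalCategory MonObj AlgebraicGeometry
open scoped Polynomial

namespace Groth.Agent.MagnetLib.Avg

theorem lvl_mul_le {C : Type u} [CommRing C] (θ : C →+* C[X]) (i j : ℕ) : lvl θ i * lvl θ j ≤ lvl θ (i + j) :=
  Ideal.mul_le.2 fun x hx y hy => by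
    rw [lvl, Ideal.mem_comap, Ideal.mem_span_singleton] at hx hy ⊢
    rw [map_mul, pow_add]
    exact mul_dvd_mul hx hy

variable {M : Type} [AddCommGroup M] (N : AddSubmonoid M) (A : Type u) [CommRing A]

/-- The grading by `M`. -/
def dlt : gRing N A →+* gRing M (gRing N A) :=
  (MonoidAlgebra.lift A (gRing M (gRing N A)) (Multiplicative N)
    { toFun := fun m => MonoidAlgebra.single (Multiplicative.ofAdd ((m.toAdd : N) : M)) (MonoidAlgebra.single m 1)
      map_one' := by
        rw [toAdd_one, AddSubmonoid.coe_zero, ofAdd_zero, ← MonoidAlgebra.one_def, ← MonoidAlgebra.one_def]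
      map_mul' := fun a b => by
        simp only [toAdd_mul, AddSubmonoid.coe_add, ofAdd_add, MonoidAlgebra.single_mul_single, _root_.mul_one] }).toRingHom

variable {N A}

theorem dlt_single (m : Multiplicative N) (c : A) :
    dlt N A (MonoidAlgebra.single m c) =
      MonoidAlgebra.single (Multiplicative.ofAdd ((m.toAdd : N) : M)) (MonoidAlgebra.single m c) := by
  change MonoidAlgebra.lift A (gRing M (gRing N A)) (Multiplicative N) _ (MonoidAlgebra.single m c) = _
  rw [MonoidAlgebra.lift_single]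
  simp [MonoidAlgebra.smul_single]

theorem dlt_incl (c : A) : dlt N A (incl N A c) = incl M (gRing N A) (incl N A c) :=
  dlt_single 1 c

theorem dlt_coeff (x : gRing N A) (n : Multiplicative N) :
    (dlt N A x).coeff (Multiplicative.ofAdd ((n.toAdd : N) : M)) = MonoidAlgebra.single n (x.coeff n) := by
  classical
  induction x using MonoidAlgebra.induction_linear with
  | zero => simp
  | add x y hx hy => simp [hx, hy]
  | single m c =>
    rw [dlt_single]
    by_cases h : m = n
    · subst h; simp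
    · have h' : Multiplicative.ofAdd ((m.toAdd : N) : M) ≠ Multiplicative.ofAdd ((n.toAdd : N) : M) := fun e =>
        h (by simpa using Subtype.ext_iff.2 (Multiplicative.ofAdd.injective e))
      simp [Finsupp.single_eq_of_ne' h, Finsupp.single_eq_of_ne' h']

variable {F : AddSubmonoid M} (φ : M →+ ℤ) (hφ : ∀ x ∈ N, 0 ≤ φ x ∧ (φ x = 0 ↔ x ∈ F))

theorem exists_hom_of_levels {R : Type u} [CommRing R] (ρ : R →+* gRing M R)
    (a : ∀ j, R →+* gRing N A ⧸ lvl (theta (A := A) φ hφ) (j + 1))
    (hcompat : ∀ i j, i ≤ j → ∀ (r : R) (y : gRing N A),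
      Ideal.Quotient.mk (lvl (theta φ hφ) (j + 1)) y = a j r → Ideal.Quotient.mk (lvl (theta φ hφ) (i + 1)) y = a i r)
    (heq : ∀ (j : ℕ) (r : R) (x : gRing N A), Ideal.Quotient.mk (lvl (theta φ hφ) (j + 1)) x = a j r →
      MonoidAlgebra.mapRingHom (Multiplicative M) (Ideal.Quotient.mk (lvl (theta φ hφ) (j + 1))) (dlt N A x) =
        MonoidAlgebra.mapRingHom (Multiplicative M) (a j) (ρ r)) :
    ∃ χ : R →+* gRing N A, (∀ j r, Ideal.Quotient.mk (lvl (theta φ hφ) (j + 1)) (χ r) = a j r) ∧
      (dlt N A).comp χ = (MonoidAlgebra.mapRingHom (Multiplicative M) χ).comp ρ := by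
  classical
  let θ := theta (A := A) φ hφ
  have hext : ∀ x y : gRing N A,
      (∀ j, Ideal.Quotient.mk (lvl θ (j + 1)) x = Ideal.Quotient.mk (lvl θ (j + 1)) y) → x = y := fun x y h =>
    eq_of_forall_quot θ (theta_eval φ hφ) fun j =>
      Ideal.Quotient.eq.2 (lvl_antitone θ (Nat.le_succ j) (Ideal.Quotient.eq.1 (h j)))
  have hsame : ∀ (j : ℕ) (x y : gRing N A), Ideal.Quotient.mk (lvl θ (j + 1)) x = Ideal.Quotient.mk (lvl θ (j + 1)) y →
      ∀ n, wt φ n < j + 1 → x.coeff n = y.coeff n := fun j x y h n hn => by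
    have := (mem_lvl_theta φ hφ).1 (Ideal.Quotient.eq.1 h) n hn
    rwa [MonoidAlgebra.coeff_sub, Finsupp.sub_apply, sub_eq_zero] at this
  have hsupp : ∀ (j : ℕ) (r : R) (y : gRing N A), Ideal.Quotient.mk (lvl θ (j + 1)) y = a j r →
      ∀ n : Multiplicative N, wt φ n < j + 1 → y.coeff n ≠ 0 →
      Multiplicative.ofAdd ((n.toAdd : N) : M) ∈ (ρ r).coeff.support := by
    intro j r y hy n hn hne
    rw [Finsupp.mem_support_iff]
    intro h0
    have e := congrArg (fun z : gRing M (gRing N A ⧸ lvl θ (j + 1)) =>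
      z.coeff (Multiplicative.ofAdd ((n.toAdd : N) : M))) (heq j r y hy)
    rw [MonoidAlgebra.coeff_mapRingHom, MonoidAlgebra.coeff_mapRingHom, dlt_coeff, h0, map_zero] at e
    have := (mem_lvl_theta φ hφ).1 (Ideal.Quotient.eq_zero_iff_mem.1 e) n hn
    exact hne (by simpa using this)
  have hex : ∀ r, ∃ x : gRing N A, ∀ j, Ideal.Quotient.mk (lvl θ (j + 1)) x = a j r := by
    intro r
    let d := (ρ r).coeff.support.sup fun m => (φ m.toAdd).toNat
    obtain ⟨y, hy⟩ := Ideal.Quotient.mk_surjective (a d r)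
    refine ⟨MonoidAlgebra.ofCoeff (y.coeff.filter fun n => wt φ n < d + 1), fun j => ?_⟩
    obtain ⟨z, hz⟩ := Ideal.Quotient.mk_surjective (a (max d j) r)
    rw [← hcompat j _ (le_max_right d j) r z hz]
    refine Ideal.Quotient.eq.2 ((mem_lvl_theta φ hφ).2 fun n hn => ?_)
    rw [MonoidAlgebra.coeff_sub, Finsupp.sub_apply, sub_eq_zero, MonoidAlgebra.coeff_ofCoeff, Finsupp.filter_apply]
    split
    · next h => exact hsame d y z (hy.trans (hcompat d _ (le_max_left d j) r z hz).symm) n h
    · next h =>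
      by_contra hne
      have := Finset.le_sup (f := fun m : Multiplicative M => (φ m.toAdd).toNat)
        (hsupp _ r z hz n (lt_of_lt_of_le hn (Nat.succ_le_succ (le_max_right d j))) (Ne.symm hne))
      exact h (Nat.lt_succ_of_le this)
  choose χ hχ using hex
  let χ' : R →+* gRing N A :=
    { toFun := χ
      map_one' := hext _ _ fun j => by rw [hχ, map_one, map_one]
      map_mul' := fun x y => hext _ _ fun j => by rw [map_mul, hχ, hχ, hχ, map_mul]
      map_zero' := hext _ _ fun j => by rw [hχ, map_zero, map_zero]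
      map_add' := fun x y => hext _ _ fun j => by rw [map_add, hχ, hχ, hχ, map_add] }
  refine ⟨χ', fun j r => hχ r j, RingHom.ext fun r => MonoidAlgebra.ext (Finsupp.ext fun m => hext _ _ fun j => ?_)⟩
  have e := congrArg (fun z : gRing M (gRing N A ⧸ lvl θ (j + 1)) => z.coeff m) (heq j r (χ r) (hχ r j))
  rw [MonoidAlgebra.coeff_mapRingHom, MonoidAlgebra.coeff_mapRingHom] at e
  refine e.trans ?_
  rw [RingHom.comp_apply, MonoidAlgebra.coeff_mapRingHom]
  exact (hχ _ j).symm

end Groth.Agent.MagnetLib.Avg
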