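import Groth.Agent.MagnetLib.FaceOpen
import Groth.Agent.MagnetLib.OpenSub
import Groth.Agent.MagnetLib.QuotAttr

/-!
# Attractors of open stable subschemes
-/

set_option autoImplicit false
set_option backward.isDefEq.respectTransparency false

universe u

noncomputable section

open CategoryTheory CategoryTheory.Limits MonoidalCategory CartesianMonoidalCategory MonObj AlgebraicGeometry Opposite

namespace Groth.Agent.MagnetLib.Avg

open Magnet Magnet.MonAct

variable {S : Scheme.{u}} {M : Type} [AddCommGroup M] [AddGroup.FG M] {N : AddSubmonoid M} {X Y : Over S}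

/-- The units of a submonoid as a subgroup. -/
def unitGrp (N : AddSubmonoid M) : AddSubgroup M :=
  { unitFace N with
    neg_mem' := fun {x} hx => by
      obtain ⟨hx, y, hy, hxy⟩ := hx
      rw [neg_eq_of_add_eq_zero_right hxy]
      exact ⟨hy, x, hx, by rw [add_comm, hxy]⟩ }

/-- The base point of the unit face. -/
abbrev unitPt (N : AddSubmonoid M) (T : Over S) : T ⟶ AMonS S N ⊗ T :=
  CartesianMonoidalCategory.lift (toUnit T ≫ η[AMonS S (unitFace N)]) (𝟙 T) ≫
    (AMonS.faceMap S (isFace_unitFace N) ▷ T)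

theorem eq_top_of_unitPt {T : Over S} (O : (AMonS S N ⊗ T).left.Opens)
    (hs : (snd (AMonS S M) (AMonS S N ⊗ T)).left ⁻¹ᵁ O ≤ (actN N T).act.left ⁻¹ᵁ O)
    (h : ∀ t, (unitPt N T).left t ∈ O) : O = ⊤ := by
  refine eq_top_of_stable (isFace_unitFace N) O ?_ hs
  rintro _ ⟨p, rfl⟩
  obtain ⟨-, hsurj, -⟩ := flat_surjective_whisker (S := S) (isFreeOver_subgroup (unitGrp N)) T
  obtain ⟨r, rfl⟩ := hsurj.surj p
  let R : Over S := Over.mk ((AMonS S M ⊗ T).left.fromSpecResidueField r ≫ (AMonS S M ⊗ T).hom)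
  let ρ : R ⟶ AMonS S M ⊗ T := Over.homMk ((AMonS S M ⊗ T).left.fromSpecResidueField r) rfl
  obtain ⟨w⟩ : Nonempty R.left :=
    inferInstanceAs (Nonempty (Spec (CommRingCat.of ((AMonS S M ⊗ T).left.residueField r))))
  have hw : ρ.left w = r := Scheme.fromSpecResidueField_apply r _
  let q : R ⟶ AMonS S M ⊗ (AMonS S N ⊗ T) :=
    CartesianMonoidalCategory.lift (ρ ≫ fst _ _) ((ρ ≫ snd _ _) ≫ unitPt N T)
  have hq : (snd (AMonS S M) (AMonS S N ⊗ T)).left (q.left w) ∈ O := by
    rw [← Scheme.Hom.comp_apply, ← Over.comp_left, lift_snd]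
    exact h ((ρ ≫ snd _ _).left w)
  have e : q ≫ (actN N T).act =
      (ρ ≫ (AMonS.map S (unitFace N).subtype ▷ T)) ≫ (AMonS.faceMap S (isFace_unitFace N) ▷ T) := by
    have hpt : (ρ ≫ snd _ _) ≫ unitPt N T =
        CartesianMonoidalCategory.lift ((toUnit R ≫ η[AMonS S (unitFace N)]) ≫ AMonS.faceMap S (isFace_unitFace N))
          (ρ ≫ snd _ _) := by
      rw [comp_lift_assoc, comp_toUnit_assoc, Category.comp_id, lift_whiskerRight]
    have hface := (isEquivariant_iff _ _ _).1 (isEquivariant_faceMapS S (isFace_unitFace N)) R (ρ ≫ fst _ _)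
      (toUnit R ≫ η[AMonS S (unitFace N)])
    simp only [q, hpt]
    rw [lift_prod_act, lift_trivial_act, ← hface]
    refine CartesianMonoidalCategory.hom_ext _ _ ?_ ?_
    · rw [lift_fst, Category.assoc, Category.assoc, whiskerRight_fst, ← Category.assoc (AMonS.map S _ ▷ T),
        whiskerRight_fst, Category.assoc]
      rw [← Category.assoc (CartesianMonoidalCategory.lift _ _),
        show CartesianMonoidalCategory.lift (ρ ≫ fst _ _) (toUnit R ≫ η[AMonS S (unitFace N)]) ≫ (subAct S M _).act =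
          (ρ ≫ fst _ _) ≫ AMonS.map S (unitFace N).subtype by
          rw [subAct, lift_restrict_act, lift_regular_act, ← Hom.one_def, _root_.mul_one]]
      simp only [Category.assoc]
    · rw [lift_snd, Category.assoc, Category.assoc, whiskerRight_snd, whiskerRight_snd]
  have hmem := hs hq
  change (actN N T).act.left (q.left w) ∈ O at hmem
  rw [← Scheme.Hom.comp_apply, ← Over.comp_left, e, Over.comp_left, Scheme.Hom.comp_apply, Over.comp_left,
    Scheme.Hom.comp_apply, hw] at hmem
  exact hmem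

theorem isOpenImmersion_postcomp (aX : MonAct (AMonS S M) X) (aY : MonAct (AMonS S M) Y) (f : X ⟶ Y)
    (hf : IsEquivariant aX aY f) [IsOpenImmersion f.left] {ZX ZY : Over S} (eX : (attr aX N).RepresentableBy ZX)
    (eY : (attr aY N).RepresentableBy ZY) (j : ZX ⟶ ZY)
    (hj : ∀ (T : Over S) (z : T ⟶ ZX),
      eY.homEquiv (z ≫ j) = (eqvHom.postcomp (subAct S M N) f hf).app (op T) (eX.homEquiv z)) :
    IsOpenImmersion j.left := by
  have : Mono f := (Over.forget _).mono_of_mono_map (inferInstanceAs (Mono f.left))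
  have hmono : Mono j := ⟨fun {T} z z' h => eX.homEquiv.injective (Subtype.ext ((cancel_mono f).1 (by
    have e := congrArg Subtype.val ((hj T z).symm.trans ((congrArg eY.homEquiv h).trans (hj T z')))
    exact e)))⟩
  let Φ := eY.homEquiv (𝟙 ZY)
  let T₀ : ZY.left.Opens := (unitPt N ZY ≫ Φ.1).left ⁻¹ᵁ f.left.opensRange
  have hΦ : ∀ {T : Over S} (c : T ⟶ ZY), eY.homEquiv c = (attr aY N).map c.op Φ := fun c => by
    conv_lhs => rw [← Category.comp_id c]
    exact eY.homEquiv_comp c (𝟙 ZY)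
  have hpt : ∀ {T : Over S} (c : T ⟶ ZY), unitPt N T ≫ (AMonS S N ◁ c) ≫ Φ.1 = c ≫ unitPt N ZY ≫ Φ.1 := fun c => by
    simp only [unitPt, Category.assoc, lift_whiskerRight_assoc, lift_whiskerLeft_assoc, comp_lift_assoc,
      comp_toUnit_assoc, Category.id_comp, Category.comp_id]
  -- `j` lands in the open
  have hrange : Set.range j.left ⊆ (T₀ : Set ZY.left) := by
    rintro _ ⟨p, rfl⟩
    change (unitPt N ZY ≫ Φ.1).left (j.left p) ∈ Set.range f.left
    rw [← Scheme.Hom.comp_apply, ← Over.comp_left, ← hpt j]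
    have e : (AMonS S N ◁ j) ≫ Φ.1 = (eX.homEquiv (𝟙 ZX)).1 ≫ f := by
      have h1 := congrArg Subtype.val (hj ZX (𝟙 ZX))
      rw [Category.id_comp, hΦ j] at h1
      exact h1
    rw [e, ← Category.assoc, Over.comp_left, Scheme.Hom.comp_apply]
    exact ⟨_, rfl⟩
  -- the inverse on the open
  let V : Over S := Over.mk (T₀.ι ≫ ZY.hom)
  let c : V ⟶ ZY := Over.homMk T₀.ι rfl
  let v := (attr aY N).map c.op Φ
  have hv : v.1.left ⁻¹ᵁ f.left.opensRange = ⊤ :=
    eq_top_of_unitPt _ (preimage_le_of_equivariant aY aX _ f hf v.1 v.2) fun t => by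
      change v.1.left ((unitPt N V).left t) ∈ Set.range f.left
      rw [← Scheme.Hom.comp_apply, ← Over.comp_left,
        show unitPt N V ≫ v.1 = c ≫ unitPt N ZY ≫ Φ.1 from hpt c, Over.comp_left, Scheme.Hom.comp_apply]
      exact t.2
  have hr : Set.range v.1.left ⊆ Set.range f.left := by
    rintro _ ⟨p, rfl⟩
    exact (SetLike.ext_iff.1 hv p).2 trivial
  let l : AMonS S N ⊗ V ⟶ X := Over.homMk (IsOpenImmersion.lift f.left v.1.left hr) (by
    rw [← Over.w f, IsOpenImmersion.lift_fac_assoc, Over.w v.1])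
  have hl : l ≫ f = v.1 := Over.OverMorphism.ext (IsOpenImmersion.lift_fac _ _ _)
  have hlmem : IsEquivariant (actN N V) aX l := by
    have he := v.2
    have hf' := hf
    unfold IsEquivariant at he hf' ⊢
    rw [← cancel_mono f, Category.assoc, hl, he, Category.assoc, hf', ← MonoidalCategory.whiskerLeft_comp_assoc, hl]
  let l' : (attr aX N).obj (op V) := ⟨l, hlmem⟩
  let s := eX.homEquiv.symm l'
  have hsj : s ≫ j = c := eY.homEquiv.injective (by
    rw [hj, hΦ c, Equiv.apply_symm_apply]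
    exact Subtype.ext hl)
  let j' : ZX ⟶ V := Over.homMk (IsOpenImmersion.lift T₀.ι j.left (hrange.trans (Scheme.Opens.range_ι T₀).ge)) (by
    change _ ≫ T₀.ι ≫ ZY.hom = _
    rw [IsOpenImmersion.lift_fac_assoc, Over.w])
  have hj' : j' ≫ c = j := Over.OverMorphism.ext (IsOpenImmersion.lift_fac _ _ _)
  have : Mono c := (Over.forget _).mono_of_mono_map (inferInstanceAs (Mono T₀.ι))
  have hiso : IsIso j' := ⟨⟨s, (cancel_mono j).1 (by rw [Category.assoc, hsj, hj', Category.id_comp]),
    (cancel_mono c).1 (by rw [Category.assoc, hj', hsj, Category.id_comp])⟩⟩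
  rw [← hj', Over.comp_left]
  have : IsIso j'.left := inferInstanceAs (IsIso ((Over.forget S).map j'))
  exact inferInstanceAs (IsOpenImmersion (j'.left ≫ T₀.ι))

end Groth.Agent.MagnetLib.Avg
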