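import Groth.Agent.MagnetLib.Rep
import Groth.Agent.FlatMisc.SpecPushout
import Groth.Prelude.Def_Magnet4

/-!
# `A(N')` as a pushout of `A(L') ← A(L) → A(N)`
-/

set_option autoImplicit false
set_option backward.isDefEq.respectTransparency false

universe u

noncomputable section

open CategoryTheory CategoryTheory.Limits MonoidalCategory CartesianMonoidalCategory MonObj AlgebraicGeometry Opposite
open scoped TensorProduct

namespace Groth.Agent.MagnetLib

open Magnet Magnet.MonAct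

variable {M : Type} [AddCommMonoid M]

/-- The monoid algebra of a submonoid over the integers. -/
abbrev subAlg (P : AddSubmonoid M) : Type u := MonoidAlgebra (ULift.{u} ℤ) (Multiplicative P)

theorem algMap_single (P Q : AddSubmonoid M) (h : P ≤ Q) (n : P) (c : (ULift.{u} ℤ)) :
    algMap.{u} (AddSubmonoid.inclusion h) (MonoidAlgebra.single (Multiplicative.ofAdd n) c) =
      MonoidAlgebra.single (Multiplicative.ofAdd (AddSubmonoid.inclusion h n)) c :=
  MonoidAlgebra.mapDomain_single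

theorem retr_single_of_mem (P Q : AddSubmonoid M) (h : P ≤ Q) (n : Q) (hn : (n : M) ∈ P) (c : (ULift.{u} ℤ)) :
    retr.{u} (AddSubmonoid.inclusion h) (AddSubmonoid.inclusion_injective h)
        (MonoidAlgebra.single (Multiplicative.ofAdd n) c) =
      MonoidAlgebra.single (Multiplicative.ofAdd (⟨n, hn⟩ : P)) c := by
  conv_lhs => rw [show n = AddSubmonoid.inclusion h ⟨n, hn⟩ from rfl, ← algMap_single P Q h, retr_algMap]

theorem retr_single_of_notMem (P Q : AddSubmonoid M) (h : P ≤ Q) (n : Q) (hn : (n : M) ∉ P) (c : (ULift.{u} ℤ)) :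
    retr.{u} (AddSubmonoid.inclusion h) (AddSubmonoid.inclusion_injective h)
        (MonoidAlgebra.single (Multiplicative.ofAdd n) c) = 0 :=
  MonoidAlgebra.comapDomain_single_of_not_mem_range
    (f := AddMonoidHom.toMultiplicative (AddSubmonoid.inclusion h))
    (fun ⟨a, ha⟩ => hn (by
      have : AddSubmonoid.inclusion h a.toAdd = n := ha
      rw [← this]
      exact a.toAdd.2))
    (fun _ _ e => Multiplicative.toAdd.injective (AddSubmonoid.inclusion_injective h (congrArg Multiplicative.toAdd e)))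

variable {N N' L L' : AddSubmonoid M} (hNL : N ≤ L) (hN'L' : N' ≤ L') (hL : IsFace L' L) (hN : IsFace N' N)
  (hdiff : (N' : Set M) = (L' : Set M) \ ((L : Set M) \ (N : Set M)))

include hdiff in
theorem face_comp :
    (faceAlgHom (ULift.{u} ℤ) hL).comp (algMap.{u} (AddSubmonoid.inclusion hN'L')) =
      (algMap.{u} (AddSubmonoid.inclusion hNL)).comp (faceAlgHom (ULift.{u} ℤ) hN) := by
  refine MonoidAlgebra.algHom_ext (fun m => ?_) (Subsingleton.elim _ _)
  obtain ⟨n, rfl⟩ : ∃ n : N', Multiplicative.ofAdd n = m := ⟨m.toAdd, rfl⟩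
  rw [AlgHom.comp_apply, AlgHom.comp_apply, algMap_single N' L' hN'L']
  by_cases h : (n : M) ∈ N
  · rw [faceAlgHom_single_of_mem _ hN n h, faceAlgHom_single_of_mem _ hL (AddSubmonoid.inclusion hN'L' n) (hNL h),
      algMap_single N L hNL]
    rfl
  · have h' : (n : M) ∉ L := fun hl => by
      have := n.2
      rw [← SetLike.mem_coe, hdiff] at this
      exact this.2 ⟨hl, h⟩
    rw [faceAlgHom_single_of_not_mem _ hN n h,
      faceAlgHom_single_of_not_mem _ hL (AddSubmonoid.inclusion hN'L' n) h', map_zero]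

include hNL hdiff in
theorem split_identity (x : (subAlg.{u} L')) :
    algMap.{u} (AddSubmonoid.inclusion hN'L') (retr.{u} _ (AddSubmonoid.inclusion_injective hN'L') x) +
        algMap.{u} (AddSubmonoid.inclusion hL.le) (faceAlgHom (ULift.{u} ℤ) hL x) =
      x + algMap.{u} (AddSubmonoid.inclusion hN'L') (algMap.{u} (AddSubmonoid.inclusion hN.le)
        (faceAlgHom (ULift.{u} ℤ) hN (retr.{u} _ (AddSubmonoid.inclusion_injective hN'L') x))) := by
  induction x using MonoidAlgebra.induction_linear with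
  | zero => simp only [map_zero, add_zero]
  | add x y hx hy => simp only [map_add]; rw [add_add_add_comm, hx, hy, add_add_add_comm]
  | single m c => ?_
  obtain ⟨n, rfl⟩ : ∃ n : L', Multiplicative.ofAdd n = m := ⟨m.toAdd, rfl⟩
  by_cases hn : (n : M) ∈ L
  · rw [faceAlgHom_single_of_mem _ hL n hn, algMap_single L L' hL.le]
    by_cases hnN : (n : M) ∈ N
    · rw [retr_single_of_mem N' L' hN'L' n (hN.le hnN), algMap_single N' L' hN'L',
        faceAlgHom_single_of_mem _ hN _ hnN, algMap_single N N' hN.le, algMap_single N' L' hN'L']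
      rfl
    · have h' : (n : M) ∉ N' := fun h => by
        rw [← SetLike.mem_coe, hdiff] at h
        exact h.2 ⟨hn, hnN⟩
      rw [retr_single_of_notMem N' L' hN'L' n h', map_zero, map_zero, map_zero, map_zero, zero_add, add_zero]
      rfl
  · have h' : (n : M) ∈ N' := by
      rw [← SetLike.mem_coe, hdiff]
      exact ⟨n.2, fun h => hn h.1⟩
    rw [faceAlgHom_single_of_not_mem _ hL n hn, map_zero, add_zero, retr_single_of_mem N' L' hN'L' n h',
      algMap_single N' L' hN'L', faceAlgHom_single_of_not_mem _ hN _ (fun h => hn (hNL h)), map_zero, map_zero, add_zero]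
    rfl

section Up

variable {k : Type u} [CommRing k] {C : Type u} [CommRing C] [Algebra k C] {P Q R : Type u} [CommRing P] [Algebra k P]
  [CommRing Q] [Algebra k Q] [CommRing R] [Algebra k R]

variable (C) in
/-- Base change of an algebra map to `C`. -/
abbrev up (f : P →ₐ[k] Q) : C ⊗[k] P →ₐ[k] C ⊗[k] Q := Algebra.TensorProduct.map (AlgHom.id k C) f

theorem up_eq (f : P →ₐ[k] Q) (x) : up C f x = f.toLinearMap.lTensor C x := rfl

theorem up_up (f : P →ₐ[k] Q) (g : Q →ₐ[k] R) (x) : up C g (up C f x) = up C (g.comp f) x := by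
  rw [up_eq, up_eq, up_eq, ← LinearMap.lTensor_comp_apply]
  rfl

theorem up_id (x : C ⊗[k] P) : up C (AlgHom.id k P) x = x := by
  rw [up_eq]
  exact LinearMap.congr_fun (LinearMap.lTensor_id C _) x

end Up

section Chart

variable {S : Scheme.{u}}

theorem faceMap_hm {F P : AddSubmonoid M} (hF : IsFace P F) :
    (AMonS.faceMap S hF).left ≫ pullback.fst _ _ =
      pullback.fst _ _ ≫ Spec.map (CommRingCat.ofHom (faceAlgHom (ULift.{u} ℤ) hF).toRingHom) :=
  pullback.lift_fst _ _ _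

include hdiff in
theorem whisker_w (T : Over S) :
    (AMonS.faceMap S hL ▷ T) ≫ (AMonS.map S (AddSubmonoid.inclusion hN'L') ▷ T) =
      (AMonS.map S (AddSubmonoid.inclusion hNL) ▷ T) ≫ (AMonS.faceMap S hN ▷ T) := by
  rw [← comp_whiskerRight, ← comp_whiskerRight]
  congr 1
  refine Over.OverMorphism.ext (pullback.hom_ext ?_ ((Over.w _).trans (Over.w _).symm))
  rw [Over.comp_left, Over.comp_left, Category.assoc, Category.assoc, amons_map_hm, faceMap_hm, ← Category.assoc,
    ← Category.assoc, faceMap_hm, amons_map_hm, Category.assoc, Category.assoc, ← Spec.map_comp, ← Spec.map_comp]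
  congr 2
  exact CommRingCat.hom_ext (congrArg AlgHom.toRingHom (face_comp hNL hN'L' hL hN hdiff))

include hdiff in
theorem isPushout_whisker_affine {C : Type u} [CommRing C] (c : Spec (CommRingCat.of C) ⟶ S) :
    IsPushout (AMonS.faceMap S hL ▷ Over.mk c).left (AMonS.map S (AddSubmonoid.inclusion hNL) ▷ Over.mk c).left
      (AMonS.map S (AddSubmonoid.inclusion hN'L') ▷ Over.mk c).left (AMonS.faceMap S hN ▷ Over.mk c).left := by
  letI : Algebra (ULift.{u} ℤ) C := ULift.algebra' ℤ C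
  have hc : Spec.map (CommRingCat.ofHom (algebraMap (ULift.{u} ℤ) C)) = c ≫ toZ S :=
    specULiftZIsTerminal.hom_ext _ _
  let ιM : (subAlg.{u} N') →ₐ[(ULift.{u} ℤ)] (subAlg.{u} L') := algMap.{u} (AddSubmonoid.inclusion hN'L')
  let pN : (subAlg.{u} N') →ₐ[(ULift.{u} ℤ)] (subAlg.{u} N) := faceAlgHom (ULift.{u} ℤ) hN
  let pL : (subAlg.{u} L') →ₐ[(ULift.{u} ℤ)] (subAlg.{u} L) := faceAlgHom (ULift.{u} ℤ) hL
  let j : (subAlg.{u} N) →ₐ[(ULift.{u} ℤ)] (subAlg.{u} L) := algMap.{u} (AddSubmonoid.inclusion hNL)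
  let σ : (subAlg.{u} L') →ₗ[(ULift.{u} ℤ)] (subAlg.{u} N') := retr.{u} _ (AddSubmonoid.inclusion_injective hN'L')
  let iN : (subAlg.{u} N) →ₐ[(ULift.{u} ℤ)] (subAlg.{u} N') := algMap.{u} (AddSubmonoid.inclusion hN.le)
  let sL : (subAlg.{u} L) →ₐ[(ULift.{u} ℤ)] (subAlg.{u} L') := algMap.{u} (AddSubmonoid.inclusion hL.le)
  letI : Algebra (C ⊗[(ULift.{u} ℤ)] (subAlg.{u} N')) (C ⊗[(ULift.{u} ℤ)] (subAlg.{u} L')) := (up C ιM).toRingHom.toAlgebra
  letI : Algebra (C ⊗[(ULift.{u} ℤ)] (subAlg.{u} N')) (C ⊗[(ULift.{u} ℤ)] (subAlg.{u} N)) := (up C pN).toRingHom.toAlgebra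
  letI : Algebra (C ⊗[(ULift.{u} ℤ)] (subAlg.{u} N)) (C ⊗[(ULift.{u} ℤ)] (subAlg.{u} L)) := (up C j).toRingHom.toAlgebra
  letI : Algebra (C ⊗[(ULift.{u} ℤ)] (subAlg.{u} L')) (C ⊗[(ULift.{u} ℤ)] (subAlg.{u} L)) := (up C pL).toRingHom.toAlgebra
  letI : Algebra (C ⊗[(ULift.{u} ℤ)] (subAlg.{u} N')) (C ⊗[(ULift.{u} ℤ)] (subAlg.{u} L)) := ((up C pL).comp (up C ιM)).toRingHom.toAlgebra
  have hw : (up C pL).comp (up C ιM) = (up C j).comp (up C pN) := by
    simp only [up, ← Algebra.TensorProduct.map_comp, AlgHom.comp_id]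
    exact congrArg _ (face_comp hNL hN'L' hL hN hdiff)
  have : IsScalarTower (C ⊗[(ULift.{u} ℤ)] (subAlg.{u} N')) (C ⊗[(ULift.{u} ℤ)] (subAlg.{u} L')) (C ⊗[(ULift.{u} ℤ)] (subAlg.{u} L)) := .of_algebraMap_eq fun _ => rfl
  have : IsScalarTower (C ⊗[(ULift.{u} ℤ)] (subAlg.{u} N')) (C ⊗[(ULift.{u} ℤ)] (subAlg.{u} N)) (C ⊗[(ULift.{u} ℤ)] (subAlg.{u} L)) :=
    .of_algebraMap_eq fun x => DFunLike.congr_fun hw x
  have hsq : EtMil.IsFibreSquare (C ⊗[(ULift.{u} ℤ)] (subAlg.{u} N')) (C ⊗[(ULift.{u} ℤ)] (subAlg.{u} N)) (C ⊗[(ULift.{u} ℤ)] (subAlg.{u} L')) (C ⊗[(ULift.{u} ℤ)] (subAlg.{u} L)) := by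
    have hpi : pN.comp iN = AlgHom.id (ULift.{u} ℤ) _ := faceAlgHom_comp_mapDomain (ULift.{u} ℤ) hN
    have hps : pL.comp sL = AlgHom.id (ULift.{u} ℤ) _ := faceAlgHom_comp_mapDomain (ULift.{u} ℤ) hL
    have hιi : ιM.comp iN = sL.comp j := by
      refine MonoidAlgebra.algHom_ext (fun m => ?_) (Subsingleton.elim _ _)
      obtain ⟨n, rfl⟩ : ∃ n : N, Multiplicative.ofAdd n = m := ⟨m.toAdd, rfl⟩
      simp only [AlgHom.comp_apply, ιM, iN, sL, j]
      rw [algMap_single N N' hN.le, algMap_single N L hNL, algMap_single N' L' hN'L', algMap_single L L' hL.le]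
      rfl
    have hid : ιM.toLinearMap ∘ₗ σ + sL.toLinearMap ∘ₗ pL.toLinearMap =
        LinearMap.id + ιM.toLinearMap ∘ₗ iN.toLinearMap ∘ₗ pN.toLinearMap ∘ₗ σ :=
      LinearMap.ext fun x => split_identity hNL hN'L' hL hN hdiff x
    refine ⟨fun y => ⟨up C sL y, ?_⟩, fun b a' hba => ?_⟩
    · change up C pL (up C sL y) = y
      rw [up_up, hps, up_id]
    · refine ⟨σ.lTensor C a' + up C iN b - up C iN (up C pN (σ.lTensor C a')), ⟨?_, ?_⟩, fun y hy => ?_⟩
      · change up C pN _ = b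
        rw [map_sub, map_add, up_up iN pN, up_up iN pN, hpi, up_id, up_id]
        abel
      · change up C ιM _ = a'
        have h1 : up C ιM (σ.lTensor C a') + up C sL (up C pL a') = a' + up C ιM (up C iN (up C pN (σ.lTensor C a'))) := by
          have := LinearMap.congr_fun (congrArg (LinearMap.lTensor C) hid) a'
          simp only [LinearMap.lTensor_add, LinearMap.lTensor_comp, LinearMap.lTensor_id, LinearMap.add_apply,
            LinearMap.comp_apply, LinearMap.id_apply] at this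
          exact this
        have h2 : up C ιM (up C iN b) = up C sL (up C pL a') := by
          rw [up_up iN ιM, hιi, ← up_up j sL]
          exact congrArg (up C sL) hba
        rw [map_sub, map_add, h2, h1]
        abel
      · have h1 : ∀ z, σ.lTensor C (up C ιM z) = z := fun z => by
          rw [up_eq, ← LinearMap.lTensor_comp_apply, show σ ∘ₗ ιM.toLinearMap = LinearMap.id from
            LinearMap.ext (retr_algMap _ (AddSubmonoid.inclusion_injective hN'L')), LinearMap.lTensor_id, LinearMap.id_apply]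
        have h3 : σ.lTensor C a' = y := by rw [← hy.2]; exact h1 y
        rw [h3, show up C iN b = up C iN (up C pN y) from congrArg (up C iN) hy.1.symm]
        abel
  have hP := (FlatMisc.SpecPushout.isPushout hsq).flip
  have hI := fun (P : AddSubmonoid M) => Extend.isIso_chart (toZ S) ((subAlg.{u} P)) c hc
  let e := fun (P : AddSubmonoid M) => @asIso _ _ _ _ (Extend.chart (toZ S) ((subAlg.{u} P)) c hc) (hI P)
  exact hP.of_iso (e L) (e L') (e N) (e N')
    (Extend.chart_whiskerRight (toZ S) pL (AMonS.faceMap S hL) (faceMap_hm hL) c hc).symm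
    (Extend.chart_whiskerRight (toZ S) j (AMonS.map S (AddSubmonoid.inclusion hNL)) (amons_map_hm _) c hc).symm
    (Extend.chart_whiskerRight (toZ S) ιM (AMonS.map S (AddSubmonoid.inclusion hN'L')) (amons_map_hm _) c hc).symm
    (Extend.chart_whiskerRight (toZ S) pN (AMonS.faceMap S hN) (faceMap_hm hN) c hc).symm

include hdiff hNL hN'L' hL hN in
/-- Uniqueness, on every base. -/
theorem pushout_hom_ext {W : Over S} (T : Over S) {u v : AMonS S N' ⊗ T ⟶ W}
    (h₁ : (AMonS.map S (AddSubmonoid.inclusion hN'L') ▷ T) ≫ u = (AMonS.map S (AddSubmonoid.inclusion hN'L') ▷ T) ≫ v)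
    (h₂ : (AMonS.faceMap S hN ▷ T) ≫ u = (AMonS.faceMap S hN ▷ T) ≫ v) : u = v := by
  refine Over.OverMorphism.ext (Scheme.Cover.hom_ext
    (T.left.affineCover.pullback₁ (pullback.snd (AMonS S N').hom T.hom)) _ _ fun i => ?_)
  let g := T.left.affineCover.f i
  let Ti : Over S := Over.mk (g ≫ T.hom)
  let j : Ti ⟶ T := Over.homMk g rfl
  let π₀ : pullback (pullback.snd (AMonS S N').hom T.hom) g ⟶ pullback (AMonS S N').hom Ti.hom :=
    pullback.lift (pullback.fst _ _ ≫ pullback.fst _ _) (pullback.snd _ _) (by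
      change _ = _ ≫ g ≫ T.hom
      rw [Category.assoc, pullback.condition, ← Category.assoc, pullback.condition, Category.assoc])
  have hk : π₀ ≫ (AMonS S N' ◁ j).left = pullback.fst (pullback.snd (AMonS S N').hom T.hom) g := by
    refine pullback.hom_ext ?_ ?_
    · rw [Category.assoc, Over.whiskerLeft_left_fst, pullback.lift_fst]
    · rw [Category.assoc, Over.whiskerLeft_left_snd, pullback.lift_snd_assoc]
      exact pullback.condition.symm
  have key : (AMonS S N' ◁ j) ≫ u = (AMonS S N' ◁ j) ≫ v := by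
    have hp := isPushout_whisker_affine hNL hN'L' hL hN hdiff (g ≫ T.hom)
    refine Over.OverMorphism.ext (hp.hom_ext ?_ ?_)
    · exact congrArg Over.Hom.left (show (AMonS.map S (AddSubmonoid.inclusion hN'L') ▷ Ti) ≫ (AMonS S N' ◁ j) ≫ u =
        (AMonS.map S (AddSubmonoid.inclusion hN'L') ▷ Ti) ≫ (AMonS S N' ◁ j) ≫ v by
          rw [← whisker_exchange_assoc, ← whisker_exchange_assoc, h₁])
    · exact congrArg Over.Hom.left (show (AMonS.faceMap S hN ▷ Ti) ≫ (AMonS S N' ◁ j) ≫ u =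
        (AMonS.faceMap S hN ▷ Ti) ≫ (AMonS S N' ◁ j) ≫ v by
          rw [← whisker_exchange_assoc, ← whisker_exchange_assoc, h₂])
  have e : ∀ (c : AMonS S N' ⊗ T ⟶ W), pullback.fst (pullback.snd (AMonS S N').hom T.hom) g ≫ c.left =
      π₀ ≫ ((AMonS S N' ◁ j) ≫ c).left := fun c =>
    (congrArg (· ≫ c.left) hk).symm.trans (Category.assoc _ _ _)
  exact ((e u).trans (congrArg (π₀ ≫ ·) (congrArg Over.Hom.left key))).trans (e v).symm

include hdiff hNL hN'L' hL hN in
theorem pushout_exists {W : Over S} (T : Over S) (φ : AMonS S L' ⊗ T ⟶ W) (ψ : AMonS S N ⊗ T ⟶ W)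
    (h : (AMonS.faceMap S hL ▷ T) ≫ φ = (AMonS.map S (AddSubmonoid.inclusion hNL) ▷ T) ≫ ψ) :
    ∃ θ : AMonS S N' ⊗ T ⟶ W, (AMonS.map S (AddSubmonoid.inclusion hN'L') ▷ T) ≫ θ = φ ∧
      (AMonS.faceMap S hN ▷ T) ≫ θ = ψ := by
  have hext : ∀ (V : Over S) {u v : AMonS S N' ⊗ V ⟶ W},
      (AMonS.map S (AddSubmonoid.inclusion hN'L') ▷ V) ≫ u = (AMonS.map S (AddSubmonoid.inclusion hN'L') ▷ V) ≫ v →
      (AMonS.faceMap S hN ▷ V) ≫ u = (AMonS.faceMap S hN ▷ V) ≫ v → u = v :=
    fun V _ _ => pushout_hom_ext hNL hN'L' hL hN hdiff V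
  let J := Scheme.zariskiTopology.over S
  let R : Sieve T := (Sieve.overEquiv T).symm (Sieve.ofArrows T.left.affineCover.X T.left.affineCover.f)
  have hR : R ∈ J T := by
    rw [GrothendieckTopology.mem_over_iff]
    change (Sieve.overEquiv T) ((Sieve.overEquiv T).symm
      (Sieve.ofArrows T.left.affineCover.X T.left.affineCover.f)) ∈ _
    rw [OrderIso.apply_symm_apply]
    exact Precoverage.generate_mem_toGrothendieck T.left.affineCover.mem₀
  have hl : ∀ {V : Over S} (q : V ⟶ T), R.arrows q →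
      ∃ l : AMonS S N' ⊗ V ⟶ W, (AMonS.map S (AddSubmonoid.inclusion hN'L') ▷ V) ≫ l = (AMonS S L' ◁ q) ≫ φ ∧
        (AMonS.faceMap S hN ▷ V) ≫ l = (AMonS S N ◁ q) ≫ ψ := by
    intro V q hq
    rw [Sieve.overEquiv_symm_iff, Sieve.mem_ofArrows_iff] at hq
    obtain ⟨i, r, hr⟩ := hq
    let j : Over.mk (T.left.affineCover.f i ≫ T.hom) ⟶ T := Over.homMk (T.left.affineCover.f i) rfl
    let w : V ⟶ Over.mk (T.left.affineCover.f i ≫ T.hom) := Over.homMk r (by
      change r ≫ T.left.affineCover.f i ≫ T.hom = V.hom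
      rw [← Category.assoc, ← hr]
      exact Over.w q)
    have hwj : w ≫ j = q := Over.OverMorphism.ext hr.symm
    have hp := isPushout_whisker_affine hNL hN'L' hL hN hdiff (T.left.affineCover.f i ≫ T.hom)
    have hc : (AMonS.faceMap S hL ▷ Over.mk (T.left.affineCover.f i ≫ T.hom)).left ≫ ((AMonS S L' ◁ j) ≫ φ).left =
        (AMonS.map S (AddSubmonoid.inclusion hNL) ▷ Over.mk (T.left.affineCover.f i ≫ T.hom)).left ≫
          ((AMonS S N ◁ j) ≫ ψ).left := by
      rw [← Over.comp_left, ← Over.comp_left, ← whisker_exchange_assoc, ← whisker_exchange_assoc, h]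
    let l₀ : AMonS S N' ⊗ Over.mk (T.left.affineCover.f i ≫ T.hom) ⟶ W :=
      Over.homMk (hp.desc _ _ hc) (hp.hom_ext
        (by rw [hp.inl_desc_assoc, Over.w, Over.w]) (by rw [hp.inr_desc_assoc, Over.w, Over.w]))
    refine ⟨(AMonS S N' ◁ w) ≫ l₀, ?_, ?_⟩
    · rw [← whisker_exchange_assoc, show (AMonS.map S (AddSubmonoid.inclusion hN'L') ▷ _) ≫ l₀ = (AMonS S L' ◁ j) ≫ φ
        from Over.OverMorphism.ext (hp.inl_desc _ _ hc), ← MonoidalCategory.whiskerLeft_comp_assoc, hwj]
    · rw [← whisker_exchange_assoc, show (AMonS.faceMap S hN ▷ _) ≫ l₀ = (AMonS S N ◁ j) ≫ ψ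
        from Over.OverMorphism.ext (hp.inr_desc _ _ hc), ← MonoidalCategory.whiskerLeft_comp_assoc, hwj]
  choose l hl₁ hl₂ using @hl
  have hcomp : ∀ {V V' : Over S} (q : V ⟶ T) (hq : R.arrows q) (r : V' ⟶ V) {q' : V' ⟶ T} (hq' : R.arrows q'),
      q' = r ≫ q → l q' hq' = (AMonS S N' ◁ r) ≫ l q hq := fun q hq r q' hq' e => by
    refine hext _ ?_ ?_
    · rw [hl₁, ← whisker_exchange_assoc, hl₁, ← MonoidalCategory.whiskerLeft_comp_assoc, e]
    · rw [hl₂, ← whisker_exchange_assoc, hl₂, ← MonoidalCategory.whiskerLeft_comp_assoc, e]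
  have hY : Presieve.IsSheaf J (yoneda.obj W) :=
    GrothendieckTopology.Subcanonical.isSheaf_of_isRepresentable _
  let R' := R.pullback (snd (AMonS S N') T)
  let y : Presieve.FamilyOfElements (yoneda.obj W) R'.arrows := fun V q hq =>
    CartesianMonoidalCategory.lift (q ≫ fst _ _) (𝟙 V) ≫ l (q ≫ snd _ _) hq
  have hy : y.Compatible := by
    rw [Presieve.compatible_iff_sieveCompatible]
    intro V V' q r hq
    change CartesianMonoidalCategory.lift ((r ≫ q) ≫ fst _ _) (𝟙 V') ≫ l ((r ≫ q) ≫ snd _ _) _ =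
      r ≫ CartesianMonoidalCategory.lift (q ≫ fst _ _) (𝟙 V) ≫ _
    rw [hcomp _ hq r _ (Category.assoc _ _ _), lift_whiskerLeft_assoc, Category.id_comp, Category.assoc]
    exact (congrArg (· ≫ _) ((comp_lift r _ _).trans (by rw [Category.comp_id]))).symm.trans (Category.assoc _ _ _)
  obtain ⟨θ, hθ, -⟩ := hY R' (J.pullback_stable _ hR) y hy
  refine ⟨θ, ?_, ?_⟩
  · refine (hY (R.pullback (snd (AMonS S L') T)) (J.pullback_stable _ hR)).isSeparatedFor.ext fun V q hq => ?_
    change q ≫ _ = q ≫ _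
    let q' := q ≫ (AMonS.map S (AddSubmonoid.inclusion hN'L') ▷ T)
    have hq' : R'.arrows q' := by
      change R.arrows ((q ≫ _) ≫ snd _ _)
      rw [Category.assoc, whiskerRight_snd]
      exact hq
    refine ((Category.assoc _ _ _).symm.trans (hθ q' hq')).trans ?_
    change CartesianMonoidalCategory.lift ((q ≫ _) ≫ fst _ _) (𝟙 V) ≫ l _ hq' = _
    rw [hcomp (q ≫ snd _ _) hq (𝟙 V) hq' (by rw [Category.id_comp, Category.assoc, whiskerRight_snd]),
      lift_whiskerLeft_assoc, Category.comp_id, Category.assoc, whiskerRight_fst, ← Category.assoc q,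
      ← lift_whiskerRight_assoc, hl₁, lift_whiskerLeft_assoc, Category.id_comp, ← comp_lift, lift_fst_snd,
      Category.comp_id]
  · refine (hY (R.pullback (snd (AMonS S N) T)) (J.pullback_stable _ hR)).isSeparatedFor.ext fun V q hq => ?_
    change q ≫ _ = q ≫ _
    let q' := q ≫ (AMonS.faceMap S hN ▷ T)
    have hq' : R'.arrows q' := by
      change R.arrows ((q ≫ _) ≫ snd _ _)
      rw [Category.assoc, whiskerRight_snd]
      exact hq
    refine ((Category.assoc _ _ _).symm.trans (hθ q' hq')).trans ?_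
    change CartesianMonoidalCategory.lift ((q ≫ _) ≫ fst _ _) (𝟙 V) ≫ l _ hq' = _
    rw [hcomp (q ≫ snd _ _) hq (𝟙 V) hq' (by rw [Category.id_comp, Category.assoc, whiskerRight_snd]),
      lift_whiskerLeft_assoc, Category.comp_id, Category.assoc, whiskerRight_fst, ← Category.assoc q,
      ← lift_whiskerRight_assoc, hl₂, lift_whiskerLeft_assoc, Category.id_comp, ← comp_lift, lift_fst_snd,
      Category.comp_id]

include hdiff hNL hN'L' hL hN in
theorem isPushout_whisker (T : Over S) :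
    IsPushout (AMonS.faceMap S hL ▷ T) (AMonS.map S (AddSubmonoid.inclusion hNL) ▷ T)
      (AMonS.map S (AddSubmonoid.inclusion hN'L') ▷ T) (AMonS.faceMap S hN ▷ T) := by
  have hex := fun (s : PushoutCocone (AMonS.faceMap S hL ▷ T) (AMonS.map S (AddSubmonoid.inclusion hNL) ▷ T)) =>
    pushout_exists hNL hN'L' hL hN hdiff T s.inl s.inr s.condition
  exact IsPushout.of_isColimit (c := PushoutCocone.mk _ _ (whisker_w hNL hN'L' hL hN hdiff T))
    (PushoutCocone.IsColimit.mk _ (fun s => (hex s).choose) (fun s => (hex s).choose_spec.1)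
      (fun s => (hex s).choose_spec.2) fun s m h₁ h₂ => pushout_hom_ext hNL hN'L' hL hN hdiff T
        (h₁.trans (hex s).choose_spec.1.symm) (h₂.trans (hex s).choose_spec.2.symm))

end Chart

end Groth.Agent.MagnetLib
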