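import Groth.Agent.MagnetLib.Pushout

/-!
# The cartesian square of attractors from the pushout of monoid schemes
-/

set_option autoImplicit false
set_option backward.isDefEq.respectTransparency false

universe u

noncomputable section

open CategoryTheory CategoryTheory.Limits MonoidalCategory CartesianMonoidalCategory MonObj AlgebraicGeometry Opposite

namespace Groth.Agent.MagnetLib

open Magnet Magnet.MonAct

variable {M : Type} [AddCommMonoid M] {N N' L L' : AddSubmonoid M} (hNL : N ≤ L) (hN'L' : N' ≤ L') (hL : IsFace L' L)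
  (hN : IsFace N' N) (hdiff : (N' : Set M) = (L' : Set M) \ ((L : Set M) \ (N : Set M))) {S : Scheme.{u}}

include hdiff in
theorem isPushout_amons :
    IsPushout (AMonS.faceMap S hL) (AMonS.map S (AddSubmonoid.inclusion hNL))
      (AMonS.map S (AddSubmonoid.inclusion hN'L')) (AMonS.faceMap S hN) :=
  (isPushout_whisker hNL hN'L' hL hN hdiff (𝟙_ (Over S))).of_iso (ρ_ _) (ρ_ _) (ρ_ _) (ρ_ _)
    (MonoidalCategory.rightUnitor_naturality _) (MonoidalCategory.rightUnitor_naturality _)
    (MonoidalCategory.rightUnitor_naturality _) (MonoidalCategory.rightUnitor_naturality _)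

include hdiff in
theorem isPullback_attrMap_attrFace {X : Over S} (a : MonAct (AMonS S M) X) :
    IsPullback (attrMap a hN'L') (attrFace a hN) (attrFace a hL) (attrMap a hNL) := by
  refine IsPullback.of_forall_isPullback_app fun T => ?_
  rw [Types.isPullback_iff]
  refine ⟨?_, fun e e' h => ?_, fun e₁ e₂ h => ?_⟩
  · ext e
    refine Subtype.ext ?_
    change (AMonS.faceMap S hL ▷ unop T) ≫ (AMonS.map S (AddSubmonoid.inclusion hN'L') ▷ unop T) ≫ e.1 =
      (AMonS.map S (AddSubmonoid.inclusion hNL) ▷ unop T) ≫ (AMonS.faceMap S hN ▷ unop T) ≫ e.1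
    rw [← Category.assoc, whisker_w hNL hN'L' hL hN hdiff, Category.assoc]
  · exact Subtype.ext (pushout_hom_ext hNL hN'L' hL hN hdiff (unop T) (congrArg Subtype.val h.1)
      (congrArg Subtype.val h.2))
  · obtain ⟨θ, hθ₁, hθ₂⟩ := pushout_exists hNL hN'L' hL hN hdiff (unop T) e₁.1 e₂.1 (congrArg Subtype.val h)
    refine ⟨⟨θ, ?_⟩, Subtype.ext hθ₁, Subtype.ext hθ₂⟩
    rw [mem_eqvHom_iff]
    intro W g n t
    have ha : ∀ {P : AddSubmonoid M} {W : Over S} (g : W ⟶ AMonS S M) (m : W ⟶ AMonS S P),
        CartesianMonoidalCategory.lift g m ≫ (subAct S M P).act = (g ≫ AMonS.map S P.subtype) * m := fun {P} {W} g m =>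
      (lift_restrict_act (AMonS.map S P.subtype) (regular (AMonS S P)) g m).trans (lift_regular_act _ _)
    rw [ha]
    let u : AMonS S N' ⊗ (AMonS S M ⊗ unop T) ⟶ X :=
      CartesianMonoidalCategory.lift (((snd _ _ ≫ fst _ _) ≫ AMonS.map S N'.subtype) * fst _ _)
        (snd _ _ ≫ snd _ _) ≫ θ
    let v : AMonS S N' ⊗ (AMonS S M ⊗ unop T) ⟶ X :=
      CartesianMonoidalCategory.lift (snd _ _ ≫ fst _ _)
        (CartesianMonoidalCategory.lift (fst _ _) (snd _ _ ≫ snd _ _) ≫ θ) ≫ a.act
    have huv : u = v := by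
      refine pushout_hom_ext hNL hN'L' hL hN hdiff _ (Magnet.hom_ext_lift₂ fun W P w => ?_)
        (Magnet.hom_ext_lift₂ fun W P w => ?_)
      · rw [← lift_comp_fst_snd w]
        simp only [u, v, lift_whiskerRight_assoc, comp_lift_assoc, MonObj.comp_mul, lift_fst_assoc, lift_snd_assoc,
          lift_fst, lift_snd, Category.assoc]
        have e : AMonS.map S L'.subtype ≫ AMonS.map S (AddSubmonoid.inclusion hN'L') = AMonS.map S N'.subtype := by
          rw [← AMonS.map_comp]
          exact congrArg (AMonS.map S) rfl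
        rw [← e, ← Category.assoc (fst (AMonS S M) (unop T)), ← Category.assoc w, ← MonObj.mul_comp,
          ← lift_whiskerRight_assoc, hθ₁, ← lift_whiskerRight_assoc P, hθ₁]
        have h1 := (mem_eqvHom_iff e₁.1).1 e₁.2 W (w ≫ fst _ _) P (w ≫ snd _ _)
        rw [ha, Category.assoc] at h1
        exact h1
      · rw [← lift_comp_fst_snd w]
        simp only [u, v, lift_whiskerRight_assoc, comp_lift_assoc, MonObj.comp_mul, lift_fst_assoc, lift_snd_assoc,
          lift_fst, lift_snd, Category.assoc]
        have e := (isEquivariant_iff _ _ _).1 (isEquivariant_faceMapS S hN) W (w ≫ fst _ _) P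
        rw [← Category.assoc, ha, ha] at e
        simp only [Category.assoc] at e
        rw [← e, ← lift_whiskerRight_assoc, hθ₂, ← lift_whiskerRight_assoc P, hθ₂]
        have h1 := (mem_eqvHom_iff e₂.1).1 e₂.2 W (w ≫ fst _ _) P (w ≫ snd _ _)
        rw [ha, Category.assoc] at h1
        exact h1
    have h' := congrArg (CartesianMonoidalCategory.lift n (CartesianMonoidalCategory.lift g t) ≫ ·) huv
    simp only [u, v, comp_lift_assoc, MonObj.comp_mul, lift_fst_assoc, lift_snd_assoc, lift_fst, lift_snd,
      Category.assoc] at h'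
    exact h'

end Groth.Agent.MagnetLib
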