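import Groth.Agent.MagnetLib.SmoothLift
import Mathlib.AlgebraicGeometry.Morphisms.ClosedImmersion

/-!
# The pushout of a face of a monoid scheme along a thickening, with its action
-/

set_option autoImplicit false
set_option backward.isDefEq.respectTransparency false

universe u

noncomputable section

open CategoryTheory CategoryTheory.Limits MonoidalCategory CartesianMonoidalCategory MonObj AlgebraicGeometry Opposite

namespace Groth.Agent.MagnetLib.Avg

open Magnet Magnet.MonAct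

section Cat

variable {Ct : Type*} [Category Ct] [CartesianMonoidalCategory Ct] {G Z₀ Z₁ Z₂ P : Ct} [MonObj G]

theorem exists_act_pushout {f : Z₀ ⟶ Z₁} {g : Z₀ ⟶ Z₂} {i₁ : Z₁ ⟶ P} {i₂ : Z₂ ⟶ P} (h : IsPushout f g i₁ i₂)
    (hG : IsPushout (G ◁ f) (G ◁ g) (G ◁ i₁) (G ◁ i₂))
    (hGG : IsPushout (G ◁ G ◁ f) (G ◁ G ◁ g) (G ◁ G ◁ i₁) (G ◁ G ◁ i₂))
    (a₀ : MonAct G Z₀) (a₁ : MonAct G Z₁) (a₂ : MonAct G Z₂) (hf : IsEquivariant a₀ a₁ f) (hg : IsEquivariant a₀ a₂ g) :
    ∃ a : MonAct G P, IsEquivariant a₁ a i₁ ∧ IsEquivariant a₂ a i₂ ∧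
      ∀ (X : Ct) (aX : MonAct G X) (f₁ : Z₁ ⟶ X) (f₂ : Z₂ ⟶ X) (w : f ≫ f₁ = g ≫ f₂),
        IsEquivariant a₁ aX f₁ → IsEquivariant a₂ aX f₂ → IsEquivariant a aX (h.desc f₁ f₂ w) := by
  unfold IsEquivariant at hf hg
  let act := hG.desc (a₁.act ≫ i₁) (a₂.act ≫ i₂) (by
    rw [← Category.assoc, ← Category.assoc, ← hf, ← hg, Category.assoc, Category.assoc, h.w])
  have h1 : (G ◁ i₁) ≫ act = a₁.act ≫ i₁ := hG.inl_desc _ _ _
  have h2 : (G ◁ i₂) ≫ act = a₂.act ≫ i₂ := hG.inr_desc _ _ _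
  have k : ∀ {T Z : Ct} (b : MonAct G Z) (i : Z ⟶ P), (G ◁ i) ≫ act = b.act ≫ i → ∀ (g : T ⟶ G) (x : T ⟶ Z),
      CartesianMonoidalCategory.lift g (x ≫ i) ≫ act = (CartesianMonoidalCategory.lift g x ≫ b.act) ≫ i := by
    intro T Z b i hi g x
    rw [← lift_whiskerLeft_assoc g x i, hi, Category.assoc]
  have one : (η[G] ▷ P) ≫ act = (λ_ P).hom := by
    rw [← cancel_epi (λ_ P).inv, Iso.inv_hom_id, ← Category.assoc]
    rw [show (λ_ P).inv ≫ (η[G] ▷ P) = CartesianMonoidalCategory.lift (1 : P ⟶ G) (𝟙 P) by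
      apply CartesianMonoidalCategory.hom_ext <;> simp [Hom.one_def]]
    refine h.hom_ext ?_ ?_
    · rw [comp_lift_assoc, MonObj.comp_one, Category.comp_id, ← Category.id_comp i₁, k a₁ i₁ h1, a₁.lift_one_act]
    · rw [comp_lift_assoc, MonObj.comp_one, Category.comp_id, ← Category.id_comp i₂, k a₂ i₂ h2, a₂.lift_one_act]
  have mul : (μ[G] ▷ P) ≫ act = (α_ G G P).hom ≫ (G ◁ act) ≫ act := by
    rw [← cancel_epi (α_ G G P).inv, Iso.inv_hom_id_assoc]
    have key : ∀ {Z : Ct} (b : MonAct G Z) (i : Z ⟶ P), (G ◁ i) ≫ act = b.act ≫ i →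
        (G ◁ G ◁ i) ≫ (α_ G G P).inv ≫ (μ[G] ▷ P) ≫ act = (G ◁ G ◁ i) ≫ (G ◁ act) ≫ act := by
      intro Z b i hi
      refine (cancel_epi (α_ G G Z).hom).1 (Magnet.hom_ext_lift₃ fun T g g' x => ?_)
      simp only [lift_lift_associator_hom_assoc, lift_whiskerLeft_assoc, lift_whiskerLeft,
        lift_lift_associator_inv_assoc, lift_whiskerRight_assoc, ← Hom.mul_def]
      rw [k b i hi, k b i hi, k b i hi, b.lift_mul_act]
    exact hGG.hom_ext (key a₁ i₁ h1) (key a₂ i₂ h2)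
  refine ⟨⟨act, one, mul⟩, h1.symm, h2.symm, fun X aX f₁ f₂ w hf₁ hf₂ => hG.hom_ext ?_ ?_⟩
  · unfold IsEquivariant at hf₁
    change (G ◁ i₁) ≫ act ≫ _ = (G ◁ i₁) ≫ (G ◁ _) ≫ _
    rw [reassoc_of% h1, h.inl_desc, hf₁, ← MonoidalCategory.whiskerLeft_comp_assoc, h.inl_desc]
  · unfold IsEquivariant at hf₂
    change (G ◁ i₂) ≫ act ≫ _ = (G ◁ i₂) ≫ (G ◁ _) ≫ _
    rw [reassoc_of% h2, h.inr_desc, hf₂, ← MonoidalCategory.whiskerLeft_comp_assoc, h.inr_desc]

end Cat

section Whisker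

variable {S : Scheme.{u}} (M : Type) [AddCommMonoid M] {C C' : Type u} [CommRing C] [CommRing C']
  {c : Spec (CommRingCat.of C) ⟶ S} {c' : Spec (CommRingCat.of C') ⟶ S}

/-- A map of affines in coordinates on the group. -/
def gMap (t : Over.mk c' ⟶ Over.mk c) (φ : C →+* C') (ht : t.left = Spec.map (CommRingCat.ofHom φ)) :
    gOver M C' c' ⟶ gOver M C c :=
  Over.homMk (Spec.map (CommRingCat.ofHom (MonoidAlgebra.mapRingHom (Multiplicative M) φ))) (by
    change Spec.map _ ≫ Spec.map _ ≫ c = _ ≫ c'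
    have hc : Spec.map (CommRingCat.ofHom φ) ≫ c = c' := by rw [← ht]; exact Over.w t
    rw [← hc, ← Category.assoc, ← Category.assoc, ← Spec.map_comp, ← Spec.map_comp]
    congr 2
    exact CommRingCat.hom_ext (RingHom.ext fun a => by simp))

theorem gMap_gc (t : Over.mk c' ⟶ Over.mk c) (φ : C →+* C') (ht : t.left = Spec.map (CommRingCat.ofHom φ)) :
    gMap M t φ ht ≫ gc M C c = gc M C' c' ≫ (AMonS S M ◁ t) := by
  refine gc_comp_ext (fun m => ?_) ?_
  · rw [Category.assoc, mFn_comp, Category.assoc, whiskerLeft_fst, mFn_gc_fst, mFn_gc_fst]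
    refine (appTop_spec _ _).trans ?_
    congr 1
    simp
  · refine Over.OverMorphism.ext ?_
    rw [Category.assoc, Category.assoc, whiskerLeft_snd]
    change (gMap M t φ ht).left ≫ (gc M C c ≫ snd _ _).left = (gc M C' c' ≫ snd _ _).left ≫ t.left
    rw [gc_snd, gc_snd, ht]
    change Spec.map _ ≫ Spec.map _ = Spec.map _ ≫ Spec.map _
    rw [← Spec.map_comp, ← Spec.map_comp]
    congr 1
    exact CommRingCat.hom_ext (RingHom.ext fun a => by simp)

variable {D B A' A : Type u} [CommRing D] [CommRing B] [CommRing A'] [CommRing A]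

/-- A fibre square of rings stays one for monoid algebras. -/
theorem fibre_mapRingHom (β : B →+* A) (α : A' →+* A) (p : D →+* B) (q : D →+* A')
    (h : ∀ b a', β b = α a' → ∃! d, p d = b ∧ q d = a')
    (b : gRing M B) (a' : gRing M A') (hba : MonoidAlgebra.mapRingHom (Multiplicative M) β b =
      MonoidAlgebra.mapRingHom (Multiplicative M) α a') :
    ∃! d, MonoidAlgebra.mapRingHom (Multiplicative M) p d = b ∧ MonoidAlgebra.mapRingHom (Multiplicative M) q d = a' := by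
  classical
  have hm : ∀ m, β (b.coeff m) = α (a'.coeff m) := fun m => by
    have := congrArg (fun z : gRing M A => z.coeff m) hba
    simpa using this
  choose δ hδ hu using fun m => h _ _ (hm m)
  let s := b.coeff.support ∪ a'.coeff.support
  let d : gRing M D := ∑ m ∈ s, MonoidAlgebra.single m (δ m)
  have hd : ∀ m, d.coeff m = if m ∈ s then δ m else 0 := fun m => by
    simp [d, MonoidAlgebra.coeff_sum, Finsupp.single_apply]
  have h0 : ∀ m, m ∉ s → b.coeff m = 0 ∧ a'.coeff m = 0 := fun m hm => by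
    simpa [s] using hm
  refine ⟨d, ⟨?_, ?_⟩, fun d' hd' => ?_⟩
  · refine MonoidAlgebra.ext (Finsupp.ext fun m => ?_)
    by_cases hs : m ∈ s
    · simp [hd, hs, (hδ m).1]
    · simp [hd, hs, (h0 m hs).1]
  · refine MonoidAlgebra.ext (Finsupp.ext fun m => ?_)
    by_cases hs : m ∈ s
    · simp [hd, hs, (hδ m).2]
    · simp [hd, hs, (h0 m hs).2]
  · refine MonoidAlgebra.ext (Finsupp.ext fun m => ?_)
    have e₁ : p (d'.coeff m) = b.coeff m := by
      have := congrArg (fun z : gRing M B => z.coeff m) hd'.1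
      simpa using this
    have e₂ : q (d'.coeff m) = a'.coeff m := by
      have := congrArg (fun z : gRing M A' => z.coeff m) hd'.2
      simpa using this
    rw [hu m _ ⟨e₁, e₂⟩, hd]
    by_cases hs : m ∈ s
    · rw [if_pos hs]
    · rw [if_neg hs]
      exact (hu m 0 ⟨by rw [map_zero, (h0 m hs).1], by rw [map_zero, (h0 m hs).2]⟩).symm

/-- A fibre square of rings over `S`. -/
structure Square (S : Scheme.{u}) (D B A' A : Type u) [CommRing D] [CommRing B] [CommRing A'] [CommRing A] where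
  β : B →+* A
  α : A' →+* A
  p : D →+* B
  q : D →+* A'
  surj : Function.Surjective α
  comm : β.comp p = α.comp q
  fibre : ∀ b a', β b = α a' → ∃! d, p d = b ∧ q d = a'
  d : Spec (CommRingCat.of D) ⟶ S
  cB : Spec (CommRingCat.of B) ⟶ S
  cA' : Spec (CommRingCat.of A') ⟶ S
  cA : Spec (CommRingCat.of A) ⟶ S
  mp : Over.mk cB ⟶ Over.mk d
  mq : Over.mk cA' ⟶ Over.mk d
  mβ : Over.mk cA ⟶ Over.mk cB
  mα : Over.mk cA ⟶ Over.mk cA'
  hp : mp.left = Spec.map (CommRingCat.ofHom p)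
  hq : mq.left = Spec.map (CommRingCat.ofHom q)
  hβ : mβ.left = Spec.map (CommRingCat.ofHom β)
  hα : mα.left = Spec.map (CommRingCat.ofHom α)

variable (Q : Square S D B A' A)

theorem Square.isPushout : IsPushout Q.mβ Q.mα Q.mp Q.mq := by
  have h := isPushout_of_surjective Q.β Q.α Q.p Q.q Q.surj Q.comm Q.fibre
  refine IsPushout.of_map (Over.forget S) (Over.OverMorphism.ext ?_) ?_
  · rw [Over.comp_left, Over.comp_left, Q.hp, Q.hq, Q.hβ, Q.hα]
    exact h.w
  · change IsPushout Q.mβ.left Q.mα.left Q.mp.left Q.mq.left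
    rw [Q.hp, Q.hq, Q.hβ, Q.hα]
    exact h

/-- The square on the group. -/
def Square.whisker : Square S (gRing M D) (gRing M B) (gRing M A') (gRing M A) where
  β := MonoidAlgebra.mapRingHom (Multiplicative M) Q.β
  α := MonoidAlgebra.mapRingHom (Multiplicative M) Q.α
  p := MonoidAlgebra.mapRingHom (Multiplicative M) Q.p
  q := MonoidAlgebra.mapRingHom (Multiplicative M) Q.q
  surj z := by
    induction z using MonoidAlgebra.induction_linear with
    | zero => exact ⟨0, map_zero _⟩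
    | add a b ha hb =>
      obtain ⟨x, rfl⟩ := ha
      obtain ⟨y, rfl⟩ := hb
      exact ⟨x + y, map_add _ _ _⟩
    | single m r =>
      obtain ⟨r, rfl⟩ := Q.surj r
      exact ⟨MonoidAlgebra.single m r, by simp⟩
  comm := RingHom.ext fun z => by
    have h : ∀ x, Q.β (Q.p x) = Q.α (Q.q x) := fun x => RingHom.congr_fun Q.comm x
    refine MonoidAlgebra.ext (Finsupp.ext fun m => ?_)
    simp [h]
  fibre := fibre_mapRingHom M Q.β Q.α Q.p Q.q Q.fibre
  d := Spec.map (CommRingCat.ofHom (incl M D)) ≫ Q.d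
  cB := Spec.map (CommRingCat.ofHom (incl M B)) ≫ Q.cB
  cA' := Spec.map (CommRingCat.ofHom (incl M A')) ≫ Q.cA'
  cA := Spec.map (CommRingCat.ofHom (incl M A)) ≫ Q.cA
  mp := gMap M Q.mp Q.p Q.hp
  mq := gMap M Q.mq Q.q Q.hq
  mβ := gMap M Q.mβ Q.β Q.hβ
  mα := gMap M Q.mα Q.α Q.hα
  hp := rfl
  hq := rfl
  hβ := rfl
  hα := rfl

theorem Square.isPushout_whisker :
    IsPushout (AMonS S M ◁ Q.mβ) (AMonS S M ◁ Q.mα) (AMonS S M ◁ Q.mp) (AMonS S M ◁ Q.mq) :=
  (Q.whisker M).isPushout.of_iso (asIso (gc M A Q.cA)) (asIso (gc M B Q.cB)) (asIso (gc M A' Q.cA')) (asIso (gc M D Q.d))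
    (gMap_gc M Q.mβ Q.β Q.hβ) (gMap_gc M Q.mα Q.α Q.hα) (gMap_gc M Q.mp Q.p Q.hp) (gMap_gc M Q.mq Q.q Q.hq)

theorem Square.isPushout_whisker₂ :
    IsPushout (AMonS S M ◁ AMonS S M ◁ Q.mβ) (AMonS S M ◁ AMonS S M ◁ Q.mα) (AMonS S M ◁ AMonS S M ◁ Q.mp)
      (AMonS S M ◁ AMonS S M ◁ Q.mq) := by
  refine ((Q.whisker M).isPushout_whisker M).of_iso (whiskerLeftIso _ (asIso (gc M A Q.cA)))
    (whiskerLeftIso _ (asIso (gc M B Q.cB))) (whiskerLeftIso _ (asIso (gc M A' Q.cA')))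
    (whiskerLeftIso _ (asIso (gc M D Q.d))) ?_ ?_ ?_ ?_
  all_goals simp only [whiskerLeftIso_hom, asIso_hom, ← MonoidalCategory.whiskerLeft_comp]
  · exact congrArg _ (gMap_gc M Q.mβ Q.β Q.hβ)
  · exact congrArg _ (gMap_gc M Q.mα Q.α Q.hα)
  · exact congrArg _ (gMap_gc M Q.mp Q.p Q.hp)
  · exact congrArg _ (gMap_gc M Q.mq Q.q Q.hq)

end Whisker

theorem exists_pushout_face {T : Scheme.{u}} [IsAffine T] {M : Type} [AddCommGroup M] {N F : AddSubmonoid M}
    (hF : IsFace N F) (Tb : Over T) [IsClosedImmersion Tb.hom] :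
    ∃ (P : Over T) (ν₁ : AMonS T F ⟶ P) (ν₂ : AMonS T N ⊗ Tb ⟶ P)
      (hP : IsPushout (fst (AMonS T F) Tb) (AMonS.faceMap T hF ▷ Tb) ν₁ ν₂) (aP : MonAct (AMonS T M) P),
      IsAffine P.left ∧ IsEquivariant (subAct T M F) aP ν₁ ∧
      IsEquivariant ((subAct T M N).prod (MonAct.trivial (AMonS T M) Tb)) aP ν₂ ∧
      ∀ (X : Over T) (aX : MonAct (AMonS T M) X) (f₁ : AMonS T F ⟶ X) (f₂ : AMonS T N ⊗ Tb ⟶ X)
        (w : fst (AMonS T F) Tb ≫ f₁ = (AMonS.faceMap T hF ▷ Tb) ≫ f₂),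
        IsEquivariant (subAct T M F) aX f₁ →
        IsEquivariant ((subAct T M N).prod (MonAct.trivial (AMonS T M) Tb)) aX f₂ →
        IsEquivariant aP aX (hP.desc f₁ f₂ w) := by
  let R : Type u := Γ(T, ⊤)
  let str : Spec (CommRingCat.of R) ⟶ T := T.isoSpec.inv
  have hcl : IsClosedImmersion (Tb.hom ≫ T.isoSpec.hom) := inferInstance
  obtain ⟨I, eb, heb⟩ := IsClosedImmersion.Spec_iff.1 hcl
  let π := Ideal.Quotient.mk I
  let tb : Spec (CommRingCat.of (R ⧸ I)) ⟶ T := Spec.map (CommRingCat.ofHom π) ≫ str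
  let eT : Over.mk tb ≅ Tb := Over.isoMk eb.symm (by
    change eb.inv ≫ Tb.hom = Spec.map _ ≫ T.isoSpec.inv
    rw [Iso.inv_comp_eq, ← Category.assoc, Iso.eq_comp_inv]
    exact heb)
  have : IsIso (toUnit (Over.mk str)) := by
    have : IsIso ((Over.forget T).map (toUnit (Over.mk str))) := by
      have e : (toUnit (Over.mk str)).left = str := (Category.comp_id _).symm.trans (Over.w (toUnit (Over.mk str)))
      change IsIso (toUnit (Over.mk str)).left
      rw [e]
      infer_instance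
    exact isIso_of_reflects_iso _ (Over.forget T)
  have : IsIso (fst (AMonS T F) (Over.mk str)) := by
    rw [show fst (AMonS T F) (Over.mk str) = (AMonS T F ◁ toUnit _) ≫ (ρ_ _).hom from
      (whiskerLeft_fst _ _).symm.trans (congrArg _ (rightUnitor_hom _).symm)]
    infer_instance
  let eF := eN F str ≪≫ asIso (fst (AMonS T F) (Over.mk str))
  let tα : gOver F (R ⧸ I) tb ⟶ gOver N (R ⧸ I) tb :=
    (eN F tb).hom ≫ (AMonS.faceMap T hF ▷ _) ≫ (eN N tb).inv
  let α : gRing N (R ⧸ I) →+* gRing F (R ⧸ I) := (Spec.preimage tα.left).hom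
  have hαt : tα.left = Spec.map (CommRingCat.ofHom α) := (Spec.map_preimage _).symm
  have hαs : Function.Surjective α := fun p => by
    let s : gOver N (R ⧸ I) tb ⟶ gOver F (R ⧸ I) tb :=
      (eN N tb).hom ≫ (AMonS.map T (AddSubmonoid.inclusion hF.le) ▷ _) ≫ (eN F tb).inv
    have hts : tα ≫ s = 𝟙 _ := by
      simp only [tα, s, Category.assoc, Iso.inv_hom_id_assoc]
      rw [← comp_whiskerRight_assoc, AMonS.faceMap_comp_map, id_whiskerRight, Category.id_comp, Iso.hom_inv_id]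
    refine ⟨(Spec.preimage s.left).hom p, ?_⟩
    have e : Spec.preimage s.left ≫ CommRingCat.ofHom α = 𝟙 _ := by
      apply Spec.map_injective
      rw [Spec.map_comp, Spec.map_preimage, ← hαt, Spec.map_id]
      exact congrArg CommaMorphism.left hts
    exact congr(($e).hom p)
  let β : gRing F R →+* gRing F (R ⧸ I) := MonoidAlgebra.mapRingHom (Multiplicative F) π
  let D : Subring (gRing F R × gRing N (R ⧸ I)) :=
    RingHom.eqLocus (β.comp (RingHom.fst _ _)) (α.comp (RingHom.snd _ _))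
  have hincl : ∀ a, α (incl N (R ⧸ I) a) = incl F (R ⧸ I) a := fun a => by
    have h := Over.w tα
    rw [hαt] at h
    change Spec.map _ ≫ Spec.map _ ≫ tb = Spec.map _ ≫ tb at h
    have : Mono tb := by
      have : IsClosedImmersion tb := by
        change IsClosedImmersion (Spec.map _ ≫ T.isoSpec.inv)
        infer_instance
      infer_instance
    rw [← Category.assoc, cancel_mono, ← Spec.map_comp] at h
    exact congr($(Spec.map_injective h).hom a)
  let k₀ : R →+* D := RingHom.codRestrict (RingHom.prod (incl F R) ((incl N (R ⧸ I)).comp π)) D fun a => by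
    change β (incl F R a) = α (incl N (R ⧸ I) (π a))
    rw [hincl]
    simp [β]
    rfl
  let d : Spec (CommRingCat.of D) ⟶ T := Spec.map (CommRingCat.ofHom k₀) ≫ str
  let Q : Square T D (gRing F R) (gRing N (R ⧸ I)) (gRing F (R ⧸ I)) :=
    { β := β
      α := α
      p := (RingHom.fst _ _).comp D.subtype
      q := (RingHom.snd _ _).comp D.subtype
      surj := hαs
      comm := RingHom.ext fun x => x.2
      fibre := fun b a' h => ⟨⟨(b, a'), h⟩, ⟨rfl, rfl⟩, fun y hy => Subtype.ext (Prod.ext hy.1 hy.2)⟩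
      d := d
      cB := Spec.map (CommRingCat.ofHom (incl F R)) ≫ str
      cA' := Spec.map (CommRingCat.ofHom (incl N (R ⧸ I))) ≫ tb
      cA := Spec.map (CommRingCat.ofHom (incl F (R ⧸ I))) ≫ tb
      mp := Over.homMk (Spec.map (CommRingCat.ofHom ((RingHom.fst _ _).comp D.subtype))) (by
        change Spec.map _ ≫ Spec.map _ ≫ str = Spec.map _ ≫ str
        rw [← Category.assoc, ← Spec.map_comp]
        rfl)
      mq := Over.homMk (Spec.map (CommRingCat.ofHom ((RingHom.snd _ _).comp D.subtype))) (by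
        change Spec.map _ ≫ Spec.map _ ≫ str = Spec.map _ ≫ Spec.map _ ≫ str
        rw [← Category.assoc, ← Category.assoc, ← Spec.map_comp, ← Spec.map_comp]
        rfl)
      mβ := redι F str I
      mα := tα
      hp := rfl
      hq := rfl
      hβ := rfl
      hα := hαt }
  let e₀ : gOver F (R ⧸ I) tb ≅ AMonS T F ⊗ Tb := eN F tb ≪≫ whiskerLeftIso _ eT
  let e₂ : gOver N (R ⧸ I) tb ≅ AMonS T N ⊗ Tb := eN N tb ≪≫ whiskerLeftIso _ eT
  have hsqf : redι F str I ≫ eF.hom = e₀.hom ≫ fst _ _ := by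
    simp only [eF, e₀, Iso.trans_hom, asIso_hom, whiskerLeftIso_hom, Category.assoc, whiskerLeft_fst]
    rw [← Category.assoc (redι F str I), show redι F str I ≫ (eN F str).hom =
      (eN F tb).hom ≫ (AMonS T F ◁ jT str I) from redι_gc F str I, Category.assoc, whiskerLeft_fst]
  have hsqg : tα ≫ e₂.hom = e₀.hom ≫ (AMonS.faceMap T hF ▷ Tb) := by
    simp only [tα, e₂, e₀, Iso.trans_hom, whiskerLeftIso_hom, Category.assoc, Iso.inv_hom_id_assoc,
      whisker_exchange]
  let ν₁ := eF.inv ≫ Q.mp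
  let ν₂ := e₂.inv ≫ Q.mq
  have hP : IsPushout (fst (AMonS T F) Tb) (AMonS.faceMap T hF ▷ Tb) ν₁ ν₂ :=
    Q.isPushout.of_iso e₀ eF e₂ (Iso.refl _) hsqf hsqg (by simp [ν₁]) (by simp [ν₂])
  have hG : IsPushout (AMonS T M ◁ fst (AMonS T F) Tb) (AMonS T M ◁ (AMonS.faceMap T hF ▷ Tb)) (AMonS T M ◁ ν₁)
      (AMonS T M ◁ ν₂) := by
    refine (Q.isPushout_whisker M).of_iso (whiskerLeftIso _ e₀) (whiskerLeftIso _ eF) (whiskerLeftIso _ e₂)
      (Iso.refl _) ?_ ?_ ?_ ?_
    all_goals simp only [whiskerLeftIso_hom, Iso.refl_hom, Category.comp_id, ← MonoidalCategory.whiskerLeft_comp]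
    · exact congrArg _ hsqf
    · exact congrArg _ hsqg
    · simp [ν₁]
    · simp [ν₂]
  have hGG : IsPushout (AMonS T M ◁ AMonS T M ◁ fst (AMonS T F) Tb)
      (AMonS T M ◁ AMonS T M ◁ (AMonS.faceMap T hF ▷ Tb)) (AMonS T M ◁ AMonS T M ◁ ν₁)
      (AMonS T M ◁ AMonS T M ◁ ν₂) := by
    refine (Q.isPushout_whisker₂ M).of_iso (whiskerLeftIso _ (whiskerLeftIso _ e₀)) (whiskerLeftIso _ (whiskerLeftIso _ eF))
      (whiskerLeftIso _ (whiskerLeftIso _ e₂)) (Iso.refl _) ?_ ?_ ?_ ?_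
    all_goals simp only [whiskerLeftIso_hom, Iso.refl_hom, Category.comp_id, ← MonoidalCategory.whiskerLeft_comp]
    · exact congrArg _ (congrArg _ hsqf)
    · exact congrArg _ (congrArg _ hsqg)
    · simp [ν₁]
    · simp [ν₂]
  have hf : IsEquivariant ((subAct T M F).prod (MonAct.trivial (AMonS T M) Tb)) (subAct T M F) (fst (AMonS T F) Tb) := by
    rw [isEquivariant_iff]
    intro W g x
    rw [← lift_comp_fst_snd x, lift_prod_act_assoc, lift_fst, lift_fst]
  have hg : IsEquivariant ((subAct T M F).prod (MonAct.trivial (AMonS T M) Tb))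
      ((subAct T M N).prod (MonAct.trivial (AMonS T M) Tb)) (AMonS.faceMap T hF ▷ Tb) := by
    rw [isEquivariant_iff]
    intro W g x
    rw [← lift_comp_fst_snd x, lift_prod_act_assoc, lift_whiskerRight, lift_whiskerRight, lift_prod_act,
      Category.assoc, (isEquivariant_iff _ _ _).1 (isEquivariant_faceMapS T hF)]
  obtain ⟨aP, h1, h2, h3⟩ := exists_act_pushout hP hG hGG _ _ _ hf hg
  exact ⟨_, ν₁, ν₂, hP, aP, inferInstanceAs (IsAffine (Spec (CommRingCat.of D))), h1, h2, h3⟩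

end Groth.Agent.MagnetLib.Avg
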