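import Groth.Agent.MagnetLib.Points
import Groth.Agent.GrpdLib.GrpOver

/-!
# `A(M)_S → A(N)_S` for `ℤ[M]` free over `ℤ[N]` is an fpqc covering
-/

set_option autoImplicit false
set_option backward.isDefEq.respectTransparency false

universe u

noncomputable section

open CategoryTheory CategoryTheory.Limits MonoidalCategory CartesianMonoidalCategory MonObj AlgebraicGeometry Opposite

namespace Groth.Agent.MagnetLib

open Magnet Magnet.MonAct

variable {S : Scheme.{u}} {M N : Type} [AddCommMonoid M] [AddCommMonoid N]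

/-- `M` is free as an `N`-set through `g`. -/
def IsFreeOver (g : N →+ M) : Prop :=
  ∃ (C : Type) (_ : Nonempty C) (s : C → M), Function.Bijective fun p : C × N => s p.1 + g p.2

theorem faithfullyFlat_algMap {g : N →+ M} (hg : IsFreeOver g) :
    (algMap.{u} g).toRingHom.FaithfullyFlat := by
  obtain ⟨C, hC, s, hs⟩ := hg
  letI := (algMap.{u} g).toRingHom.toAlgebra
  let Φ : (C →₀ zAlg.{u} N) →ₗ[zAlg.{u} N] zAlg.{u} M :=
    Finsupp.linearCombination (zAlg.{u} N) fun c => MonoidAlgebra.single (Multiplicative.ofAdd (s c)) 1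
  let e : C × Multiplicative N ≃ Multiplicative M :=
    ((Equiv.refl C).prodCongr Multiplicative.toAdd).trans
      ((Equiv.ofBijective _ hs).trans Multiplicative.ofAdd)
  let Ψ : (C →₀ zAlg.{u} N) ≃+ zAlg.{u} M :=
    ((Finsupp.mapRange.linearEquiv (MonoidAlgebra.coeffLinearEquiv (ULift.{u} ℤ))).trans
      ((Finsupp.curryLinearEquiv (ULift.{u} ℤ)).symm.trans
        ((Finsupp.domLCongr e).trans (MonoidAlgebra.coeffLinearEquiv (ULift.{u} ℤ)).symm))).toAddEquiv
  have hΦ : Φ.toAddMonoidHom = Ψ.toAddMonoidHom := by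
    refine Finsupp.addHom_ext fun c p => ?_
    induction p using MonoidAlgebra.induction_linear with
    | zero => simp
    | add p q hp hq => rw [Finsupp.single_add, map_add, map_add, hp, hq]
    | single n r =>
      change Φ (Finsupp.single c (MonoidAlgebra.single n r)) = Ψ (Finsupp.single c (MonoidAlgebra.single n r))
      rw [Finsupp.linearCombination_single, Algebra.smul_def, RingHom.algebraMap_toAlgebra]
      change algMap.{u} g (MonoidAlgebra.single n r) * MonoidAlgebra.single (Multiplicative.ofAdd (s c)) 1 = _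
      rw [show algMap.{u} g (MonoidAlgebra.single n r) =
        MonoidAlgebra.single (AddMonoidHom.toMultiplicative g n) r from MonoidAlgebra.mapDomain_single]
      simp [Ψ, e, MonoidAlgebra.single_mul_single]
      rw [mul_comm]
  have hbij : Function.Bijective Φ := by
    have : (Φ : (C →₀ zAlg.{u} N) → zAlg.{u} M) = Ψ := congrArg (fun f : _ →+ _ => (f : _ → _)) hΦ
    rw [this]
    exact Ψ.bijective
  have : Module.Free (zAlg.{u} N) (zAlg.{u} M) := Module.Free.of_equiv (LinearEquiv.ofBijective Φ hbij)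
  have : Nontrivial (zAlg.{u} M) := inferInstance
  exact (inferInstance : Module.FaithfullyFlat (zAlg.{u} N) (zAlg.{u} M))

theorem flat_surjective_amon {g : N →+ M} (hg : IsFreeOver g) :
    Flat (AMon.map (ULift.{u} ℤ) g).left ∧ Surjective (AMon.map (ULift.{u} ℤ) g).left :=
  (AlgebraicGeometry.flat_and_surjective_SpecMap_iff
    (CommRingCat.ofHom (algMap.{u} g).toRingHom)).2 (faithfullyFlat_algMap hg)

theorem isPullback_map_left (g : N →+ M) (T : Scheme.{u}) :
    IsPullback (AMonS.map T g).left (pullback.fst (AMon (ULift.{u} ℤ) M).hom (toZ T))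
      (pullback.fst (AMon (ULift.{u} ℤ) N).hom (toZ T)) (AMon.map (ULift.{u} ℤ) g).left := by
  refine (IsPullback.of_bot (t := IsPullback.of_hasPullback (AMon (ULift.{u} ℤ) N).hom (toZ T))
    (p := (map_left_fst T g).symm) ?_).flip
  rw [map_left_snd, Over.w]
  exact IsPullback.of_hasPullback _ _

theorem flat_surjective_whisker {g : N →+ M} (hg : IsFreeOver g) (T : Over S) :
    Flat (AMonS.map S g ▷ T).left ∧ Surjective (AMonS.map S g ▷ T).left ∧
      QuasiCompact (AMonS.map S g ▷ T).left := by
  obtain ⟨h₁, h₂⟩ := flat_surjective_amon.{u} hg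
  have h₃ : QuasiCompact (AMon.map (ULift.{u} ℤ) g).left :=
    inferInstanceAs (QuasiCompact (Spec.map (CommRingCat.ofHom (algMap.{u} g).toRingHom)))
  have e := (Iso.eq_comp_inv (tensorLeftIso N T)).2 (tensorLeftIso_map g T)
  have hp := isPullback_map_left g T.left
  have k₁ : Flat (AMonS.map T.left g).left := MorphismProperty.of_isPullback hp.flip h₁
  have k₂ : Surjective (AMonS.map T.left g).left := MorphismProperty.of_isPullback hp.flip h₂
  have k₃ : QuasiCompact (AMonS.map T.left g).left := MorphismProperty.of_isPullback hp.flip h₃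
  rw [e]
  exact ⟨inferInstance, inferInstance, inferInstance⟩

theorem effectiveEpi_whisker {g : N →+ M} (hg : IsFreeOver g) (T : Over S) :
    EffectiveEpi (AMonS.map S g ▷ T).left := by
  obtain ⟨_, _, _⟩ := flat_surjective_whisker (S := S) hg T
  infer_instance

/-- Morphisms descend along `A(M) × T → A(N) × T`. -/
theorem exists_desc_amon {g : N →+ M} (hg : IsFreeOver g) {T X : Over S} (φ : AMonS S M ⊗ T ⟶ X)
    (h : ∀ (W : Over S) (p p' : W ⟶ AMonS S M) (t : W ⟶ T), (∀ n, mFn p (g n) = mFn p' (g n)) →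
      CartesianMonoidalCategory.lift p t ≫ φ = CartesianMonoidalCategory.lift p' t ≫ φ) :
    ∃ l : AMonS S N ⊗ T ⟶ X, (AMonS.map S g ▷ T) ≫ l = φ := by
  have := effectiveEpi_whisker (S := S) hg T
  obtain ⟨l, hl, -⟩ := GrpdLib.GrpOver.existsUnique_desc (AMonS.map S g ▷ T) φ fun W a b e => by
    rw [← lift_comp_fst_snd a, ← lift_comp_fst_snd b, lift_whiskerRight, lift_whiskerRight] at e
    have e₁ := congrArg (· ≫ fst _ _) e
    have e₂ := congrArg (· ≫ snd _ _) e
    simp only [lift_fst, lift_snd] at e₁ e₂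
    rw [← lift_comp_fst_snd a, ← lift_comp_fst_snd b, ← e₂]
    exact h W _ _ _ fun n => by rw [← mFn_map, ← mFn_map, e₁]
  exact ⟨l, hl⟩

theorem hom_ext_quot {g : N →+ M} (hg : IsFreeOver g) {T X : Over S} {u v : AMonS S N ⊗ T ⟶ X}
    (h : (AMonS.map S g ▷ T) ≫ u = (AMonS.map S g ▷ T) ≫ v) : u = v :=
  have := effectiveEpi_whisker (S := S) hg T
  GrpdLib.GrpOver.cancel_left _ h

end Groth.Agent.MagnetLib
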