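import Groth.Agent.MagnetLib.Rep

/-!
# Equivariant maps out of an affine monoid with dense units, over a field
-/

set_option autoImplicit false
set_option backward.isDefEq.respectTransparency false

universe u

noncomputable section

open CategoryTheory CategoryTheory.Limits MonoidalCategory CartesianMonoidalCategory MonObj AlgebraicGeometry Opposite
open scoped TensorProduct

namespace Groth.Agent.MagnetLib

open Magnet Magnet.MonAct

variable {k : Type u} [Field k]

section Coord

variable (M : Over (Spec (CommRingCat.of k))) [IsAffine M.left]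

/-- Global functions, as an algebra over the base field. -/
@[reducible] def gammaAlg : Algebra k Γ(M.left, ⊤) := (Spec.preimage (M.left.isoSpec.inv ≫ M.hom)).hom.toAlgebra

theorem gammaAlg_spec :
    letI := gammaAlg M
    Spec.map (CommRingCat.ofHom (algebraMap k Γ(M.left, ⊤))) = M.left.isoSpec.inv ≫ M.hom :=
  Spec.map_preimage _

/-- An affine scheme is `Spec` of its functions. -/
def boIso :
    letI := gammaAlg M
    Extend.Bo (𝟙 (Spec (CommRingCat.of k))) Γ(M.left, ⊤) ≅ M :=
  letI := gammaAlg M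
  Over.isoMk (asIso (pullback.fst (Spec.map (CommRingCat.ofHom (algebraMap k Γ(M.left, ⊤))))
      (𝟙 (Spec (CommRingCat.of k)))) ≪≫ M.left.isoSpec.symm) (by
    change (pullback.fst _ _ ≫ M.left.isoSpec.inv) ≫ M.hom = pullback.snd _ _
    rw [Category.assoc, ← gammaAlg_spec, pullback.condition, Category.comp_id])

end Coord

theorem exists_leftInverse {P P' : Type u} [CommRing P] [Algebra k P] [CommRing P'] [Algebra k P'] (α : P →ₐ[k] P')
    [IsSchemeTheoreticallyDominant (Spec.map (CommRingCat.ofHom α.toRingHom))] :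
    ∃ r : P' →ₗ[k] P, ∀ a, r (α a) = a := by
  let c : CommRingCat.of P ⟶ CommRingCat.of P' := CommRingCat.ofHom α.toRingHom
  have hinj : Function.Injective α.toLinearMap := fun x y hxy => by
    apply (Scheme.ΓSpecIso (CommRingCat.of P)).commRingCatIsoToRingEquiv.symm.injective
    refine (Spec.map c).app_injective ⊤ ?_
    have h := fun z => congr($(Scheme.ΓSpecIso_naturality c) z)
    apply (Scheme.ΓSpecIso (CommRingCat.of P')).commRingCatIsoToRingEquiv.injective
    refine ((h _).trans ?_).trans (h _).symm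
    simp only [CommRingCat.hom_comp, RingHom.comp_apply]
    exact (congrArg c.hom ((Scheme.ΓSpecIso _).commRingCatIsoToRingEquiv.apply_symm_apply x)).trans
      (Eq.trans hxy (congrArg c.hom ((Scheme.ΓSpecIso _).commRingCatIsoToRingEquiv.apply_symm_apply y)).symm)
  obtain ⟨r, hr⟩ := α.toLinearMap.exists_leftInverse_of_injective (LinearMap.ker_eq_bot.2 hinj)
  exact ⟨r, fun a => LinearMap.congr_fun hr a⟩

theorem exists_eqvHom_representableBy {M G X : Over (Spec (CommRingCat.of k))} [MonObj M] [GrpObj G] [IsAffine M.left]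
    [IsAffine G.left] [IsAffine X.left] (i : G ⟶ M) [IsMonHom i] [IsSchemeTheoreticallyDominant i.left]
    (a : MonAct G X) :
    ∃ (Z : Over (Spec (CommRingCat.of k))) (j : Z ⟶ X)
      (e : (eqvHom ((regular M).restrict i) a).RepresentableBy Z), IsClosedImmersion j.left ∧
      ∀ (T : Over (Spec (CommRingCat.of k))) (z : T ⟶ Z),
        (eqvHom.evalAt ((regular M).restrict i) a η[M]).app (op T) (e.homEquiv z) = z ≫ j := by
  letI := gammaAlg M
  letI := gammaAlg G
  let ψ := Spec.preimage (G.left.isoSpec.inv ≫ i.left ≫ M.left.isoSpec.hom)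
  have hψ : Spec.map ψ = G.left.isoSpec.inv ≫ i.left ≫ M.left.isoSpec.hom := Spec.map_preimage _
  have hc : CommRingCat.ofHom (algebraMap k Γ(M.left, ⊤)) ≫ ψ = CommRingCat.ofHom (algebraMap k Γ(G.left, ⊤)) := by
    apply Spec.map_injective
    rw [Spec.map_comp, gammaAlg_spec M, gammaAlg_spec G, hψ]
    simp [Over.w]
  let α : Γ(M.left, ⊤) →ₐ[k] Γ(G.left, ⊤) := { ψ.hom with commutes' := fun x => congr(($hc).hom x) }
  have : IsSchemeTheoreticallyDominant (Spec.map ψ) := by rw [hψ]; infer_instance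
  obtain ⟨r, hr⟩ := exists_leftInverse α
  let eM := boIso M
  let eG := boIso G
  let m : Extend.Bo (𝟙 (Spec (CommRingCat.of k))) Γ(G.left, ⊤) ⟶
      Extend.Bo (𝟙 (Spec (CommRingCat.of k))) Γ(M.left, ⊤) := eG.hom ≫ i ≫ eM.inv
  let o : Extend.Bo (𝟙 (Spec (CommRingCat.of k))) Γ(G.left, ⊤) ⊗ X ⟶ X := (eG.hom ▷ X) ≫ a.act
  have hm : m.left ≫ pullback.fst _ _ = pullback.fst _ _ ≫ Spec.map (CommRingCat.ofHom α.toRingHom) := by
    have h : eM.inv.left ≫ pullback.fst _ _ = M.left.isoSpec.hom := by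
      rw [← cancel_mono M.left.isoSpec.inv, Category.assoc, Iso.hom_inv_id]
      exact congrArg CommaMorphism.left eM.inv_hom_id
    change (eG.hom.left ≫ i.left ≫ eM.inv.left) ≫ _ = _
    rw [Category.assoc, Category.assoc, h]
    change (pullback.fst _ _ ≫ G.left.isoSpec.inv) ≫ i.left ≫ M.left.isoSpec.hom = pullback.fst _ _ ≫ Spec.map ψ
    rw [Category.assoc, hψ]
  have hextM : ∀ (T : Over (Spec (CommRingCat.of k))) (u v : M ⊗ T ⟶ X), (i ▷ T) ≫ u = (i ▷ T) ≫ v → u = v := by
    intro T u v h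
    have := isSchemeTheoreticallyDominant_whisker i T
    exact Over.OverMorphism.ext (GrpScheme.Ext.ext_of_schematicallyDominant (i ▷ T).left X.hom
      ((Over.w u).trans (Over.w v).symm) (congrArg CommaMorphism.left h))
  have hext : ∀ (T : Over (Spec (CommRingCat.of k)))
      (u v : Extend.Bo (𝟙 (Spec (CommRingCat.of k))) Γ(M.left, ⊤) ⊗ T ⟶ X),
      (m ▷ T) ≫ u = (m ▷ T) ≫ v → u = v := fun T u v h => by
    rw [← cancel_epi (eM.inv ▷ T)]
    refine hextM T _ _ ?_
    simp only [m, MonoidalCategory.comp_whiskerRight, Category.assoc] at h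
    exact (cancel_epi (eG.hom ▷ T)).1 h
  obtain ⟨Z, j, hj, hZ⟩ := Extend.exists_closed m o hext α r hr hm
  have := mono_of_closedImmersion j
  have hZ' : ∀ (T : Over (Spec (CommRingCat.of k))) (x : T ⟶ X),
      (∃ l : M ⊗ T ⟶ X, (i ▷ T) ≫ l = (G ◁ x) ≫ a.act) ↔ ∃ z : T ⟶ Z, z ≫ j = x := fun T x => by
    rw [← hZ]
    constructor
    · rintro ⟨l, hl⟩
      refine ⟨(eM.hom ▷ T) ≫ l, ?_⟩
      simp only [m, o, MonoidalCategory.comp_whiskerRight, Category.assoc]
      rw [← MonoidalCategory.comp_whiskerRight_assoc eM.inv, Iso.inv_hom_id, MonoidalCategory.id_whiskerRight,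
        Category.id_comp, hl, whisker_exchange_assoc]
    · rintro ⟨l, hl⟩
      refine ⟨(eM.inv ▷ T) ≫ l, (cancel_epi (eG.hom ▷ T)).1 ?_⟩
      simp only [m, o, MonoidalCategory.comp_whiskerRight, Category.assoc] at hl
      rw [hl, whisker_exchange_assoc]
  obtain ⟨e, he⟩ := exists_representableBy i a hextM j hZ'
  exact ⟨Z, j, e, hj, he⟩

end Groth.Agent.MagnetLib
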