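import Groth.Agent.MagnetLib.RepGlue
import Groth.Agent.MagnetLib.OpenSub
import Groth.Agent.MagnetLib.Sheaf
import Groth.Agent.MagnetLib.RepField
import Mathlib.CategoryTheory.Sites.SubcanonicalOver

/-!
# Representability of the functor of equivariant families from a cover by stable affine opens
-/

set_option autoImplicit false

universe u

open CategoryTheory CategoryTheory.Limits MonoidalCategory CartesianMonoidalCategory MonObj AlgebraicGeometry Opposite

noncomputable section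

namespace Groth.Agent.MagnetLib

open Magnet Magnet.MonAct

/-- The action on an open stable subscheme. -/
theorem exists_act_open {S : Scheme.{u}} {G X : Over S} [MonObj G] (a : MonAct G X) (U : X.left.Opens)
    (hU : (snd G X).left ⁻¹ᵁ U ≤ a.act.left ⁻¹ᵁ U) :
    ∃ b : MonAct G (Over.mk (U.ι ≫ X.hom)), IsEquivariant b a (Over.homMk U.ι rfl) := by
  let j : Over.mk (U.ι ≫ X.hom) ⟶ X := Over.homMk U.ι rfl
  have hmono : Mono j := (Over.forget _).mono_of_mono_map (inferInstanceAs (Mono U.ι))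
  have hr : Set.range ((G ◁ j) ≫ a.act).left ⊆ Set.range U.ι := by
    rintro _ ⟨p, rfl⟩
    rw [Scheme.Opens.range_ι]
    refine hU (show (snd G X).left ((G ◁ j).left p) ∈ U from ?_)
    rw [← Scheme.Hom.comp_apply, ← Over.comp_left, whiskerLeft_snd, Over.comp_left, Scheme.Hom.comp_apply]
    exact (Scheme.Opens.range_ι U).le ⟨_, rfl⟩
  let act : G ⊗ Over.mk (U.ι ≫ X.hom) ⟶ Over.mk (U.ι ≫ X.hom) :=
    Over.homMk (IsOpenImmersion.lift U.ι _ hr) (by
      change _ ≫ U.ι ≫ X.hom = _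
      rw [IsOpenImmersion.lift_fac_assoc, Over.w])
  have hact : act ≫ j = (G ◁ j) ≫ a.act := Over.OverMorphism.ext (IsOpenImmersion.lift_fac _ _ _)
  have e : ∀ (T : Over S) (g : T ⟶ G) (x : T ⟶ Over.mk (U.ι ≫ X.hom)),
      (CartesianMonoidalCategory.lift g x ≫ act) ≫ j = CartesianMonoidalCategory.lift g (x ≫ j) ≫ a.act := fun T g x => by
    rw [Category.assoc, hact, lift_whiskerLeft_assoc]
  refine ⟨MonAct.mk' act (fun T x => (cancel_mono j).1 ?_) (fun T g h x => (cancel_mono j).1 ?_), hact⟩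
  · rw [e, a.lift_one_act]
  · rw [e, e, a.lift_mul_act, e]

theorem exists_representableBy_of_fixed_covered {k : Type u} [Field k]
    {M G X : Over (Spec (CommRingCat.of k))} [MonObj M] [GrpObj G] [IsAffine M.left] [IsAffine G.left]
    (i : G ⟶ M) [IsMonHom i] [IsSchemeTheoreticallyDominant i.left]
    (o : 𝟙_ (Over (Spec (CommRingCat.of k))) ⟶ M)
    (ho : ∀ (T : Over (Spec (CommRingCat.of k))) (m : T ⟶ M), m * (toUnit T ≫ o) = toUnit T ≫ o)
    (hM : ∀ (T : Over (Spec (CommRingCat.of k))) (K : Type u) [Field K] (eT : T.left ≅ Spec (CommRingCat.of K))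
      (W : (M ⊗ T).left.Opens),
      (CartesianMonoidalCategory.snd G (M ⊗ T)).left ⁻¹ᵁ W ≤
          ((((regular M).restrict i).prod (trivial G T)).act).left ⁻¹ᵁ W →
      (CartesianMonoidalCategory.lift (toUnit T ≫ o) (𝟙 T)).left ⁻¹ᵁ W = ⊤ → W = ⊤)
    (a : MonAct G X)
    (hcov : ∀ (T : Over (Spec (CommRingCat.of k))) (x : (fixedPsh a).obj (op T)),
      ⨆ (U : X.left.Opens) (_ : IsAffineOpen U ∧ (CartesianMonoidalCategory.snd G X).left ⁻¹ᵁ U ≤ a.act.left ⁻¹ᵁ U),
        x.1.left ⁻¹ᵁ U = ⊤) :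
    ∃ Z : Over (Spec (CommRingCat.of k)),
      Nonempty ((eqvHom ((regular M).restrict i) a).RepresentableBy Z) := by
  let I := {U : X.left.Opens // IsAffineOpen U ∧ (snd G X).left ⁻¹ᵁ U ≤ a.act.left ⁻¹ᵁ U}
  choose b hb using fun U : I => exists_act_open a U.1 U.2.2
  have key : ∀ U : I, ∃ (Z : Over (Spec (CommRingCat.of k))),
      Nonempty ((eqvHom ((regular M).restrict i) (b U)).RepresentableBy Z) := fun U => by
    have : IsAffine (Over.mk (U.1.ι ≫ X.hom)).left := U.2.1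
    obtain ⟨Z, _, e, _⟩ := exists_eqvHom_representableBy i (b U)
    exact ⟨Z, ⟨e⟩⟩
  choose H he using key
  let e := fun U => (he U).some
  let ρ := (regular M).restrict i
  let z : ∀ U, (eqvHom ρ a).obj (op (H U)) := fun U =>
    (eqvHom.postcomp ρ _ (hb U)).app _ ((e U).homEquiv (𝟙 (H U)))
  have hnat : ∀ U {T : Over (Spec (CommRingCat.of k))} (c : T ⟶ H U),
      ((eqvHom ρ a).map c.op (z U)).1 = ((e U).homEquiv c).1 ≫ Over.homMk U.1.ι rfl := fun U T c => by
    rw [show ((e U).homEquiv c) = (eqvHom ρ (b U)).map c.op ((e U).homEquiv (𝟙 _)) by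
      rw [← (e U).homEquiv_comp, Category.comp_id]]
    exact (Category.assoc _ _ _).symm
  have hsheaf := isSheaf_eqvHom (J := Scheme.zariskiTopology.over (Spec (CommRingCat.of k)))
    (fun Z => GrothendieckTopology.Subcanonical.isSheaf_of_isRepresentable _) ρ a
  have hin : ∀ (U : I) (T' : Over (Spec (CommRingCat.of k))) (v : (eqvHom ρ a).obj (op T')),
      Set.range (CartesianMonoidalCategory.lift (toUnit T' ≫ o) (𝟙 T') ≫ v.1).left ⊆ (U.1 : Set X.left) →
      ∃ d : T' ⟶ H U, (eqvHom ρ a).map d.op (z U) = v := by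
    intro U T' v hv
    let j : Over.mk (U.1.ι ≫ X.hom) ⟶ X := Over.homMk U.1.ι rfl
    have : IsOpenImmersion j.left := inferInstanceAs (IsOpenImmersion U.1.ι)
    have : Mono j := (Over.forget _).mono_of_mono_map (inferInstanceAs (Mono U.1.ι))
    have hr := hv.trans (Scheme.Opens.range_ι U.1).ge
    let u : T' ⟶ Over.mk (U.1.ι ≫ X.hom) := Over.homMk (IsOpenImmersion.lift U.1.ι _ hr) (by
      change _ ≫ U.1.ι ≫ X.hom = _
      rw [IsOpenImmersion.lift_fac_assoc, Over.w])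
    obtain ⟨l, hl⟩ := exists_lift_open i o hM a (b U) j (hb U) v.1 v.2 u
      (Over.OverMorphism.ext (IsOpenImmersion.lift_fac _ _ _))
    have hlmem : IsEquivariant (ρ.prod (trivial G T')) (b U) l := by
      have he := v.2
      have hj : IsEquivariant (b U) a j := hb U
      unfold IsEquivariant at he hj ⊢
      rw [← cancel_mono j, Category.assoc, hl, he, Category.assoc, hj, ← MonoidalCategory.whiskerLeft_comp_assoc, hl]
    let l' : (eqvHom ρ (b U)).obj (op T') := ⟨l, hlmem⟩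
    refine ⟨(e U).homEquiv.symm l', Subtype.ext ((hnat U _).trans ?_)⟩
    exact (congrArg (fun f : (eqvHom ρ (b U)).obj (op T') => f.1 ≫ j) ((e U).homEquiv.apply_symm_apply l')).trans hl
  refine RepGlue.representable_of_openCover _ hsheaf H z (fun U T c c' h => ?_) (fun U T w => ?_) (fun T w t => ?_)
  · have : Mono (Over.homMk U.1.ι rfl : Over.mk (U.1.ι ≫ X.hom) ⟶ X) :=
      (Over.forget _).mono_of_mono_map (inferInstanceAs (Mono U.1.ι))
    refine (e U).homEquiv.injective (Subtype.ext ((cancel_mono (Over.homMk U.1.ι rfl : Over.mk (U.1.ι ≫ X.hom) ⟶ X)).1 ?_))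
    rw [← hnat, ← hnat, h]
  · refine ⟨(CartesianMonoidalCategory.lift (toUnit T ≫ o) (𝟙 T) ≫ w.1).left ⁻¹ᵁ U.1, fun T' c => ?_⟩
    have hzero : CartesianMonoidalCategory.lift (toUnit T' ≫ o) (𝟙 T') ≫ ((eqvHom ρ a).map c.op w).1 =
        c ≫ CartesianMonoidalCategory.lift (toUnit T ≫ o) (𝟙 T) ≫ w.1 := by
      change CartesianMonoidalCategory.lift (toUnit T' ≫ o) (𝟙 T') ≫ (M ◁ c) ≫ w.1 = _
      rw [lift_whiskerLeft_assoc, comp_lift_assoc, comp_toUnit_assoc, Category.id_comp, Category.comp_id]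
    constructor
    · rintro ⟨d, hd⟩ _ ⟨p, rfl⟩
      change (c ≫ CartesianMonoidalCategory.lift (toUnit T ≫ o) (𝟙 T) ≫ w.1).left p ∈ U.1
      rw [← hzero, ← hd, hnat, ← Category.assoc]
      exact (Scheme.Opens.range_ι U.1).le ⟨_, rfl⟩
    · intro hc
      refine hin U T' _ ?_
      rintro _ ⟨p, rfl⟩
      rw [hzero]
      exact hc ⟨p, rfl⟩
  · let x := CartesianMonoidalCategory.lift (toUnit T ≫ o) (𝟙 T) ≫ w.1
    have hfix : ∀ (T' : Over (Spec (CommRingCat.of k))) (s : T' ⟶ T) (g : T' ⟶ G),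
        CartesianMonoidalCategory.lift g (s ≫ x) ≫ a.act = s ≫ x := fun T' s g => by
      have h := (mem_eqvHom_iff w.1).1 w.2 T' g (toUnit T' ≫ o) s
      have e1 : s ≫ x = CartesianMonoidalCategory.lift (toUnit T' ≫ o) s ≫ w.1 := by
        simp only [x, comp_lift_assoc, comp_toUnit_assoc, Category.comp_id]
      have e2 : CartesianMonoidalCategory.lift g (toUnit T' ≫ o) ≫ ρ.act = toUnit T' ≫ o := by
        rw [lift_restrict_act, lift_regular_act, ho]
      rw [e2] at h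
      rw [e1, ← h]
    have ht : t ∈ ⨆ (U : X.left.Opens) (_ : IsAffineOpen U ∧ (snd G X).left ⁻¹ᵁ U ≤ a.act.left ⁻¹ᵁ U),
        x.left ⁻¹ᵁ U := by
      have := hcov T ⟨x, hfix⟩
      change _ = (⊤ : T.left.Opens) at this
      rw [this]
      trivial
    simp only [TopologicalSpace.Opens.mem_iSup] at ht
    obtain ⟨U, hU, htU⟩ := ht
    let c : Over.mk ((x.left ⁻¹ᵁ U).ι ≫ T.hom) ⟶ T := Over.homMk (x.left ⁻¹ᵁ U).ι rfl
    refine ⟨⟨U, hU⟩, _, c, inferInstanceAs (IsOpenImmersion (x.left ⁻¹ᵁ U).ι),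
      (Scheme.Opens.range_ι _).ge htU, hin _ _ _ ?_⟩
    rintro _ ⟨p, rfl⟩
    have hzero : CartesianMonoidalCategory.lift (toUnit _ ≫ o) (𝟙 _) ≫ ((eqvHom ρ a).map c.op w).1 = c ≫ x := by
      change CartesianMonoidalCategory.lift (toUnit _ ≫ o) (𝟙 _) ≫ (M ◁ c) ≫ w.1 = _
      simp only [x, lift_whiskerLeft_assoc, comp_lift_assoc, comp_toUnit_assoc, Category.id_comp, Category.comp_id]
    rw [hzero]
    exact (Scheme.Opens.range_ι (x.left ⁻¹ᵁ U)).le ⟨p, rfl⟩

end Groth.Agent.MagnetLib
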