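import Groth.Agent.MagnetLib.Dom
import Mathlib.AlgebraicGeometry.Morphisms.ClosedImmersion

/-!
# `A(M) × T → A(N) × T` is schematically dominant; lifting along closed immersions
-/

set_option autoImplicit false
set_option backward.isDefEq.respectTransparency false

universe u

noncomputable section

open CategoryTheory CategoryTheory.Limits MonoidalCategory CartesianMonoidalCategory MonObj AlgebraicGeometry Opposite

namespace Groth.Agent.MagnetLib

open Magnet Magnet.MonAct

/-- Schematic dominance may be checked after a closed immersion through which the map factors. -/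
theorem isIso_of_factor {W X P : Scheme.{u}} (i : W ⟶ X) [IsSchemeTheoreticallyDominant i] (c : P ⟶ X)
    [IsClosedImmersion c] (l : W ⟶ P) (h : l ≫ c = i) : IsIso c :=
  IsClosedImmersion.isIso_iff_ker_eq_bot.2
    (le_bot_iff.1 ((IsSchemeTheoreticallyDominant.ker_eq_bot i).symm ▸ h ▸ Scheme.Hom.le_ker_comp l c))

/-- A map that lands in a closed subscheme on a schematically dominant piece lands in it. -/
theorem exists_lift_of_dominant {W X Y Z : Scheme.{u}} (i : W ⟶ X) [IsSchemeTheoreticallyDominant i]
    (j : Z ⟶ Y) [IsClosedImmersion j] (x : X ⟶ Y) (z : W ⟶ Z) (h : z ≫ j = i ≫ x) :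
    ∃ l : X ⟶ Z, l ≫ j = x := by
  have : IsIso (pullback.fst x j) := isIso_of_factor i (pullback.fst x j) (pullback.lift i z h.symm) (pullback.lift_fst _ _ _)
  refine ⟨inv (pullback.fst x j) ≫ pullback.snd x j, ?_⟩
  rw [Category.assoc, ← pullback.condition, IsIso.inv_hom_id_assoc]

variable {S : Scheme.{u}} {M N : Type} [AddCommMonoid M] [AddCommMonoid N]

theorem isSchemeTheoreticallyDominant_amon (f : N →+ M) (hf : Function.Injective f) (T : Over S) :
    IsSchemeTheoreticallyDominant (AMonS.map S f ▷ T).left := by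
  let m := (AMonS.map S f ▷ T).left
  let c := m.imageι
  suffices h : IsIso c from
    ⟨(Scheme.IdealSheafData.ker_subschemeι _).symm.trans ((IsClosedImmersion.isIso_iff_ker_eq_bot (f := c)).1 h)⟩
  let p := pullback.snd (AMonS S N).hom T.hom
  refine (IsZariskiLocalAtTarget.iff_of_openCover (P := MorphismProperty.isomorphisms Scheme.{u})
    (T.left.affineCover.pullback₁ p)).2 fun i => ?_
  let g := T.left.affineCover.f i
  let Ti : Over S := Over.mk (g ≫ T.hom)
  let j : Ti ⟶ T := Over.homMk g rfl
  let π₀ : pullback p g ⟶ pullback (AMonS S N).hom Ti.hom :=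
    pullback.lift (pullback.fst _ _ ≫ pullback.fst _ _) (pullback.snd _ _) (by
      change _ = _ ≫ g ≫ T.hom
      rw [Category.assoc, pullback.condition, ← Category.assoc, pullback.condition, Category.assoc])
  have hk : π₀ ≫ (AMonS S N ◁ j).left = pullback.fst p g := by
    refine pullback.hom_ext ?_ ?_
    · rw [Category.assoc, Over.whiskerLeft_left_fst, pullback.lift_fst]
    · rw [Category.assoc, Over.whiskerLeft_left_snd, pullback.lift_snd_assoc]
      exact pullback.condition.symm
  have := isSchemeTheoreticallyDominant_whiskerRight (S := S) (g ≫ T.hom) f hf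
  let k := (AMonS S N ◁ j).left
  have e : ((AMonS S M ◁ j).left ≫ m.toImage) ≫ c = (AMonS.map S f ▷ Ti).left ≫ k := by
    rw [Category.assoc, Scheme.Hom.toImage_imageι, ← Over.comp_left, ← Over.comp_left, whisker_exchange]
  obtain ⟨l, hl⟩ := exists_lift_of_dominant (AMonS.map S f ▷ Ti).left c k _ e
  change IsIso (pullback.snd c (pullback.fst p g))
  have : IsIso (pullback.snd c (pullback.fst p g)) := by
    let s : pullback p g ⟶ pullback c (pullback.fst p g) :=
      pullback.lift (π₀ ≫ l) (𝟙 _) (by rw [Category.assoc, hl, hk, Category.id_comp])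
    refine ⟨s, ?_, pullback.lift_snd _ _ _⟩
    rw [← cancel_mono (pullback.snd c (pullback.fst p g)), Category.assoc, Category.id_comp, pullback.lift_snd,
      Category.comp_id]
  exact this

variable {X Y : Over S}

/-- Lifting along a closed immersion from `A(M) × T` to `A(N) × T`. -/
theorem exists_lift_amon (f : N →+ M) (hf : Function.Injective f) (T : Over S) (j : X ⟶ Y) [IsClosedImmersion j.left]
    (y : AMonS S N ⊗ T ⟶ Y) (z : AMonS S M ⊗ T ⟶ X) (h : z ≫ j = (AMonS.map S f ▷ T) ≫ y) :
    ∃ l : AMonS S N ⊗ T ⟶ X, l ≫ j = y := by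
  have := isSchemeTheoreticallyDominant_amon (S := S) f hf T
  obtain ⟨l, hl⟩ := exists_lift_of_dominant (AMonS.map S f ▷ T).left j.left y.left z.left (congrArg CommaMorphism.left h)
  exact ⟨Over.homMk l (by rw [← Over.w j, reassoc_of% hl, Over.w y]), Over.OverMorphism.ext hl⟩

theorem mono_of_closedImmersion (j : X ⟶ Y) [IsClosedImmersion j.left] : Mono j :=
  (Over.forget S).mono_of_mono_map (show Mono j.left from inferInstance)

/-- An element of an attractor with values in a closed stable subscheme at the unit lies in it. -/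
theorem isPullback_postcomp_attrToX {M : Type} [AddCommMonoid M] (N : AddSubmonoid M) {Y Z : Over S}
    (aY : MonAct (AMonS S M) Y) (aZ : MonAct (AMonS S M) Z) (f : Z ⟶ Y) [IsClosedImmersion f.left]
    (hf : IsEquivariant aZ aY f) :
    IsPullback (eqvHom.postcomp (subAct S M N) f hf) (attrToX aZ N) (attrToX aY N) (yoneda.map f) := by
  have := mono_of_closedImmersion f
  refine IsPullback.of_forall_isPullback_app fun T => ?_
  rw [Types.isPullback_iff]
  refine ⟨?_, fun e e' h => Subtype.ext ((cancel_mono f).1 (congrArg Subtype.val h.1)), fun e z h => ?_⟩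
  · ext e
    exact (Category.assoc _ _ _).symm
  · have hz : z ≫ f = (attrToX aY N).app T e := h.symm
    have hu := eqvHom_whiskerRight (AMonS.map S N.subtype) aY T e
    have hfp := (isEquivariant_iff aZ aY f).1 hf (AMonS S M ⊗ unop T) (fst _ _) (snd _ _ ≫ z)
    have hw : (CartesianMonoidalCategory.lift (fst (AMonS S M) (unop T)) (snd (AMonS S M) (unop T) ≫ z) ≫ aZ.act) ≫ f =
        (AMonS.map S N.subtype ▷ unop T) ≫ e.1 := by
      rw [Category.assoc, hfp, Category.assoc, hz]
      exact hu.symm
    obtain ⟨l, hl⟩ := exists_lift_amon N.subtype Subtype.val_injective (unop T) f e.1 _ hw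
    refine ⟨⟨l, ?_⟩, Subtype.ext hl, ?_⟩
    · have he := e.2
      unfold IsEquivariant at he hf ⊢
      rw [← cancel_mono f, Category.assoc, hl, he, Category.assoc, hf, ← MonoidalCategory.whiskerLeft_comp_assoc, hl]
    · refine (cancel_mono f).1 ?_
      change (CartesianMonoidalCategory.lift (toUnit (unop T) ≫ η[AMonS S N]) (𝟙 _) ≫ l) ≫ f = z ≫ f
      rw [Category.assoc, hl, hz]
      rfl

end Groth.Agent.MagnetLib
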