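import Groth.Agent.MagnetLib.AvgLift
import Groth.Agent.InfLift.SmoothLift
import Groth.Prelude.Def_Magnet4
import Mathlib.AlgebraicGeometry.Morphisms.Smooth

/-!
# Lifting equivariant families along square-zero thickenings for smooth equivariant morphisms
-/

set_option autoImplicit false
set_option backward.isDefEq.respectTransparency false

universe u

noncomputable section

open CategoryTheory CategoryTheory.Limits MonoidalCategory CartesianMonoidalCategory MonObj AlgebraicGeometry Opposite

namespace Groth.Agent.MagnetLib.Avg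

open Magnet Magnet.MonAct

section Transport

variable {Ct : Type*} [Category Ct] [CartesianMonoidalCategory Ct] {G W W' X : Ct} [MonObj G]

/-- Transport of an action along an isomorphism. -/
def transport (e : W ≅ W') (b : MonAct G W') : MonAct G W :=
  MonAct.mk' ((G ◁ e.hom) ≫ b.act ≫ e.inv)
    (fun T x => by rw [lift_whiskerLeft_assoc, b.lift_one_act_assoc, Category.assoc, e.hom_inv_id, Category.comp_id])
    (fun T g h x => by
      rw [lift_whiskerLeft_assoc, lift_whiskerLeft_assoc, lift_whiskerLeft_assoc, b.lift_mul_act_assoc]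
      simp only [Category.assoc, e.inv_hom_id, Category.comp_id])

@[reassoc]
theorem lift_transport (e : W ≅ W') (b : MonAct G W') {T : Ct} (g : T ⟶ G) (x : T ⟶ W) :
    CartesianMonoidalCategory.lift g x ≫ (transport e b).act =
      CartesianMonoidalCategory.lift g (x ≫ e.hom) ≫ b.act ≫ e.inv := by
  rw [transport, mk'_act, lift_whiskerLeft_assoc]

theorem isEquivariant_inv_comp (e : W ≅ W') (b : MonAct G W') (a : MonAct G X) (f : W ⟶ X)
    (hf : IsEquivariant (transport e b) a f) : IsEquivariant b a (e.inv ≫ f) := by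
  rw [isEquivariant_iff] at hf ⊢
  intro T g x
  have h := hf T g (x ≫ e.inv)
  simpa only [lift_transport_assoc, Category.assoc, e.inv_hom_id, Category.comp_id] using h

theorem isEquivariant_transport (e : W ≅ W') (b : MonAct G W') (a : MonAct G X) (f : W' ⟶ X)
    (hf : IsEquivariant b a f) : IsEquivariant (transport e b) a (e.hom ≫ f) := by
  rw [isEquivariant_iff] at hf ⊢
  intro T g x
  rw [lift_transport_assoc, Iso.inv_hom_id_assoc, hf T g (x ≫ e.hom), Category.assoc]

end Transport

theorem formallySmooth_charts {X Y : Scheme.{u}} (f : X ⟶ Y) [Smooth f] (U : X.Opens) (V : Y.Opens)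
    (hU : IsAffineOpen U) (hV : IsAffineOpen V) (hUV : U ≤ f ⁻¹ᵁ V) :
    letI := (f.appLE V U hUV).hom.toAlgebra
    Algebra.FormallySmooth Γ(Y, V) Γ(X, U) := by
  let _ := (f.appLE V U hUV).hom.toAlgebra
  have : Algebra.Smooth Γ(Y, V) Γ(X, U) := f.smooth_appLE hV hU hUV
  infer_instance

/-- The Chinese remainder square as a pushout of spectra. -/
theorem isPushout_quot {C : Type u} [CommRing C] (J Q : Ideal C) :
    IsPushout (Spec.map (CommRingCat.ofHom (Ideal.Quotient.factor (le_sup_right : Q ≤ J ⊔ Q))))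
      (Spec.map (CommRingCat.ofHom (Ideal.Quotient.factor (le_sup_left : J ≤ J ⊔ Q))))
      (Spec.map (CommRingCat.ofHom (Ideal.Quotient.factor (inf_le_right : J ⊓ Q ≤ Q))))
      (Spec.map (CommRingCat.ofHom (Ideal.Quotient.factor (inf_le_left : J ⊓ Q ≤ J)))) := by
  refine isPushout_of_surjective _ _ _ _ (Ideal.Quotient.factor_surjective _) ?_ fun b a h => ?_
  · exact Ideal.Quotient.ringHom_ext (RingHom.ext fun x => rfl)
  · obtain ⟨x, rfl⟩ := Ideal.Quotient.mk_surjective b
    obtain ⟨y, rfl⟩ := Ideal.Quotient.mk_surjective a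
    simp only [Ideal.Quotient.factor_mk] at h
    obtain ⟨p, hp, q, hq, hpq⟩ := Submodule.mem_sup.1 (Ideal.Quotient.eq.1 h)
    refine ⟨Ideal.Quotient.mk _ (y + p), ⟨?_, ?_⟩, fun d hd => ?_⟩
    · rw [Ideal.Quotient.factor_mk]
      exact Ideal.Quotient.eq.2 (by rw [show y + p - x = -q by linear_combination hpq]; exact neg_mem hq)
    · rw [Ideal.Quotient.factor_mk]
      exact Ideal.Quotient.eq.2 (by simpa using hp)
    · obtain ⟨d, rfl⟩ := Ideal.Quotient.mk_surjective d
      simp only [Ideal.Quotient.factor_mk] at hd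
      refine Ideal.Quotient.eq.2 ⟨?_, ?_⟩
      · have := Ideal.Quotient.eq.1 hd.2
        rw [show d - (y + p) = (d - y) - p by ring]
        exact sub_mem this hp
      · have := Ideal.Quotient.eq.1 hd.1
        rw [show d - (y + p) = (d - x) + q by linear_combination -hpq]
        exact add_mem this hq

section Family

variable {S : Scheme.{u}} {M : Type} [AddCommGroup M] (N : AddSubmonoid M) {A : Type u} [CommRing A]
  (str : Spec (CommRingCat.of A) ⟶ S) (I : Ideal A)

/-- The thickened family. -/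
def eN : gOver N A str ≅ AMonS S N ⊗ Over.mk str := asIso (gc N A str)

/-- The action on the coordinates. -/
def wN : MonAct (AMonS S M) (gOver N A str) :=
  transport (eN N str) ((subAct S M N).prod (MonAct.trivial (AMonS S M) (Over.mk str)))

/-- The thickening of the base. -/
abbrev jT : Over.mk (Spec.map (CommRingCat.ofHom (Ideal.Quotient.mk I)) ≫ str) ⟶ Over.mk str :=
  Over.homMk (Spec.map (CommRingCat.ofHom (Ideal.Quotient.mk I))) rfl

theorem map_eq_map_incl (z : gRing N A) (hz : MonoidAlgebra.mapRingHom (Multiplicative N) (Ideal.Quotient.mk I) z = 0) :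
    z ∈ I.map (incl N A) := by
  rw [← MonoidAlgebra.sum_coeff_single z]
  refine sum_mem fun m _ => ?_
  rw [show MonoidAlgebra.single m (z.coeff m) = incl N A (z.coeff m) * MonoidAlgebra.single m 1 by
    simp [MonoidAlgebra.single_mul_single]]
  refine Ideal.mul_mem_right _ _ (Ideal.mem_map_of_mem _ ?_)
  rw [← Ideal.Quotient.eq_zero_iff_mem]
  have := congrArg (fun p : gRing N (A ⧸ I) => p.coeff m) hz
  simpa using this

/-- `C/IC = (A/I)[N]`. -/
def quotEquiv : (gRing N A ⧸ I.map (incl N A)) ≃+* gRing N (A ⧸ I) :=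
  RingEquiv.ofBijective
    (Ideal.Quotient.lift _ (MonoidAlgebra.mapRingHom (Multiplicative N) (Ideal.Quotient.mk I)) fun z hz => by
      have h : I.map (incl N A) ≤ RingHom.ker (MonoidAlgebra.mapRingHom (Multiplicative N) (Ideal.Quotient.mk I)) :=
        Ideal.map_le_iff_le_comap.2 fun x hx => by
          simp [Ideal.Quotient.eq_zero_iff_mem.2 hx]
      exact h hz)
    ⟨(injective_iff_map_eq_zero _).2 fun z hz => by
      obtain ⟨z, rfl⟩ := Ideal.Quotient.mk_surjective z
      exact Ideal.Quotient.eq_zero_iff_mem.2 (map_eq_map_incl N I z hz),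
    fun p => by
      induction p using MonoidAlgebra.induction_linear with
      | zero => exact ⟨0, map_zero _⟩
      | add a b ha hb =>
        obtain ⟨x, rfl⟩ := ha
        obtain ⟨y, rfl⟩ := hb
        exact ⟨x + y, map_add _ _ _⟩
      | single m r =>
        obtain ⟨r, rfl⟩ := Ideal.Quotient.mk_surjective r
        exact ⟨Ideal.Quotient.mk _ (MonoidAlgebra.single m r), by simp⟩⟩

theorem quotEquiv_mk : (quotEquiv N I : (gRing N A ⧸ I.map (incl N A)) →+* _).comp (Ideal.Quotient.mk _) =
    MonoidAlgebra.mapRingHom (Multiplicative N) (Ideal.Quotient.mk I) :=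
  RingHom.ext fun _ => rfl

/-- The reduced family inside the thickened one. -/
abbrev redι : gOver N (A ⧸ I) (Spec.map (CommRingCat.ofHom (Ideal.Quotient.mk I)) ≫ str) ⟶ gOver N A str :=
  Over.homMk (Spec.map (CommRingCat.ofHom (MonoidAlgebra.mapRingHom (Multiplicative N) (Ideal.Quotient.mk I)))) (by
    change Spec.map _ ≫ Spec.map _ ≫ str = Spec.map _ ≫ Spec.map _ ≫ str
    rw [← Category.assoc, ← Category.assoc, ← Spec.map_comp, ← Spec.map_comp]
    congr 2
    exact CommRingCat.hom_ext (RingHom.ext fun a => by simp))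

theorem redι_gc :
    redι N str I ≫ gc N A str =
      gc N (A ⧸ I) (Spec.map (CommRingCat.ofHom (Ideal.Quotient.mk I)) ≫ str) ≫ (AMonS S N ◁ jT str I) := by
  refine gc_comp_ext (fun m => ?_) ?_
  · rw [Category.assoc, mFn_comp, Category.assoc, whiskerLeft_fst, mFn_gc_fst, mFn_gc_fst]
    refine (appTop_spec _ _).trans ?_
    congr 1
    simp
  · refine Over.OverMorphism.ext ?_
    rw [Category.assoc, Category.assoc, whiskerLeft_snd]
    change (redι N str I).left ≫ (gc N A str ≫ snd _ _).left =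
      (gc N (A ⧸ I) _ ≫ snd _ _).left ≫ (jT str I).left
    rw [gc_snd, gc_snd]
    change Spec.map _ ≫ Spec.map _ = Spec.map _ ≫ Spec.map _
    rw [← Spec.map_comp, ← Spec.map_comp]
    congr 1
    exact CommRingCat.hom_ext (RingHom.ext fun a => by simp)

/-- `C/IC` is the family over the reduced base. -/
def redIso : Over.mk (Spec.map (CommRingCat.ofHom (Ideal.Quotient.mk (I.map (incl N A)))) ≫
      Spec.map (CommRingCat.ofHom (incl N A)) ≫ str) ≅
    gOver N (A ⧸ I) (Spec.map (CommRingCat.ofHom (Ideal.Quotient.mk I)) ≫ str) :=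
  Over.isoMk (Scheme.Spec.mapIso ((quotEquiv N I).toCommRingCatIso).op).symm (by
    change Spec.map _ ≫ Spec.map _ ≫ Spec.map _ ≫ str = Spec.map _ ≫ Spec.map _ ≫ str
    rw [← Category.assoc, ← Category.assoc, ← Category.assoc, ← Spec.map_comp, ← Spec.map_comp, ← Spec.map_comp]
    congr 2
    refine CommRingCat.hom_ext (RingHom.ext fun a => ?_)
    change (quotEquiv N I).symm (incl N (A ⧸ I) (Ideal.Quotient.mk I a)) = _
    rw [RingEquiv.symm_apply_eq]
    simp [quotEquiv])

theorem redIso_quotι : (redIso N str I).hom ≫ redι N str I = quotι (c := Spec.map (CommRingCat.ofHom (incl N A)) ≫ str)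
    (I.map (incl N A)) := by
  refine Over.OverMorphism.ext ?_
  change Spec.map _ ≫ Spec.map _ = Spec.map _
  rw [← Spec.map_comp]
  congr 1
  refine CommRingCat.hom_ext (RingHom.ext fun a => ?_)
  change (quotEquiv N I).symm (MonoidAlgebra.mapRingHom (Multiplicative N) (Ideal.Quotient.mk I) a) = _
  rw [RingEquiv.symm_apply_eq]
  rfl

variable {X Y : Over S} (a : MonAct (AMonS S M) X) (b : MonAct (AMonS S M) Y) (f : X ⟶ Y)

/-- A lift becomes an equivariant lift. -/
theorem exists_attr_lift (hI : I ^ 2 = ⊥)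
    (x : (attr a N).obj (op (Over.mk (Spec.map (CommRingCat.ofHom (Ideal.Quotient.mk I)) ≫ str))))
    (l : gOver N A str ⟶ X)
    (hl : redι N str I ≫ l = gc N (A ⧸ I) (Spec.map (CommRingCat.ofHom (Ideal.Quotient.mk I)) ≫ str) ≫ x.1) :
    ∃ z : (attr a N).obj (op (Over.mk str)),
      (AMonS S N ◁ jT str I) ≫ z.1 = x.1 ∧
      (∀ (Y : Over S) (b : MonAct (AMonS S M) Y) (f : X ⟶ Y), IsEquivariant a b f →
        IsEquivariant (wN N str) b (l ≫ f) → z.1 ≫ f = inv (gc N A str) ≫ l ≫ f) ∧
      (∀ (C₁ : Type u) [CommRing C₁] (c₁ : Spec (CommRingCat.of C₁) ⟶ S) (t : Over.mk c₁ ⟶ gOver N A str)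
        (v : MonAct (AMonS S M) (Over.mk c₁)), IsEquivariant v (wN N str) t → IsEquivariant v a (t ≫ l) →
        t ≫ gc N A str ≫ z.1 = t ≫ l) := by
  let J := I.map (incl N A)
  have hJ : J ^ 2 = ⊥ := by rw [← Ideal.map_pow, hI, Ideal.map_bot]
  let e' := eN N (Spec.map (CommRingCat.ofHom (Ideal.Quotient.mk I)) ≫ str)
  have hequiv : ∀ (T : Over S) (g : T ⟶ AMonS S M)
      (p : T ⟶ AMonS S N ⊗ Over.mk (Spec.map (CommRingCat.ofHom (Ideal.Quotient.mk I)) ≫ str)),
      CartesianMonoidalCategory.lift g (p ≫ (AMonS S N ◁ jT str I)) ≫ ((subAct S M N).prod (MonAct.trivial _ _)).act =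
        CartesianMonoidalCategory.lift g p ≫ ((subAct S M N).prod (MonAct.trivial _ _)).act ≫ (AMonS S N ◁ jT str I) := by
    intro T g p
    rw [← lift_comp_fst_snd p, lift_whiskerLeft, lift_prod_act, lift_prod_act_assoc, lift_whiskerLeft,
      lift_trivial_act, lift_trivial_act]
  have hfac : ∀ (T : Over S) (g : T ⟶ AMonS S M)
      (p : T ⟶ Over.mk (Spec.map (CommRingCat.ofHom (Ideal.Quotient.mk J)) ≫ Spec.map (CommRingCat.ofHom (incl N A)) ≫ str)),
      ((CartesianMonoidalCategory.lift g (p ≫ (redIso N str I).hom ≫ e'.hom) ≫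
          ((subAct S M N).prod (MonAct.trivial _ _)).act ≫ e'.inv ≫ (redIso N str I).inv)) ≫ quotι J =
        CartesianMonoidalCategory.lift g (p ≫ quotι J) ≫ (wN N str).act := by
    intro T g p
    have h1 : (redIso N str I).inv ≫ quotι J = redι N str I := by rw [Iso.inv_comp_eq, redIso_quotι]
    have h2 : e'.inv ≫ redι N str I = (AMonS S N ◁ jT str I) ≫ (eN N str).inv := by
      rw [Iso.inv_comp_eq, ← Category.assoc, Iso.eq_comp_inv]
      exact redι_gc N str I
    simp only [Category.assoc, h1, h2]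
    rw [wN, lift_transport, ← Category.assoc (CartesianMonoidalCategory.lift g _) _ (AMonS S N ◁ jT str I ≫ _)]
    rw [← redIso_quotι N str I]
    simp only [Category.assoc]
    rw [show redι N str I ≫ (eN N str).hom = e'.hom ≫ (AMonS S N ◁ jT str I) from redι_gc N str I]
    have := hequiv T g (p ≫ (redIso N str I).hom ≫ e'.hom)
    simp only [Category.assoc] at this
    rw [reassoc_of% this]
  have hl' : quotι J ≫ l = (redIso N str I).hom ≫ e'.hom ≫ x.1 := by
    rw [← redIso_quotι, Category.assoc, hl]; rfl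
  obtain ⟨ℓ, hℓ, hres, hcomp, hsub⟩ := exists_equivariant_lift (wN N str) a J hJ l
    (fun T g p => ⟨_, hfac T g p⟩) (fun T g p => by
      rw [← Category.assoc, ← hfac T g p, Category.assoc, hl']
      simp only [Category.assoc, Iso.inv_hom_id_assoc]
      have := (isEquivariant_iff _ a x.1).1 x.2 T g (p ≫ (redIso N str I).hom ≫ e'.hom)
      simpa only [Category.assoc] using this)
  refine ⟨⟨(eN N str).inv ≫ ℓ, isEquivariant_inv_comp _ _ _ _ hℓ⟩, ?_, fun Y b f hf hlf => ?_,
    fun C₁ _ c₁ t v hv hvl => ?_⟩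
  · rw [← cancel_epi e'.hom, ← Category.assoc, show e'.hom ≫ (AMonS S N ◁ jT str I) = redι N str I ≫ (eN N str).hom
      from (redι_gc N str I).symm, Category.assoc, Iso.hom_inv_id_assoc]
    rw [← cancel_epi (redIso N str I).hom, ← Category.assoc (redIso N str I).hom (redι N str I), redIso_quotι, hres, hl']
  · change ((eN N str).inv ≫ ℓ) ≫ f = inv (gc N A str) ≫ l ≫ f
    rw [Category.assoc, hcomp Y b f hf hlf]
    rfl
  · change t ≫ gc N A str ≫ (eN N str).inv ≫ ℓ = t ≫ l
    rw [show gc N A str = (eN N str).hom from rfl, Iso.hom_inv_id_assoc]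
    exact hsub C₁ c₁ (Spec.preimage t.left).hom t (Spec.map_preimage _).symm v hv hvl

theorem exists_attr_lift_of_smooth [Smooth f.left] (hf : IsEquivariant a b f) (hI : I ^ 2 = ⊥)
    (x : (attr a N).obj (op (Over.mk (Spec.map (CommRingCat.ofHom (Ideal.Quotient.mk I)) ≫ str))))
    (y : (attr b N).obj (op (Over.mk str)))
    (h : x.1 ≫ f = (AMonS S N ◁ jT str I) ≫ y.1) :
    ∃ z : (attr a N).obj (op (Over.mk str)), (AMonS S N ◁ jT str I) ≫ z.1 = x.1 ∧ z.1 ≫ f = y.1 := by
  let J := I.map (incl N A)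
  have hJ : J ^ 2 = ⊥ := by rw [← Ideal.map_pow, hI, Ideal.map_bot]
  let e' := eN N (Spec.map (CommRingCat.ofHom (Ideal.Quotient.mk I)) ≫ str)
  obtain ⟨l₀, hl₀, hl₀f⟩ := InfLift.SmoothLift.exists_lift (f := f.left) (I := J)
    (a₀ := ((redIso N str I).hom ≫ e'.hom ≫ x.1).left) (b := (gc N A str ≫ y.1).left)
    (formallySmooth_charts f.left) hJ (by
      have : quotι J ≫ gc N A str ≫ y.1 = ((redIso N str I).hom ≫ e'.hom ≫ x.1) ≫ f := by
        rw [← redIso_quotι, Category.assoc, ← Category.assoc (redι N str I), redι_gc]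
        simp only [Category.assoc, h]
        rfl
      exact congrArg CommaMorphism.left this)
  let l : gOver N A str ⟶ X := Over.homMk l₀ (by
    rw [← Over.w f, ← Category.assoc, hl₀f]
    exact Over.w (gc N A str ≫ y.1))
  have hlf : l ≫ f = gc N A str ≫ y.1 := Over.OverMorphism.ext hl₀f
  have hl : redι N str I ≫ l = e'.hom ≫ x.1 := by
    rw [← cancel_epi (redIso N str I).hom, ← Category.assoc (redIso N str I).hom (redι N str I), redIso_quotι]
    exact Over.OverMorphism.ext hl₀
  obtain ⟨z, hz, hzf, -⟩ := exists_attr_lift N str I a hI x l hl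
  refine ⟨z, hz, ?_⟩
  rw [hzf Y b f hf (hlf ▸ isEquivariant_transport (eN N str) _ b y.1 y.2), hlf, IsIso.inv_hom_id_assoc]

theorem exists_attrFace_lift_of_smooth {F : AddSubmonoid M} {N : AddSubmonoid M} (hF : IsFace N F) [Smooth X.hom]
    (hI : I ^ 2 = ⊥)
    (x : (attr a N).obj (op (Over.mk (Spec.map (CommRingCat.ofHom (Ideal.Quotient.mk I)) ≫ str))))
    (y : (attr a F).obj (op (Over.mk str)))
    (h : (AMonS.faceMap S hF ▷ _) ≫ x.1 = (AMonS S F ◁ jT str I) ≫ y.1) :
    ∃ z : (attr a N).obj (op (Over.mk str)), (AMonS S N ◁ jT str I) ≫ z.1 = x.1 ∧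
      (AMonS.faceMap S hF ▷ _) ≫ z.1 = y.1 := by
  let J := I.map (incl N A)
  have hJ : J ^ 2 = ⊥ := by rw [← Ideal.map_pow, hI, Ideal.map_bot]
  let e' := eN N (Spec.map (CommRingCat.ofHom (Ideal.Quotient.mk I)) ≫ str)
  let t : gOver F A str ⟶ gOver N A str := (eN F str).hom ≫ (AMonS.faceMap S hF ▷ _) ≫ (eN N str).inv
  let s : gOver N A str ⟶ gOver F A str :=
    (eN N str).hom ≫ (AMonS.map S (AddSubmonoid.inclusion hF.le) ▷ _) ≫ (eN F str).inv
  have hts : t ≫ s = 𝟙 _ := by
    simp only [t, s, Category.assoc, Iso.inv_hom_id_assoc]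
    rw [← comp_whiskerRight_assoc, AMonS.faceMap_comp_map, id_whiskerRight, Category.id_comp, Iso.hom_inv_id]
  let φ : gRing N A →+* gRing F A := (Spec.preimage t.left).hom
  have hφt : t.left = Spec.map (CommRingCat.ofHom φ) := (Spec.map_preimage _).symm
  have hφ : Function.Surjective φ := fun p => by
    refine ⟨(Spec.preimage s.left).hom p, ?_⟩
    have e : Spec.preimage s.left ≫ CommRingCat.ofHom φ = 𝟙 _ := by
      apply Spec.map_injective
      rw [Spec.map_comp, Spec.map_preimage, ← hφt, Spec.map_id]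
      exact congrArg CommaMorphism.left hts
    exact congr(($e).hom p)
  let Q := RingHom.ker φ
  let α : gRing N A ⧸ Q ≃+* gRing F A := RingHom.quotientKerEquivOfSurjective hφ
  let cN : Spec (CommRingCat.of (gRing N A)) ⟶ S := Spec.map (CommRingCat.ofHom (incl N A)) ≫ str
  let αι : Over.mk (Spec.map (CommRingCat.ofHom (Ideal.Quotient.mk Q)) ≫ cN) ⟶ gOver F A str :=
    Over.homMk (Spec.map (CommRingCat.ofHom α.symm.toRingHom)) (by
      change Spec.map _ ≫ Spec.map _ ≫ str = _
      rw [← Category.assoc, ← Spec.map_comp]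
      have ew : Spec.map (CommRingCat.ofHom (incl F A)) ≫ str = t.left ≫ cN := (Over.w t).symm
      rw [Spec.map_comp, Category.assoc, ew, hφt, ← Category.assoc, ← Spec.map_comp]
      change _ = Spec.map _ ≫ cN
      congr 2
      refine CommRingCat.hom_ext (RingHom.ext fun z => ?_)
      exact α.symm_apply_apply (Ideal.Quotient.mk Q z))
  have hαt : αι ≫ t = quotι (c := cN) Q := by
    refine Over.OverMorphism.ext ?_
    rw [Over.comp_left, hφt]
    change Spec.map _ ≫ Spec.map _ = Spec.map _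
    rw [← Spec.map_comp]
    congr 1
    refine CommRingCat.hom_ext (RingHom.ext fun z => ?_)
    exact α.symm_apply_apply (Ideal.Quotient.mk Q z)
  let P : Over S := Over.mk (Spec.map (CommRingCat.ofHom (Ideal.Quotient.mk (J ⊔ Q))) ≫ cN)
  let pJ : P ⟶ Over.mk (Spec.map (CommRingCat.ofHom (Ideal.Quotient.mk J)) ≫ cN) :=
    Over.homMk (Spec.map (CommRingCat.ofHom (Ideal.Quotient.factor (le_sup_left : J ≤ J ⊔ Q)))) (by
      change Spec.map _ ≫ Spec.map _ ≫ cN = Spec.map _ ≫ cN
      rw [← Category.assoc, ← Spec.map_comp, ← CommRingCat.ofHom_comp, Ideal.Quotient.factor_comp_mk])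
  let pQ : P ⟶ Over.mk (Spec.map (CommRingCat.ofHom (Ideal.Quotient.mk Q)) ≫ cN) :=
    Over.homMk (Spec.map (CommRingCat.ofHom (Ideal.Quotient.factor (le_sup_right : Q ≤ J ⊔ Q)))) (by
      change Spec.map _ ≫ Spec.map _ ≫ cN = Spec.map _ ≫ cN
      rw [← Category.assoc, ← Spec.map_comp, ← CommRingCat.ofHom_comp, Ideal.Quotient.factor_comp_mk])
  let xJ := (redIso N str I).hom ≫ e'.hom ≫ x.1
  let yQ := αι ≫ (eN F str).hom ≫ y.1
  have hagree : pJ ≫ xJ = pQ ≫ yQ := by
    let z := pJ ≫ (redIso N str I).hom ≫ e'.hom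
    let fq := pQ ≫ αι ≫ (eN F str).hom
    have hp : pJ ≫ quotι J = pQ ≫ quotι Q := by
      refine Over.OverMorphism.ext ?_
      change Spec.map _ ≫ Spec.map _ = Spec.map _ ≫ Spec.map _
      rw [← Spec.map_comp, ← Spec.map_comp]
      rfl
    have hz : z ≫ (AMonS S N ◁ jT str I) = fq ≫ (AMonS.faceMap S hF ▷ _) := by
      have := congrArg (· ≫ (eN N str).hom) hp
      simp only [← hαt, t, Category.assoc, Iso.inv_hom_id, Category.comp_id] at this
      simp only [z, fq, Category.assoc]
      rw [show e'.hom ≫ (AMonS S N ◁ jT str I) = redι N str I ≫ (eN N str).hom from (redι_gc N str I).symm]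
      rw [← Category.assoc (redIso N str I).hom (redι N str I), redIso_quotι]
      exact this
    have hz1 : z ≫ fst _ _ = (fq ≫ fst _ _) ≫ AMonS.faceMap S hF := by
      have := congrArg (· ≫ fst _ _) hz
      simpa only [Category.assoc, whiskerLeft_fst, whiskerRight_fst] using this
    have hz2 : (z ≫ snd _ _) ≫ jT str I = fq ≫ snd _ _ := by
      have := congrArg (· ≫ snd _ _) hz
      simpa only [Category.assoc, whiskerLeft_snd, whiskerRight_snd] using this
    have e1 : z = CartesianMonoidalCategory.lift (fq ≫ fst _ _) (z ≫ snd _ _) ≫ (AMonS.faceMap S hF ▷ _) := by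
      rw [lift_whiskerRight, ← hz1, lift_comp_fst_snd]
    have e2 : fq = CartesianMonoidalCategory.lift (fq ≫ fst _ _) (z ≫ snd _ _) ≫ (AMonS S F ◁ jT str I) := by
      rw [lift_whiskerLeft, hz2, lift_comp_fst_snd]
    calc pJ ≫ xJ = z ≫ x.1 := by simp only [z, xJ, Category.assoc]
      _ = CartesianMonoidalCategory.lift (fq ≫ fst _ _) (z ≫ snd _ _) ≫ (AMonS.faceMap S hF ▷ _) ≫ x.1 := by
        rw [← Category.assoc, ← e1]
      _ = fq ≫ y.1 := by rw [h, ← Category.assoc, ← e2]
      _ = pQ ≫ yQ := by simp only [fq, yQ, Category.assoc]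
  have hpo := isPushout_quot J Q
  let a₀ := hpo.desc yQ.left xJ.left (congrArg CommaMorphism.left hagree).symm
  have hK : (J ⊓ Q) ^ 2 = ⊥ := le_bot_iff.1 ((Ideal.pow_right_mono inf_le_left 2).trans hJ.le)
  obtain ⟨l₀, hl₀, hl₀w⟩ := InfLift.SmoothLift.exists_lift (f := X.hom) (I := J ⊓ Q) (a₀ := a₀) (b := cN)
    (formallySmooth_charts X.hom) hK (by
      refine hpo.hom_ext ?_ ?_
      · rw [IsPushout.inl_desc_assoc, Over.w yQ, ← Category.assoc, ← Spec.map_comp, ← CommRingCat.ofHom_comp,
          Ideal.Quotient.factor_comp_mk]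
        rfl
      · rw [IsPushout.inr_desc_assoc, Over.w xJ, ← Category.assoc, ← Spec.map_comp, ← CommRingCat.ofHom_comp,
          Ideal.Quotient.factor_comp_mk]
        rfl)
  let l : gOver N A str ⟶ X := Over.homMk l₀ hl₀w
  have hlJ : quotι J ≫ l = xJ := by
    refine Over.OverMorphism.ext ?_
    change Spec.map _ ≫ l₀ = _
    conv_lhs => rw [← Ideal.Quotient.factor_comp_mk (inf_le_left : J ⊓ Q ≤ J), CommRingCat.ofHom_comp, Spec.map_comp,
      Category.assoc, hl₀, IsPushout.inr_desc]
  have hlQ : quotι (c := cN) Q ≫ l = yQ := by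
    refine Over.OverMorphism.ext ?_
    change Spec.map _ ≫ l₀ = _
    conv_lhs => rw [← Ideal.Quotient.factor_comp_mk (inf_le_right : J ⊓ Q ≤ Q), CommRingCat.ofHom_comp, Spec.map_comp,
      Category.assoc, hl₀, IsPushout.inl_desc]
  have hl : redι N str I ≫ l = e'.hom ≫ x.1 := by
    rw [← cancel_epi (redIso N str I).hom, ← Category.assoc (redIso N str I).hom (redι N str I), redIso_quotι]
    exact hlJ
  have : Epi αι := by
    have : IsIso αι.left := inferInstanceAs (IsIso (Spec.map α.symm.toCommRingCatIso.hom))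
    exact Over.epi_of_epi_left αι
  have htl : t ≫ l = (eN F str).hom ≫ y.1 := by
    rw [← cancel_epi αι, ← Category.assoc αι t, hαt]
    exact hlQ
  obtain ⟨z, hz, -, hzt⟩ := exists_attr_lift N str I a hI x l hl
  refine ⟨z, hz, ?_⟩
  have ht : IsEquivariant (wN F str) (wN N str) t := by
    rw [isEquivariant_iff]
    intro T g p
    simp only [wN, lift_transport, t, ← Category.assoc]
    simp only [Category.assoc, Iso.inv_hom_id_assoc, Iso.inv_hom_id, Category.comp_id]
    rw [← lift_comp_fst_snd (p ≫ (eN F str).hom)]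
    simp only [Category.assoc, lift_whiskerRight, lift_prod_act_assoc, lift_whiskerRight_assoc]
    rw [(isEquivariant_iff _ _ _).1 (isEquivariant_faceMapS S hF),
      show p ≫ (eN F str).hom ≫ (AMonS.faceMap S hF ▷ Over.mk str) = CartesianMonoidalCategory.lift
        ((p ≫ (eN F str).hom ≫ fst _ _) ≫ AMonS.faceMap S hF) (p ≫ (eN F str).hom ≫ snd _ _) from
        CartesianMonoidalCategory.hom_ext _ _ (by simp) (by simp),
      lift_prod_act_assoc]
  have := hzt _ _ t (wN F str) ht (htl ▸ isEquivariant_transport (eN F str) _ a y.1 y.2)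
  rw [htl] at this
  simp only [t, Category.assoc] at this
  rw [show gc N A str = (eN N str).hom from rfl, Iso.inv_hom_id_assoc] at this
  exact (cancel_epi _).1 this

end Family

end Groth.Agent.MagnetLib.Avg
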