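import Groth.Agent.MagnetLib.Formal
import Groth.Prelude.Def_Magnet2
import Mathlib.AlgebraicGeometry.Morphisms.FormallyUnramified
import Mathlib.AlgebraicGeometry.IdealSheaf.Functorial

/-!
# Formally unramified equivariant maps
-/

set_option autoImplicit false
set_option backward.isDefEq.respectTransparency false

universe u

noncomputable section

open CategoryTheory CategoryTheory.Limits MonoidalCategory CartesianMonoidalCategory MonObj AlgebraicGeometry Opposite

namespace Groth.Agent.MagnetLib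

open Magnet Magnet.MonAct

theorem ker_specMap_sq {A B : CommRingCat.{u}} (φ : A ⟶ B) (hker : RingHom.ker φ.hom ^ 2 = ⊥) :
    RingHom.ker (Spec.map φ).appTop.hom ^ 2 = ⊥ := by
  have e : RingHom.ker (Spec.map φ).appTop.hom ≤
      (RingHom.ker φ.hom).map (Scheme.ΓSpecIso A).inv.hom := fun x hx => by
    have h := congr($(Scheme.ΓSpecIso_naturality φ) x)
    have hx' : (Spec.map φ).appTop.hom x = 0 := hx
    have hm : φ.hom ((Scheme.ΓSpecIso A).hom.hom x) = 0 := by
      refine h.symm.trans ?_
      exact (congrArg (Scheme.ΓSpecIso B).hom.hom hx').trans (map_zero _)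
    have := Ideal.mem_map_of_mem (Scheme.ΓSpecIso A).inv.hom (RingHom.mem_ker.2 hm)
    simpa using this
  refine le_bot_iff.1 ((Ideal.pow_right_mono e 2).trans ?_)
  rw [← Ideal.map_pow, hker, Ideal.map_bot]

/-- The base change of a square-zero thickening to an affine scheme is a square-zero thickening. -/
theorem isNilpotent_ker_pullback_fst {A B : CommRingCat.{u}} (φ : A ⟶ B) (hφ : Function.Surjective φ)
    (hker : RingHom.ker φ.hom ^ 2 = ⊥) {W : Scheme.{u}} [IsAffine W] (q : W ⟶ Spec A) :
    have : IsClosedImmersion (Spec.map φ) := IsClosedImmersion.spec_of_surjective φ hφ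
    IsNilpotent (pullback.fst q (Spec.map φ)).ker := by
  intro hc
  let K := (Spec.map φ).ker
  let top : (Spec A).affineOpens := ⟨⊤, isAffineOpen_top _⟩
  let L := Scheme.IdealSheafData.ofIdealTop ((K.ideal top).map q.appTop.hom)
  have h1 : (pullback.fst q (Spec.map φ)).ker ≤ L := by
    rw [Scheme.IdealSheafData.ker_fst_of_isClosedImmersion, ← Scheme.IdealSheafData.le_map_iff_comap_le]
    refine Scheme.IdealSheafData.le_of_isAffine ?_
    rw [Scheme.IdealSheafData.ideal_map_of_isAffineHom]
    refine (Ideal.le_comap_map (f := q.appTop.hom)).trans (le_of_eq ?_)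
    refine congrArg (Ideal.comap _) ?_
    exact (Scheme.IdealSheafData.equivOfIsAffine.apply_symm_apply ((K.ideal top).map q.appTop.hom)).symm
  refine ⟨2, ?_⟩
  refine Scheme.IdealSheafData.ext_of_isAffine ?_
  rw [Scheme.IdealSheafData.ideal_pow, Pi.pow_apply]
  refine le_antisymm ((Ideal.pow_right_mono (h1 _) 2).trans ?_) bot_le
  have hL : L.ideal ⟨⊤, isAffineOpen_top W⟩ = (K.ideal top).map q.appTop.hom :=
    Scheme.IdealSheafData.equivOfIsAffine.apply_symm_apply _
  have hK : K.ideal top = RingHom.ker (Spec.map φ).appTop.hom := Scheme.Hom.ker_apply _ _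
  rw [hL, ← Ideal.map_pow, hK, ker_specMap_sq φ hker, Ideal.map_bot]
  exact bot_le

variable {S : Scheme.{u}} {B X Y : Over S} [IsAffineHom B.hom]

/-- Morphisms out of `B ×_S Spec A` into a formally unramified scheme over `Y` are determined modulo square-zero ideals. -/
theorem hom_ext_thickening {A C : CommRingCat.{u}} (φ : A ⟶ C) (hφ : Function.Surjective φ)
    (hker : RingHom.ker φ.hom ^ 2 = ⊥) (str : Spec A ⟶ S) (f : X ⟶ Y) [FormallyUnramified f.left]
    {l₁ l₂ : B ⊗ Over.mk str ⟶ X}
    (htop : (B ◁ (Over.homMk (Spec.map φ) rfl : Over.mk (Spec.map φ ≫ str) ⟶ Over.mk str)) ≫ l₁ =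
      (B ◁ (Over.homMk (Spec.map φ) rfl : Over.mk (Spec.map φ ≫ str) ⟶ Over.mk str)) ≫ l₂)
    (hbot : l₁ ≫ f = l₂ ≫ f) : l₁ = l₂ := by
  have : IsClosedImmersion (Spec.map φ) := IsClosedImmersion.spec_of_surjective φ hφ
  have : IsAffineHom (pullback.snd B.hom str) := MorphismProperty.pullback_snd (P := @IsAffineHom) _ _ inferInstance
  have : IsAffine (B ⊗ Over.mk str).left := isAffine_of_isAffineHom (pullback.snd B.hom str)
  let q : (B ⊗ Over.mk str).left ⟶ Spec A := pullback.snd B.hom str
  let t : Over.mk (Spec.map φ ≫ str) ⟶ Over.mk str := Over.homMk (Spec.map φ) rfl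
  let π : pullback q (Spec.map φ) ⟶ pullback B.hom (Spec.map φ ≫ str) :=
    pullback.lift (pullback.fst _ _ ≫ pullback.fst B.hom str) (pullback.snd _ _) (by
      rw [Category.assoc, pullback.condition]
      exact (Category.assoc _ _ _).symm.trans ((congrArg (· ≫ str) pullback.condition).trans (Category.assoc _ _ _)))
  have hπ : π ≫ (B ◁ t).left = pullback.fst q (Spec.map φ) := by
    refine pullback.hom_ext ?_ ?_
    · rw [Category.assoc, Over.whiskerLeft_left_fst]
      exact pullback.lift_fst _ _ _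
    · rw [Category.assoc, Over.whiskerLeft_left_snd]
      exact (pullback.lift_snd_assoc _ _ _ _).trans pullback.condition.symm
  refine Over.OverMorphism.ext (FormallyUnramified.hom_ext (pullback.fst q (Spec.map φ))
    (isNilpotent_ker_pullback_fst φ hφ hker q) f.left ?_ ?_)
  · rw [← hπ, Category.assoc, Category.assoc]
    exact congrArg (π ≫ ·) (congrArg CommaMorphism.left htop)
  · exact congrArg CommaMorphism.left hbot

variable {M : Type} [AddCommMonoid M] (N : AddSubmonoid M) {aX : MonAct (AMonS S M) X} {aY : MonAct (AMonS S M) Y}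

instance (T : Scheme.{u}) (P : Type) [AddCommMonoid P] : IsAffineHom (AMonS T P).hom :=
  have : IsAffineHom (AMon (ULift.{u} ℤ) P).hom :=
    isAffineHom_of_isAffine (X := Spec (CommRingCat.of (MonoidAlgebra (ULift.{u} ℤ) (Multiplicative P))))
      (Y := Spec (CommRingCat.of (ULift.{u} ℤ))) _
  MorphismProperty.pullback_snd (P := @IsAffineHom) _ _ this

omit [IsAffineHom B.hom] in
/-- The map of attractors of a formally unramified map is formally unramified. -/
theorem attr_postcomp_ext {A C : CommRingCat.{u}} (φ : A ⟶ C) (hφ : Function.Surjective φ)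
    (hker : RingHom.ker φ.hom ^ 2 = ⊥) (str : Spec A ⟶ S) (f : X ⟶ Y) (hf : IsEquivariant aX aY f)
    [FormallyUnramified f.left] (l₁ l₂ : (attr aX N).obj (op (Over.mk str)))
    (htop : (attr aX N).map (Over.homMk (Spec.map φ) rfl : Over.mk (Spec.map φ ≫ str) ⟶ Over.mk str).op l₁ =
      (attr aX N).map (Over.homMk (Spec.map φ) rfl : Over.mk (Spec.map φ ≫ str) ⟶ Over.mk str).op l₂)
    (hbot : (eqvHom.postcomp (subAct S M N) f hf).app _ l₁ = (eqvHom.postcomp (subAct S M N) f hf).app _ l₂) :
    l₁ = l₂ :=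
  Subtype.ext (hom_ext_thickening φ hφ hker str f (congrArg Subtype.val htop) (congrArg Subtype.val hbot))

omit [IsAffineHom B.hom] in
theorem formallyUnramified_of_represents (f : X ⟶ Y) (hf : IsEquivariant aX aY f) [FormallyUnramified f.left]
    {ZX ZY : Over S} (eX : (attr aX N).RepresentableBy ZX) (eY : (attr aY N).RepresentableBy ZY) (j : ZX ⟶ ZY)
    (hj : ∀ (T : Over S) (z : T ⟶ ZX),
      eY.homEquiv (z ≫ j) = (eqvHom.postcomp (subAct S M N) f hf).app (op T) (eX.homEquiv z)) :
    FormallyUnramified j.left := by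
  refine FormallyUnramified.of_hom_ext _ fun A C φ hφ hker g₁ g₂ h h' => ?_
  let T : Over S := Over.mk (g₁ ≫ ZX.hom)
  let z₁ : T ⟶ ZX := Over.homMk g₁ rfl
  let z₂ : T ⟶ ZX := Over.homMk g₂ (by
    change g₂ ≫ ZX.hom = g₁ ≫ ZX.hom
    rw [← Over.w j, ← Category.assoc, ← h', Category.assoc])
  let t : Over.mk (Spec.map φ ≫ T.hom) ⟶ T := Over.homMk (Spec.map φ) rfl
  have e : z₁ ≫ j = z₂ ≫ j := Over.OverMorphism.ext h'
  have e' : t ≫ z₁ = t ≫ z₂ := Over.OverMorphism.ext h
  refine congrArg CommaMorphism.left (eX.homEquiv.injective (attr_postcomp_ext N φ hφ hker (g₁ ≫ ZX.hom) f hf _ _ ?_ ?_) : z₁ = z₂)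
  · exact (eX.homEquiv_comp t z₁).symm.trans ((congrArg eX.homEquiv e').trans (eX.homEquiv_comp t z₂))
  · exact (hj T z₁).symm.trans ((congrArg eY.homEquiv e).trans (hj T z₂))

end Groth.Agent.MagnetLib
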