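import Groth.Agent.MagnetLib.SmoothLift
import Groth.Agent.MagnetLib.Unram
import Groth.Agent.LimLib.LfpCriterion
import Groth.Agent.S1488
import Mathlib.AlgebraicGeometry.AffineTransitionLimit
import Mathlib.CategoryTheory.Filtered.Connected

/-!
# Attractor families over limits of affine schemes, and smoothness of representing morphisms
-/

set_option autoImplicit false
set_option backward.isDefEq.respectTransparency false
set_option linter.style.haveILetI false

universe u

noncomputable section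

open CategoryTheory CategoryTheory.Limits MonoidalCategory CartesianMonoidalCategory MonObj AlgebraicGeometry Opposite

attribute [local instance] IsCofiltered.isConnected

namespace Groth.Agent.MagnetLib.SmoothRep

open Magnet Magnet.MonAct

/-- A connected limit tensored with a fixed object. -/
def isLimitTensorLeft {Ct : Type*} [Category Ct] [CartesianMonoidalCategory Ct] {J : Type*} [Category J]
    [IsCofiltered J] (P : Ct) {D : J ⥤ Ct} {c : Cone D} (hc : IsLimit c) : IsLimit ((tensorLeft P).mapCone c) := by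
  have hfst : ∀ (s : Cone (D ⋙ tensorLeft P)) (i j : J), s.π.app i ≫ fst P (D.obj i) = s.π.app j ≫ fst P (D.obj j) := by
    intro s
    have key : ∀ {i j : J} (φ : i ⟶ j), s.π.app i ≫ fst P (D.obj i) = s.π.app j ≫ fst P (D.obj j) := fun {i j} φ => by
      rw [← s.w φ, Category.assoc]
      exact congrArg (s.π.app i ≫ ·) (whiskerLeft_fst P (D.map φ)).symm
    exact fun i j => (key (IsCofiltered.minToLeft i j)).symm.trans (key (IsCofiltered.minToRight i j))
  let s' : Cone (D ⋙ tensorLeft P) → Cone D := fun s =>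
    ⟨s.pt,
      { app := fun i => s.π.app i ≫ snd P (D.obj i)
        naturality := fun i j φ => by
          rw [Category.assoc, ← s.w φ]
          change (𝟙 _ ≫ (_ ≫ (P ◁ D.map φ)) ≫ snd P (D.obj j)) = _
          rw [Category.id_comp, Category.assoc, whiskerLeft_snd] }⟩
  let i₀ : J := Classical.arbitrary J
  exact
    { lift := fun s => CartesianMonoidalCategory.lift (s.π.app i₀ ≫ fst P (D.obj i₀)) (hc.lift (s' s))
      fac := fun s j => by
        change _ ≫ (P ◁ c.π.app j) = _
        rw [lift_whiskerLeft, hc.fac]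
        refine CartesianMonoidalCategory.hom_ext _ _ ?_ ?_
        · rw [lift_fst]
          exact hfst s i₀ j
        · rw [lift_snd]
      uniq := fun s m hm => by
        refine CartesianMonoidalCategory.hom_ext _ _ ?_ ?_
        · rw [lift_fst, ← hm i₀]
          change _ = (m ≫ (P ◁ c.π.app i₀)) ≫ _
          rw [Category.assoc, whiskerLeft_fst]
        · rw [lift_snd]
          refine hc.hom_ext fun j => ?_
          rw [hc.fac]
          change _ = s.π.app j ≫ snd P (D.obj j)
          rw [← hm j]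
          change _ = (m ≫ (P ◁ c.π.app j)) ≫ _
          rw [Category.assoc, Category.assoc, whiskerLeft_snd] }

variable {S : Scheme.{u}}

theorem isAffine_tensor (P T : Over S) [IsAffineHom P.hom] [IsAffine T.left] : IsAffine (P ⊗ T).left :=
  haveI : IsAffineHom (pullback.snd P.hom T.hom) := MorphismProperty.pullback_snd _ _ inferInstance
  isAffine_of_isAffineHom (pullback.snd P.hom T.hom)

variable {I : Type u} [Category.{u} I] [IsCofiltered I] {D : I ⥤ Over S}

/-- Morphisms out of a limit of affine schemes into a target of finite presentation come from a stage. -/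
theorem exists_hom_stage (hD : ∀ i, IsAffine (D.obj i).left) {c : Cone D} (hc : IsLimit c) {X Y : Over S} (f : X ⟶ Y)
    [LocallyOfFinitePresentation f.left] (x : c.pt ⟶ X) (i : I) (y : D.obj i ⟶ Y) (h : x ≫ f = c.π.app i ≫ y) :
    ∃ (i' : I) (φ : i' ⟶ i) (x' : D.obj i' ⟶ X), c.π.app i' ≫ x' = x ∧ x' ≫ f = D.map φ ≫ y := by
  let F : CategoryTheory.Over i ⥤ Scheme.{u} := Over.forget i ⋙ D ⋙ Over.forget S
  let tF : F ⟶ (Functor.const _).obj Y.left :=
    { app := fun k => (D.map k.hom ≫ y).left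
      naturality := fun k l ψ => by
        change (D.map ψ.left).left ≫ (D.map l.hom ≫ y).left = (D.map k.hom ≫ y).left ≫ 𝟙 _
        rw [Category.comp_id, ← Over.comp_left, ← D.map_comp_assoc, Over.w] }
  haveI hFa : ∀ k, IsAffine (F.obj k) := fun k => hD k.left
  haveI : ∀ {k l : CategoryTheory.Over i} (ψ : k ⟶ l), IsAffineHom (F.map ψ) := fun {k l} ψ => inferInstance
  haveI : ∀ k, CompactSpace (F.obj k) := fun k => inferInstance
  haveI : ∀ k, QuasiSeparatedSpace (F.obj k) := fun k => inferInstance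
  have hc' : IsLimit ((Over.forget S).mapCone c) := isLimitOfPreserves _ hc
  obtain ⟨k, σ, hσ, hσw⟩ := Scheme.exists_π_app_comp_eq_of_locallyOfFinitePresentation F tF f.left
    (((Over.forget S).mapCone c).whisker (Over.forget i))
    ((Functor.Initial.isLimitWhiskerEquiv (Over.forget i) _).symm hc') x.left (by
      ext k : 2
      change (c.π.app k.left).left ≫ (D.map k.hom ≫ y).left = x.left ≫ f.left
      rw [← Over.comp_left, ← Over.comp_left, c.w_assoc, h])
  have hw : σ ≫ X.hom = (D.obj k.left).hom := by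
    rw [← Over.w f, ← Category.assoc, hσw]
    exact Over.w (D.map k.hom ≫ y)
  exact ⟨k.left, k.hom, Over.homMk σ hw, Over.OverMorphism.ext hσ, Over.OverMorphism.ext hσw⟩

/-- Morphisms from a stage that agree on the limit agree at a later stage. -/
theorem exists_eq_stage (hD : ∀ i, IsAffine (D.obj i).left) {c : Cone D} (hc : IsLimit c) {X Y : Over S} (f : X ⟶ Y)
    [LocallyOfFiniteType f.left] (i : I) (u v : D.obj i ⟶ X) (huv : u ≫ f = v ≫ f)
    (h : c.π.app i ≫ u = c.π.app i ≫ v) : ∃ (i' : I) (φ : i' ⟶ i), D.map φ ≫ u = D.map φ ≫ v := by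
  let F : CategoryTheory.Over i ⥤ Scheme.{u} := Over.forget i ⋙ D ⋙ Over.forget S
  let tF : F ⟶ (Functor.const _).obj Y.left :=
    { app := fun k => (D.map k.hom ≫ u ≫ f).left
      naturality := fun k l ψ => by
        change (D.map ψ.left).left ≫ (D.map l.hom ≫ u ≫ f).left = (D.map k.hom ≫ u ≫ f).left ≫ 𝟙 _
        rw [Category.comp_id, ← Over.comp_left, ← D.map_comp_assoc, Over.w] }
  haveI hFa : ∀ k, IsAffine (F.obj k) := fun k => hD k.left
  haveI : ∀ {k l : CategoryTheory.Over i} (ψ : k ⟶ l), IsAffineHom (F.map ψ) := fun {k l} ψ => inferInstance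
  haveI : ∀ k, CompactSpace (F.obj k) := fun k => inferInstance
  haveI : ∀ k, QuasiSeparatedSpace (F.obj k) := fun k => inferInstance
  have hc' : IsLimit ((Over.forget S).mapCone c) := isLimitOfPreserves _ hc
  let o := CategoryTheory.Over.mk (𝟙 i)
  obtain ⟨k, hk, hk', e⟩ := Scheme.exists_hom_hom_comp_eq_comp_of_locallyOfFiniteType F tF f.left
    (((Over.forget S).mapCone c).whisker (Over.forget i))
    ((Functor.Initial.isLimitWhiskerEquiv (Over.forget i) _).symm hc') (i := o) u.left (by
      change (D.map (𝟙 i) ≫ u ≫ f).left = u.left ≫ f.left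
      rw [D.map_id, Category.id_comp, Over.comp_left]) (j := o) v.left (by
      change (D.map (𝟙 i) ≫ u ≫ f).left = v.left ≫ f.left
      rw [D.map_id, Category.id_comp, huv, Over.comp_left]) (by
      change (c.π.app i).left ≫ u.left = (c.π.app i).left ≫ v.left
      rw [← Over.comp_left, ← Over.comp_left, h])
  have hkk : hk.left = hk'.left := by
    have h1 := Over.w hk
    have h2 := Over.w hk'
    simp only [o, Over.mk_hom] at h1 h2
    exact (Category.comp_id _).symm.trans (h1.trans (h2.symm.trans (Category.comp_id _)))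
  refine ⟨k.left, hk.left, Over.OverMorphism.ext ?_⟩
  change (D.map hk.left).left ≫ u.left = (D.map hk.left).left ≫ v.left
  conv_rhs => rw [hkk]
  exact e

variable {G P : Over S} [MonObj G] [IsAffineHom G.hom] [IsAffineHom P.hom]

/-- Equivariant families over a limit of affine schemes come from a stage, relative to a morphism of finite
presentation. -/
theorem exists_family_stage (hD : ∀ i, IsAffine (D.obj i).left) {c : Cone D} (hc : IsLimit c) {X Y : Over S}
    (ρ : MonAct G P) (aX : MonAct G X) (aY : MonAct G Y) (f : X ⟶ Y) (hf : IsEquivariant aX aY f)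
    [LocallyOfFinitePresentation f.left] (x : (eqvHom ρ aX).obj (op c.pt)) (i : I)
    (y : (eqvHom ρ aY).obj (op (D.obj i))) (h : x.1 ≫ f = (P ◁ c.π.app i) ≫ y.1) :
    ∃ (i' : I) (φ : i' ⟶ i) (x' : (eqvHom ρ aX).obj (op (D.obj i'))),
      (P ◁ c.π.app i') ≫ x'.1 = x.1 ∧ x'.1 ≫ f = (P ◁ D.map φ) ≫ y.1 := by
  have hP : ∀ j, IsAffine ((D ⋙ tensorLeft P).obj j).left := fun j =>
    haveI := hD j
    isAffine_tensor P (D.obj j)
  have hG : ∀ j, IsAffine (((D ⋙ tensorLeft P) ⋙ tensorLeft G).obj j).left := fun j =>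
    haveI := hP j
    isAffine_tensor G ((D ⋙ tensorLeft P).obj j)
  obtain ⟨i₁, φ₁, x₁, hx₁, hx₁f⟩ := exists_hom_stage hP (isLimitTensorLeft P hc) f x.1 i y.1 h
  replace hx₁ : (P ◁ c.π.app i₁) ≫ x₁ = x.1 := hx₁
  replace hx₁f : x₁ ≫ f = (P ◁ D.map φ₁) ≫ y.1 := hx₁f
  have hy₁ : IsEquivariant (ρ.prod (trivial G (D.obj i₁))) aY (x₁ ≫ f) := by
    rw [hx₁f]
    exact ((eqvHom ρ aY).map (D.map φ₁).op y).2
  have huv : ((ρ.prod (trivial G (D.obj i₁))).act ≫ x₁) ≫ f = ((G ◁ x₁) ≫ aX.act) ≫ f := by
    rw [Category.assoc, hy₁, Category.assoc, hf, MonoidalCategory.whiskerLeft_comp, Category.assoc]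
  obtain ⟨i₂, φ₂, e⟩ := exists_eq_stage hG (isLimitTensorLeft G (isLimitTensorLeft P hc)) f i₁
    ((ρ.prod (trivial G (D.obj i₁))).act ≫ x₁) ((G ◁ x₁) ≫ aX.act) huv (by
      change (G ◁ (P ◁ c.π.app i₁)) ≫ _ = (G ◁ (P ◁ c.π.app i₁)) ≫ _
      rw [← prod_trivial_act_whiskerLeft_assoc, hx₁]
      refine Eq.trans x.2 ?_
      rw [← hx₁, MonoidalCategory.whiskerLeft_comp, Category.assoc])
  replace e : (G ◁ (P ◁ D.map φ₂)) ≫ (ρ.prod (trivial G (D.obj i₁))).act ≫ x₁ =
      (G ◁ (P ◁ D.map φ₂)) ≫ (G ◁ x₁) ≫ aX.act := e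
  refine ⟨i₂, φ₂ ≫ φ₁, ⟨(P ◁ D.map φ₂) ≫ x₁, ?_⟩, ?_, ?_⟩
  · rw [← prod_trivial_act_whiskerLeft_assoc] at e
    unfold IsEquivariant
    rw [e, MonoidalCategory.whiskerLeft_comp, Category.assoc]
  · rw [← MonoidalCategory.whiskerLeft_comp_assoc, c.w]
    exact hx₁
  · rw [Category.assoc, hx₁f, D.map_comp, MonoidalCategory.whiskerLeft_comp, Category.assoc]

/-- A morphism over `S` with lifting along limits of affine schemes and along square-zero thickenings of affine
schemes is smooth. -/
theorem smooth_of_lifts {ZX ZY : Over S} (j : ZX ⟶ ZY)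
    (hlim : ∀ {I : Type u} [Category.{u} I] [IsCofiltered I] {D : I ⥤ Over S},
      (∀ i, IsAffine (D.obj i).left) → ∀ {c : Cone D}, IsLimit c → ∀ (z : c.pt ⟶ ZX) (i : I) (w : D.obj i ⟶ ZY),
        z ≫ j = c.π.app i ≫ w →
        ∃ (i' : I) (φ : i' ⟶ i) (z' : D.obj i' ⟶ ZX), c.π.app i' ≫ z' = z ∧ z' ≫ j = D.map φ ≫ w)
    (hfs : ∀ (A : Type u) [CommRing A] (J : Ideal A), J ^ 2 = ⊥ → ∀ (str : Spec (CommRingCat.of A) ⟶ S)
      (z : Over.mk (Spec.map (CommRingCat.ofHom (Ideal.Quotient.mk J)) ≫ str) ⟶ ZX) (w : Over.mk str ⟶ ZY),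
      z ≫ j = (Over.homMk (Spec.map (CommRingCat.ofHom (Ideal.Quotient.mk J))) rfl :
        Over.mk (Spec.map (CommRingCat.ofHom (Ideal.Quotient.mk J)) ≫ str) ⟶ Over.mk str) ≫ w →
      ∃ l : Over.mk str ⟶ ZX, (Over.homMk (Spec.map (CommRingCat.ofHom (Ideal.Quotient.mk J))) rfl :
        Over.mk (Spec.map (CommRingCat.ofHom (Ideal.Quotient.mk J)) ≫ str) ⟶ Over.mk str) ≫ l = z ∧ l ≫ j = w) :
    Smooth j.left := by
  refine (Groth.Agent.S1488.result j.left).2 ⟨?_, ?_⟩
  · refine Groth.Agent.LimLib.lfp_of_lifts j.left fun J _ _ _ D t c hc hD j₀ g hg => ?_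
    haveI : IsFiltered J := isFiltered_of_directed_le_nonempty _
    let DS : Jᵒᵖ ⥤ Over S :=
      { obj := fun k => Over.mk (t.app k ≫ ZY.hom)
        map := fun {k l} φ => Over.homMk (D.map φ) (by
          change D.map φ ≫ t.app l ≫ ZY.hom = t.app k ≫ ZY.hom
          rw [← Category.assoc, t.naturality φ]
          exact congrArg (· ≫ ZY.hom) (Category.comp_id _))
        map_id := fun k => Over.OverMorphism.ext (D.map_id k)
        map_comp := fun φ ψ => Over.OverMorphism.ext (D.map_comp φ ψ) }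
    have ht : ∀ k, c.π.app k ≫ t.app k = g ≫ j.left := by
      have hmin : ∀ {k l : Jᵒᵖ} (φ : k ⟶ l), c.π.app k ≫ t.app k = c.π.app l ≫ t.app l := fun {k l} φ => by
        rw [← c.w φ, Category.assoc, t.naturality φ]
        exact congrArg (_ ≫ ·) (Category.comp_id _).symm
      intro k
      rw [hg, ← hmin (IsCofiltered.minToLeft k j₀), ← hmin (IsCofiltered.minToRight k j₀)]
    let cS : Cone DS :=
      { pt := Over.mk (g ≫ ZX.hom)
        π :=
          { app := fun k => Over.homMk (c.π.app k) (by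
              change c.π.app k ≫ t.app k ≫ ZY.hom = g ≫ ZX.hom
              rw [← Category.assoc, ht k, Category.assoc, Over.w j])
            naturality := fun k l φ => Over.OverMorphism.ext (c.π.naturality φ) } }
    have hcS : IsLimit cS := isLimitOfReflects (Over.forget S)
      (IsLimit.ofIsoLimit hc (Cone.ext (Iso.refl _) fun k => (Category.id_comp _).symm))
    obtain ⟨i', φ, z', hz', hzj⟩ := hlim (D := DS) hD hcS (Over.homMk g rfl) j₀ (Over.homMk (t.app j₀) rfl)
      (Over.OverMorphism.ext hg)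
    refine ⟨i', z'.left, ?_, congrArg CommaMorphism.left hz'⟩
    exact (congrArg CommaMorphism.left hzj).trans ((t.naturality φ).trans (Category.comp_id _))
  · intro A _ J hJ a b hab
    have hw : a ≫ ZX.hom = Spec.map (CommRingCat.ofHom (Ideal.Quotient.mk J)) ≫ b ≫ ZY.hom := by
      rw [← Category.assoc, hab, Category.assoc, Over.w j]
    obtain ⟨l, hl, hlj⟩ := hfs A J hJ (b ≫ ZY.hom) (Over.homMk a hw) (Over.homMk b rfl) (Over.OverMorphism.ext hab.symm)
    exact ⟨l.left, congrArg CommaMorphism.left hl, congrArg CommaMorphism.left hlj⟩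

end Groth.Agent.MagnetLib.SmoothRep
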