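import Groth.Agent.MagnetLib.A1Alg
import Groth.Agent.SymGr.Basic
import Mathlib.RingTheory.Smooth.Basic
import Mathlib.RingTheory.FinitePresentation
import Mathlib.Algebra.TrivSqZeroExt.Basic
import Mathlib.LinearAlgebra.SymmetricAlgebra.Basis

/-!
# Smooth algebras with a contracting action are symmetric algebras

A finitely presented formally smooth `B`-algebra `C` with an augmentation `ε`, and a coaction of the affine line over `B`
whose degree zero part is `B`, is the symmetric algebra of a finite projective module.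
-/

set_option autoImplicit false

universe u

noncomputable section

open Polynomial

namespace Groth.Agent.MagnetLib.SymSplit

open SymGr.Basic

theorem eq_zero_of_mem_all_pow {B : Type u} [CommRing B] {V : Type u} [AddCommGroup V] [Module B V]
    [Module.Projective B V] {x : SymmetricAlgebra B V} (hx : ∀ n, x ∈ aug B V ^ n) : x = 0 := by
  classical
  obtain ⟨sec, hsec⟩ := Module.projective_def'.mp ‹Module.Projective B V›
  let L : (V →₀ B) →ₗ[B] MvPolynomial V B := Finsupp.linearCombination B MvPolynomial.X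
  let φ := SymmetricAlgebra.lift (L ∘ₗ sec)
  let ψ : MvPolynomial V B →ₐ[B] SymmetricAlgebra B V := MvPolynomial.aeval fun v => SymmetricAlgebra.ι B V v
  have hψ : ψ.comp φ = AlgHom.id B _ := SymmetricAlgebra.algHom_ext (LinearMap.ext fun v => by
    change ψ (φ (SymmetricAlgebra.ι B V v)) = SymmetricAlgebra.ι B V v
    rw [SymmetricAlgebra.lift_ι_apply]
    change ψ (L (sec v)) = _
    conv_rhs => rw [← show Finsupp.linearCombination B id (sec v) = v from DFunLike.congr_fun hsec v]
    simp [L, ψ, Finsupp.linearCombination_apply, Finsupp.sum, map_sum])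
  have hL : ∀ v, (L ∘ₗ sec) v ∈ MvPolynomial.idealOfVars V B := fun v => by
    rw [LinearMap.comp_apply, show L (sec v) = _ from Finsupp.linearCombination_apply B (sec v)]
    exact sum_mem fun i _ => Submodule.smul_of_tower_mem _ _ (Ideal.subset_span ⟨i, rfl⟩)
  have h0 : φ x = 0 := MvPolynomial.ext _ _ fun d => by
    rw [MvPolynomial.coeff_zero]
    exact (MvPolynomial.mem_pow_idealOfVars_iff' _ _).1 (mapPow_mem V V (d.degree + 1) (L ∘ₗ sec) hL (hx _)) d
      (by omega)
  have := DFunLike.congr_fun hψ x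
  rw [AlgHom.comp_apply, h0, map_zero] at this
  exact this.symm

variable {B C : Type u} [CommRing B] [CommRing C] [Algebra B C] (ε : C →ₐ[B] B) (α : C →+* C[X])

theorem injective_of_split [Algebra.FormallySmooth B C] {P : Type u} [AddCommGroup P] [Module B P]
    [Module.Projective B P] (φ : SymmetricAlgebra B P →ₐ[B] C)
    (hσI : ∀ p, ε (φ (SymmetricAlgebra.ι B P p)) = 0) (hsurj : Function.Surjective φ)
    (hP : ∀ p, φ (SymmetricAlgebra.ι B P p) ∈ RingHom.ker ε ^ 2 → p = 0) : Function.Injective φ := by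
  classical
  let I : Ideal C := RingHom.ker ε
  let Q := C ⧸ I ^ 2
  let mk : C →ₐ[B] Q := Ideal.Quotient.mkₐ B (I ^ 2)
  let εQ : Q →ₐ[B] B := Ideal.Quotient.liftₐ (I ^ 2) ε fun a ha => Ideal.pow_le_self two_ne_zero ha
  rw [injective_iff_map_eq_zero]
  intro x hx
  refine eq_zero_of_mem_all_pow fun d => ?_
  induction d with
  | zero => simp
  | succ d ihd =>
    let J := aug B P
    let n := d + 2
    let R := SymmetricAlgebra B P ⧸ J ^ n
    let q : SymmetricAlgebra B P →ₐ[B] R := Ideal.Quotient.mkₐ B (J ^ n)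
    have hεφ : ε.comp φ = SymmetricAlgebra.algebraMapInv := SymmetricAlgebra.algHom_ext (LinearMap.ext fun p => by
      change ε (φ (SymmetricAlgebra.ι B P p)) = SymmetricAlgebra.algebraMapInv (SymmetricAlgebra.ι B P p)
      rw [SymmetricAlgebra.algebraMapInv_ι]
      exact hσI p)
    have hJI : J ≤ I.comap φ := fun t ht => by
      change ε (φ t) = 0
      rw [← AlgHom.comp_apply, hεφ]
      exact ht
    have hJ2 : ∀ t, mk (φ t) = 0 → t ∈ J ^ 2 := fun t ht => by
      have ht0 : t ∈ J := by
        have := congrArg εQ ht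
        rw [map_zero] at this
        change SymmetricAlgebra.algebraMapInv t = 0
        rw [← hεφ]
        exact this
      obtain ⟨v, hv⟩ : ∃ v, t - SymmetricAlgebra.ι B P v ∈ J ^ 2 := by
        rw [show J = aug B P from rfl, aug_eq_span] at ht0
        refine Submodule.span_induction ?_ ⟨0, by simp⟩ ?_ ?_ ht0
        · rintro _ ⟨v, rfl⟩
          exact ⟨v, by simp⟩
        · rintro a b _ _ ⟨v, hv⟩ ⟨w, hw⟩
          exact ⟨v + w, by rw [map_add, add_sub_add_comm]; exact add_mem hv hw⟩
        · rintro r a ha ⟨v, hv⟩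
          refine ⟨SymmetricAlgebra.algebraMapInv r • v, ?_⟩
          have e : r • a - SymmetricAlgebra.ι B P (SymmetricAlgebra.algebraMapInv r • v) =
              (r - algebraMap B _ (SymmetricAlgebra.algebraMapInv r)) * a +
                algebraMap B _ (SymmetricAlgebra.algebraMapInv r) * (a - SymmetricAlgebra.ι B P v) := by
            rw [LinearMap.map_smul, smul_eq_mul, Algebra.smul_def]
            ring
          rw [e]
          refine add_mem ?_ (Ideal.mul_mem_left _ _ hv)
          rw [pow_two J]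
          refine Ideal.mul_mem_mul ?_ (by rw [show J = aug B P from rfl, aug_eq_span]; exact ha)
          change SymmetricAlgebra.algebraMapInv (R := B) (M := P) _ = 0
          rw [map_sub, SymmetricAlgebra.algebraMap_leftInverse]
          exact sub_self _
      have hv0 : v = 0 := by
        have h1 : mk (φ (t - SymmetricAlgebra.ι B P v)) = 0 := by
          refine Ideal.Quotient.eq_zero_iff_mem.2 ?_
          have h2 : φ (t - SymmetricAlgebra.ι B P v) ∈ (J ^ 2).map φ := Ideal.mem_map_of_mem φ hv
          rw [Ideal.map_pow] at h2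
          exact Ideal.pow_right_mono (Ideal.map_le_iff_le_comap.2 hJI) 2 h2
        rw [map_sub, map_sub, ht, zero_sub, neg_eq_zero] at h1
        exact hP v (Ideal.Quotient.eq_zero_iff_mem.1 h1)
      rw [hv0, map_zero, sub_zero] at hv
      exact hv
    let Φ : R →ₐ[B] Q := Ideal.Quotient.liftₐ (J ^ n) (mk.comp φ) fun t ht => by
      refine Ideal.Quotient.eq_zero_iff_mem.2 ?_
      have h2 : φ t ∈ (J ^ n).map φ := Ideal.mem_map_of_mem φ ht
      rw [Ideal.map_pow] at h2
      exact Ideal.pow_le_pow_right (by omega : 2 ≤ n) (Ideal.pow_right_mono (Ideal.map_le_iff_le_comap.2 hJI) n h2)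
    have hΦs : Function.Surjective Φ := fun z => by
      obtain ⟨c, rfl⟩ := Ideal.Quotient.mk_surjective z
      obtain ⟨t, rfl⟩ := hsurj c
      exact ⟨q t, rfl⟩
    let m := J.map q
    have hker : ∀ z, Φ z = 0 → z ∈ m ^ 2 := fun z hz => by
      obtain ⟨t, rfl⟩ := Ideal.Quotient.mk_surjective z
      rw [← Ideal.map_pow]
      exact Ideal.mem_map_of_mem q (hJ2 t hz)
    have hmn : m ^ n = ⊥ := by
      rw [← Ideal.map_pow]
      exact Ideal.map_quotient_self _
    have hnil : IsNilpotent (RingHom.ker (Φ : R →+* Q)) := ⟨n, by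
      rw [Ideal.zero_eq_bot, eq_bot_iff, ← hmn]
      exact Ideal.pow_right_mono (fun z hz => Ideal.pow_le_self two_ne_zero (hker z hz)) n⟩
    let τ := Algebra.FormallySmooth.liftOfSurjective mk Φ hΦs hnil
    have hτ : ∀ c, Φ (τ c) = mk c := Algebra.FormallySmooth.liftOfSurjective_apply mk Φ hΦs hnil
    have hθ : ∀ t, τ (φ t) - q t ∈ m ^ 2 := fun t => hker _ (by rw [map_sub, hτ]; exact sub_self _)
    have hq : ∀ k, ∀ t ∈ J ^ k, q t ∈ m ^ k := fun k t ht => Ideal.map_pow q J k ▸ Ideal.mem_map_of_mem q ht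
    have key : ∀ k, ∀ t ∈ J ^ k, τ (φ t) - q t ∈ m ^ (k + 1) := by
      intro k
      induction k with
      | zero => exact fun t _ => Ideal.pow_le_pow_right (by omega) (hθ t)
      | succ k ihk =>
        intro t ht
        rw [pow_succ J k] at ht
        refine Submodule.mul_induction_on ht (fun a ha b hb => ?_) fun a b ha hb => by
          simp only [map_add, add_sub_add_comm]; exact add_mem ha hb
        have e : τ (φ (a * b)) - q (a * b) = (τ (φ a) - q a) * τ (φ b) + q a * (τ (φ b) - q b) := by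
          simp only [map_mul]; ring
        rw [e]
        refine add_mem ?_ ?_
        · rw [pow_succ m (k + 1)]
          refine Ideal.mul_mem_mul (ihk a ha) ?_
          have := add_mem (Ideal.pow_le_self two_ne_zero (hθ b)) (show q b ∈ m from Ideal.mem_map_of_mem q hb)
          rwa [sub_add_cancel] at this
        · rw [show k + 1 + 1 = k + 2 from rfl, pow_add m k 2]
          exact Ideal.mul_mem_mul (hq k a ha) (hθ b)
    have h1 := key d x ihd
    rw [hx, map_zero, zero_sub, neg_mem_iff, ← Ideal.map_pow] at h1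
    obtain ⟨t, ht, e⟩ := (Ideal.mem_map_iff_of_surjective q Ideal.Quotient.mk_surjective).1 h1
    have h2 := add_mem ht (Ideal.pow_le_pow_right (by omega : d + 1 ≤ n) (Ideal.Quotient.eq.1 e.symm))
    rwa [add_sub_cancel] at h2

theorem exists_algEquiv_symmetricAlgebra [Algebra.FormallySmooth B C] [Algebra.FinitePresentation B C]
    (hα : A1.IsCoact α) (hB : ∀ b, α (algebraMap B C b) = Polynomial.C (algebraMap B C b))
    (h0 : ∀ c, A1.e0 α c = algebraMap B C (ε c)) :
    ∃ (P : Type u) (_ : AddCommGroup P) (_ : Module B P),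
      Module.Finite B P ∧ Module.Projective B P ∧ Nonempty (SymmetricAlgebra B P ≃ₐ[B] C) := by
  classical
  let I : Ideal C := RingHom.ker ε
  have hIsub : ∀ c, c - algebraMap B C (ε c) ∈ I := fun c => by
    rw [RingHom.mem_ker, map_sub, AlgHom.commutes]
    exact sub_self _
  let Q := C ⧸ I ^ 2
  let mk : C →ₐ[B] Q := Ideal.Quotient.mkₐ B (I ^ 2)
  let εQ : Q →ₐ[B] B := Ideal.Quotient.liftₐ (I ^ 2) ε fun a ha => Ideal.pow_le_self two_ne_zero ha
  let P : Submodule B Q := (I.map mk).restrictScalars B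
  have hmkP : ∀ c ∈ I, mk c ∈ P := fun c hc => Ideal.mem_map_of_mem mk hc
  have hεP : ∀ p ∈ P, εQ p = 0 := fun p hp => by
    obtain ⟨c, hc, rfl⟩ := (Ideal.mem_map_iff_of_surjective mk Ideal.Quotient.mk_surjective).1 hp
    exact hc
  let Iₛ : Submodule B C := I.restrictScalars B
  let toP : Iₛ →ₗ[B] P := (mk.toLinearMap ∘ₗ Iₛ.subtype).codRestrict P fun c => hmkP c.1 c.2
  have htoP : Function.Surjective toP := fun p => by
    obtain ⟨c, hc, e⟩ := (Ideal.mem_map_iff_of_surjective mk Ideal.Quotient.mk_surjective).1 p.2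
    exact ⟨⟨c, hc⟩, Subtype.ext e⟩
  -- finiteness
  have hIfg : I.FG := Algebra.FinitePresentation.ker_fG_of_surjective ε fun b => ⟨algebraMap B C b, ε.commutes b⟩
  obtain ⟨G, hG⟩ := hIfg
  have hGI : ∀ g ∈ G, g ∈ I := fun g hg => hG ▸ Ideal.subset_span hg
  let gen : G → P := fun g => ⟨mk g.1, hmkP _ (hGI _ g.2)⟩
  have hgen : Submodule.span B (Set.range gen) = ⊤ := by
    refine top_le_iff.1 fun p _ => ?_
    obtain ⟨⟨c, hc⟩, rfl⟩ := htoP p
    have hc' : c ∈ Ideal.span (G : Set C) := hG.symm ▸ hc
    obtain ⟨f, -, hf⟩ := Submodule.mem_span_finset.1 hc'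
    have e : toP ⟨c, hc⟩ = ∑ g : G, ε (f g.1) • gen g := Subtype.ext (by
      rw [Submodule.coe_sum]
      change mk c = ∑ g : G, ε (f g.1) • mk g.1
      rw [Finset.sum_coe_sort G (fun g => ε (f g) • mk g), ← hf, map_sum]
      refine Finset.sum_congr rfl fun g hg => ?_
      rw [smul_eq_mul, Algebra.smul_def, ← AlgHom.commutes mk, ← map_mul]
      refine Ideal.Quotient.eq.2 ?_
      rw [← sub_mul, pow_two]
      exact Ideal.mul_mem_mul (hIsub _) (hGI g hg))
    rw [e]
    exact sum_mem fun g _ => Submodule.smul_mem _ _ (Submodule.subset_span ⟨g, rfl⟩)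
  have hfin : Module.Finite B P := Module.Finite.of_fg_top ⟨Finset.univ.image gen, by
    rw [Finset.coe_image, Finset.coe_univ, Set.image_univ, hgen]⟩
  -- projectivity
  have hproj : Module.Projective B P := by
    let F := P →₀ B
    let pr : F →ₗ[B] P := Finsupp.linearCombination B id
    let f : F →ₗ[B] Q := P.subtype ∘ₗ pr
    have hff : ∀ x y, f x * f y = 0 := fun x y => by
      obtain ⟨a, ha, ea⟩ := (Ideal.mem_map_iff_of_surjective mk Ideal.Quotient.mk_surjective).1 (pr x).2
      obtain ⟨b, hb, eb⟩ := (Ideal.mem_map_iff_of_surjective mk Ideal.Quotient.mk_surjective).1 (pr y).2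
      change (pr x : Q) * (pr y : Q) = 0
      rw [← ea, ← eb, ← map_mul]
      exact Ideal.Quotient.eq_zero_iff_mem.2 (pow_two I ▸ Ideal.mul_mem_mul ha hb)
    let π : TrivSqZeroExt B F →ₐ[B] Q := TrivSqZeroExt.liftEquivOfComm ⟨f, hff⟩
    have hπ : ∀ z : TrivSqZeroExt B F, π z = algebraMap B Q z.fst + f z.snd := fun z => rfl
    have hεπ : ∀ z, εQ (π z) = z.fst := fun z => by
      rw [hπ, map_add, AlgHom.commutes, show εQ (f z.snd) = 0 from hεP _ (pr z.snd).2]
      exact add_zero _
    have hprs : Function.Surjective pr := fun p => ⟨Finsupp.single p 1, by simp [pr, F]⟩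
    have hπs : Function.Surjective π := fun q => by
      obtain ⟨c, rfl⟩ := Ideal.Quotient.mk_surjective q
      obtain ⟨x, hx⟩ := hprs ⟨_, hmkP _ (hIsub c)⟩
      refine ⟨TrivSqZeroExt.inl (ε c) + TrivSqZeroExt.inr x, ?_⟩
      rw [hπ]
      simp only [TrivSqZeroExt.fst_add, TrivSqZeroExt.fst_inl, TrivSqZeroExt.fst_inr, add_zero,
        TrivSqZeroExt.snd_add, TrivSqZeroExt.snd_inl, TrivSqZeroExt.snd_inr, zero_add]
      change _ + (pr x : Q) = _
      rw [hx]
      change algebraMap B Q (ε c) + mk (c - algebraMap B C (ε c)) = mk c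
      rw [map_sub, AlgHom.commutes, add_sub_cancel]
    have hnil : IsNilpotent (RingHom.ker (π : TrivSqZeroExt B F →+* Q)) := ⟨2, by
      refine le_antisymm ?_ bot_le
      rw [pow_two (RingHom.ker (π : TrivSqZeroExt B F →+* Q)), Ideal.mul_le]
      intro x hx y hy
      have h : ∀ z : TrivSqZeroExt B F, π z = 0 → z.fst = 0 := fun z hz => by rw [← hεπ, hz, map_zero]
      rw [Ideal.zero_eq_bot, Ideal.mem_bot]
      refine TrivSqZeroExt.ext ?_ ?_
      · rw [TrivSqZeroExt.fst_mul, h x hx, MulZeroClass.zero_mul, TrivSqZeroExt.fst_zero]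
      · rw [TrivSqZeroExt.snd_mul, h x hx, h y hy, TrivSqZeroExt.snd_zero]
        simp⟩
    let s := Algebra.FormallySmooth.liftOfSurjective mk π hπs hnil
    have hs : ∀ c, π (s c) = mk c := Algebra.FormallySmooth.liftOfSurjective_apply mk π hπs hnil
    have hsI : ∀ c ∈ I, (s c).fst = 0 := fun c hc => by
      rw [← hεπ, hs]
      exact hc
    have hs2 : ∀ c ∈ I ^ 2, s c = 0 := fun c hc => by
      rw [pow_two] at hc
      refine Submodule.mul_induction_on hc (fun a ha b hb => ?_) fun a b ha hb => by rw [map_add, ha, hb, add_zero]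
      rw [map_mul]
      refine TrivSqZeroExt.ext ?_ ?_
      · rw [TrivSqZeroExt.fst_mul, hsI a ha, MulZeroClass.zero_mul, TrivSqZeroExt.fst_zero]
      · rw [TrivSqZeroExt.snd_mul, hsI a ha, hsI b hb, TrivSqZeroExt.snd_zero]
        simp
    let sQ : Q →ₐ[B] TrivSqZeroExt B F := Ideal.Quotient.liftₐ (I ^ 2) s hs2
    let h : P →ₗ[B] F := TrivSqZeroExt.sndHom B F ∘ₗ sQ.toLinearMap ∘ₗ P.subtype
    refine Module.Projective.of_split h pr (LinearMap.ext fun p => Subtype.ext ?_)
    obtain ⟨⟨c, hc⟩, rfl⟩ := htoP p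
    change f ((s c).snd) = mk c
    rw [← hs c, hπ, hsI c hc, map_zero, zero_add]
  -- the coefficient maps
  let κ : ℕ → C →ₗ[B] C := fun d =>
    { toFun := fun c => (α c).coeff d
      map_add' := fun a b => by rw [map_add, coeff_add]
      map_smul' := fun b c => by
        rw [Algebra.smul_def, map_mul, hB, coeff_C_mul, RingHom.id_apply, Algebra.smul_def] }
  have hκκ : ∀ d e c, κ d (κ e c) = if d = e then κ e c else 0 := fun d e c => hα.coeff_coeff c d e
  have hκI : ∀ d, ∀ c ∈ I, κ d c ∈ I := fun d c hc => by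
    have e0 : A1.e0 α (κ d c) = if d = 0 then A1.e0 α c else 0 := by
      rw [A1.e0_apply]
      change κ 0 (κ d c) = _
      rw [hκκ]
      by_cases h : d = 0
      · subst h; rfl
      · rw [if_neg (Ne.symm h), if_neg h]
    have hz : A1.e0 α (κ d c) = 0 := by
      rw [e0, h0 c, show ε c = 0 from hc, map_zero, ite_self]
    rw [h0] at hz
    have := congrArg ε hz
    rwa [AlgHom.commutes, map_zero] at this
  have hκ2 : ∀ d, ∀ c ∈ I ^ 2, κ d c ∈ I ^ 2 := fun d c hc => by
    rw [pow_two] at hc ⊢
    refine Submodule.mul_induction_on hc (fun a ha b hb => ?_) fun a b ha hb => by rw [map_add]; exact add_mem ha hb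
    change (α (a * b)).coeff d ∈ _
    rw [map_mul, coeff_mul]
    exact sum_mem fun ij _ => Ideal.mul_mem_mul (hκI _ a ha) (hκI _ b hb)
  let κQ : ℕ → Q →ₗ[B] Q := fun d =>
    (Submodule.mapQ ((I ^ 2).restrictScalars B) ((I ^ 2).restrictScalars B) (κ d) (fun c hc => Submodule.mem_comap.2 ((Submodule.restrictScalars_mem B _ _).2 (hκ2 d c ((Submodule.restrictScalars_mem B _ _).1 hc)))) :)
  have hκQ : ∀ d c, κQ d (mk c) = mk (κ d c) := fun d c => rfl
  let κP : ℕ → P →ₗ[B] P := fun d => ((κQ d) ∘ₗ P.subtype).codRestrict P fun p => by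
    obtain ⟨⟨c, hc⟩, rfl⟩ := htoP p
    exact hmkP _ (hκI d c hc)
  have hκP : ∀ d (c : Iₛ), κP d (toP c) = toP ⟨κ d c.1, hκI d c.1 c.2⟩ := fun d c => rfl
  -- a bound on the degrees of `P`
  let N := G.sup fun g => (α g).natDegree
  have hN : ∀ d, N < d → κP d = 0 := fun d hd => LinearMap.ext_on hgen (by
    rintro _ ⟨g, rfl⟩
    change κP d (toP ⟨g.1, hGI _ g.2⟩) = 0
    rw [hκP]
    refine Subtype.ext ?_
    change mk (κ d g.1) = 0
    rw [show κ d g.1 = 0 from coeff_eq_zero_of_natDegree_lt
      ((Finset.le_sup (f := fun g => (α g).natDegree) g.2).trans_lt hd), map_zero])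
  have hκPκP : ∀ d e p, κP d (κP e p) = if d = e then κP e p else 0 := fun d e p => by
    obtain ⟨c, rfl⟩ := htoP p
    rw [hκP, hκP]
    refine Subtype.ext ?_
    change mk (κ d (κ e c.1)) = _
    rw [hκκ]
    split_ifs <;> first | rfl | exact map_zero _
  haveI := hproj
  obtain ⟨σ₀, hσ₀⟩ := Module.projective_lifting_property toP LinearMap.id htoP
  let σ : P →ₗ[B] C := ∑ d ∈ Finset.range (N + 1), κ d ∘ₗ Iₛ.subtype ∘ₗ σ₀ ∘ₗ κP d
  have hσI : ∀ p, σ p ∈ I := fun p => by
    simp only [σ, LinearMap.sum_apply]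
    exact sum_mem fun d _ => hκI d _ (σ₀ _).2
  have hσmk : ∀ p : P, mk (σ p) = p := fun p => by
    obtain ⟨c, hpc⟩ := htoP p
    simp only [σ, LinearMap.sum_apply, map_sum, LinearMap.comp_apply]
    have e : ∀ d, mk (κ d (Iₛ.subtype (σ₀ (κP d p)))) = κQ d (mk c.1) := fun d => by
      rw [← hκQ]
      have h1 : mk (Iₛ.subtype (σ₀ (κP d p))) = ((κP d p : P) : Q) :=
        congrArg Subtype.val (DFunLike.congr_fun hσ₀ (κP d p))
      rw [h1]
      have h2 := congrArg Subtype.val (hκPκP d d p)
      rw [if_pos rfl] at h2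
      refine (show κQ d ((κP d p : P) : Q) = _ from h2).trans ?_
      rw [← hpc]
      rfl
    rw [Finset.sum_congr rfl fun d _ => e d, ← hpc]
    change ∑ d ∈ Finset.range (N + 1), κQ d (mk c.1) = mk c.1
    conv_rhs => rw [hα.sum_coeff c.1, map_sum]
    rw [Finset.sum_congr rfl fun d _ => hκQ d c.1]
    refine Finset.sum_congr_of_eq_on_inter ?_ ?_ fun d _ _ => rfl
    · intro d _ hd
      change mk ((α c.1).coeff d) = 0
      rw [notMem_support_iff.1 hd, map_zero]
    · intro d _ hd
      have hd' : N < d := by simpa [Nat.lt_succ_iff] using hd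
      exact congrArg Subtype.val (DFunLike.congr_fun (hN d hd') (toP c))
  have hσhom : ∀ d p, κP d p = p → κ d (σ p) = σ p := fun d p hp => by
    simp only [σ, LinearMap.sum_apply, map_sum, LinearMap.comp_apply]
    refine Finset.sum_congr rfl fun e _ => ?_
    rw [hκκ]
    by_cases h : d = e
    · rw [if_pos h]
    · rw [if_neg h]
      conv_rhs => rw [← hp, hκPκP, if_neg (Ne.symm h), map_zero, map_zero, map_zero]
  let φ := SymmetricAlgebra.lift σ
  have hφι : ∀ p, φ (SymmetricAlgebra.ι B P p) = σ p := SymmetricAlgebra.lift_ι_apply σ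
  have hsurj : Function.Surjective φ := by
    suffices hd : ∀ d c, κ d c ∈ φ.range by
      intro c
      have : c ∈ φ.range := by
        rw [hα.sum_coeff c]
        exact sum_mem fun d _ => hd d c
      exact this
    intro d
    induction d using Nat.strong_induction_on with
    | _ d ih =>
      intro c
      rcases Nat.eq_zero_or_pos d with rfl | hd
      · rw [show κ 0 c = algebraMap B C (ε c) from h0 c]
        exact φ.range.algebraMap_mem _
      · let y := κ d c
        have hy : κ d y = y := by rw [hκκ, if_pos rfl]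
        have hyI : y ∈ I := by
          have h1 : A1.e0 α y = 0 := by
            rw [A1.e0_apply]
            change κ 0 (κ d c) = 0
            rw [hκκ, if_neg (by omega)]
          rw [h0] at h1
          have := congrArg ε h1
          rwa [AlgHom.commutes, map_zero] at this
        let p := toP ⟨y, hyI⟩
        have hp : κP d p = p := by
          rw [hκP]
          exact congrArg toP (Subtype.ext hy)
        have hr : y - σ p ∈ I ^ 2 := Ideal.Quotient.eq.1 ((hσmk p).symm)
        suffices hsq : ∀ r ∈ I ^ 2, κ d r ∈ φ.range by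
          have := hsq _ hr
          rw [map_sub, hy, hσhom d p hp] at this
          have h2 := add_mem this (show σ p ∈ φ.range from ⟨_, hφι p⟩)
          rwa [sub_add_cancel] at h2
        intro r hr
        rw [pow_two] at hr
        refine Submodule.mul_induction_on hr (fun a ha b hb => ?_) fun a b ha hb => by rw [map_add]; exact add_mem ha hb
        change (α (a * b)).coeff d ∈ _
        rw [map_mul, coeff_mul]
        refine sum_mem fun ij hij => ?_
        rw [Finset.mem_antidiagonal] at hij
        have hz : ∀ x ∈ I, κ 0 x = 0 := fun x hx => by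
          rw [show κ 0 x = algebraMap B C (ε x) from h0 x, show ε x = 0 from hx, map_zero]
        rcases Nat.eq_zero_or_pos ij.1 with h1 | h1
        · rw [h1, show (α a).coeff 0 = 0 from hz a ha, MulZeroClass.zero_mul]
          exact zero_mem _
        rcases Nat.eq_zero_or_pos ij.2 with h2 | h2
        · rw [h2, show (α b).coeff 0 = 0 from hz b hb, MulZeroClass.mul_zero]
          exact zero_mem _
        exact mul_mem (ih ij.1 (by omega) a) (ih ij.2 (by omega) b)
  have hinj : Function.Injective φ := injective_of_split ε φ (fun p => by rw [hφι]; exact hσI p) hsurj fun p hp => by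
    rw [hφι] at hp
    refine Subtype.ext ?_
    rw [← hσmk p]
    exact Ideal.Quotient.eq_zero_iff_mem.2 hp
  exact ⟨P, inferInstance, inferInstance, hfin, hproj, ⟨AlgEquiv.ofBijective φ ⟨hinj, hsurj⟩⟩⟩

end Groth.Agent.MagnetLib.SymSplit
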