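import Groth.Agent.MagnetLib.A1Iso
import Groth.Agent.MagnetLib.SymSplit
import Mathlib.AlgebraicGeometry.Morphisms.Smooth

/-!
# Smooth affine schemes contracted by the affine line
-/

set_option autoImplicit false
set_option backward.isDefEq.respectTransparency false

universe u

noncomputable section

open CategoryTheory CategoryTheory.Limits MonoidalCategory CartesianMonoidalCategory AlgebraicGeometry Opposite

namespace Groth.Agent.MagnetLib.A1

open Magnet Magnet.MonAct

variable {S : Scheme.{u}} {Q Q₀ : Over S} [IsAffine Q.left]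

/-- An affine scheme which is smooth over an affine scheme to which it is contracted by the affine line is the total space
of a vector bundle over it. -/
theorem exists_symmetricAlgebra_of_contraction (b : MonAct (AMonS S ℕ) Q) (jQ : Q ⟶ Q₀) [Smooth jQ.left]
    (σ : Q₀ ⟶ Q) (hσ : σ ≫ jQ = 𝟙 Q₀) (hretr : retr b = jQ ≫ σ) (hact : b.act ≫ jQ = snd _ _ ≫ jQ)
    (B : Type u) [CommRing B] (ι₀ : Q₀.left ≅ Spec (CommRingCat.of B)) :
    ∃ (P : Type u) (_ : AddCommGroup P) (_ : Module B P), Module.Finite B P ∧ Module.Projective B P ∧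
      ∃ e : Q.left ≅ Spec (CommRingCat.of (SymmetricAlgebra B P)),
        e.hom ≫ Spec.map (CommRingCat.ofHom (algebraMap B (SymmetricAlgebra B P))) = jQ.left ≫ ι₀.hom := by
  let U : Q.left.Opens := ⊤
  have hU : IsAffineOpen U := isAffineOpen_top Q.left
  have hS : Stable b U := fun _ _ => trivial
  let α := coaction b hU hS
  have hfs : hU.fromSpec = Q.left.isoSpec.inv := IsAffineOpen.fromSpec_top
  haveI : IsIso hU.fromSpec := by rw [hfs]; infer_instance
  obtain ⟨φ, hφ⟩ := Spec.map_surjective (hU.fromSpec ≫ jQ.left ≫ ι₀.hom)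
  obtain ⟨ε, hε⟩ := Spec.map_surjective (ι₀.inv ≫ σ.left ≫ inv hU.fromSpec)
  letI : Algebra B Γ(Q.left, U) := φ.hom.toAlgebra
  have hεφ : φ ≫ ε = 𝟙 _ := Spec.map_injective (by
    rw [Spec.map_comp, hφ, hε, Spec.map_id, Category.assoc, Category.assoc, IsIso.inv_hom_id_assoc,
      ← Over.comp_left_assoc, hσ]
    simp)
  let εA : Γ(Q.left, U) →ₐ[B] B :=
    { ε.hom with commutes' := fun r => congr($hεφ r) }
  have hB : ∀ r, α (algebraMap B Γ(Q.left, U) r) = Polynomial.C (algebraMap B Γ(Q.left, U) r) := by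
    have h : φ ≫ CommRingCat.ofHom α = φ ≫ CommRingCat.ofHom Polynomial.C := Spec.map_injective (by
      rw [Spec.map_comp, Spec.map_comp, hφ, ← Category.assoc, coaction_spec]
      have h : (CartesianMonoidalCategory.lift (tPt _ Polynomial.X) (polyPt hU) ≫ b.act) ≫ jQ = polyPt hU ≫ jQ := by
        rw [Category.assoc, hact, lift_snd_assoc]
      exact congrArg (· ≫ ι₀.hom) (congrArg CommaMorphism.left h))
    exact fun r => congr($h r)
  have h0 : ∀ c, e0 α c = algebraMap B Γ(Q.left, U) (εA c) := by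
    let x : Over.mk (hU.fromSpec ≫ Q.hom) ⟶ Q := Over.homMk hU.fromSpec rfl
    have hx := retr_eval b hU hS (hU.fromSpec ≫ Q.hom) (RingHom.id _) x (by
      erw [Spec.map_id, Category.id_comp]
      rfl)
    rw [hretr, RingHom.id_comp] at hx
    have h : CommRingCat.ofHom (e0 α) = ε ≫ φ := Spec.map_injective (by
      rw [← cancel_mono hU.fromSpec, ← hx, Spec.map_comp, hφ, hε]
      simp only [Category.assoc, IsIso.inv_hom_id, Category.comp_id, Iso.hom_inv_id_assoc]
      rfl)
    exact fun c => congr($h c)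
  have hsm : (φ.hom).Smooth := by
    have : Smooth (Spec.map φ) := by rw [hφ]; infer_instance
    exact (HasRingHomProperty.Spec_iff (P := @Smooth)).1 this
  haveI : Algebra.Smooth B Γ(Q.left, U) := hsm
  obtain ⟨P, _, _, hP₁, hP₂, ⟨f⟩⟩ := SymSplit.exists_algEquiv_symmetricAlgebra εA α (isCoact b hU hS) hB h0
  refine ⟨P, inferInstance, inferInstance, hP₁, hP₂,
    (asIso hU.fromSpec).symm ≪≫ Scheme.Spec.mapIso f.toRingEquiv.toCommRingCatIso.op, ?_⟩
  have h : CommRingCat.ofHom (algebraMap B (SymmetricAlgebra B P)) ≫ f.toRingEquiv.toCommRingCatIso.hom = φ :=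
    CommRingCat.hom_ext (RingHom.ext fun r => f.commutes r)
  rw [Iso.trans_hom, Category.assoc]
  change inv hU.fromSpec ≫ Spec.map _ ≫ Spec.map _ = _
  rw [← Spec.map_comp, Iso.op_hom, Quiver.Hom.unop_op, h, hφ, IsIso.inv_hom_id_assoc]

end Groth.Agent.MagnetLib.A1
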